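import Cfsg.Agent.H3.Ind

/-!
# Trivial intersection sets and induction (helper3)
-/

set_option autoImplicit false
set_option linter.style.haveILetI false
set_option linter.unusedSimpArgs false
open Cfsg
open scoped ComplexConjugate

namespace Cfsg.Agent.H3

universe u v w

section

variable {G : Type u} [Group G] [Fintype G]

/-- General version: `N` a subgroup, `T ⊆ N`, elements conjugating a non-identity element of `T`
into `T` lie in `N`; `ψ` vanishes off `T`. Then the induced function agrees with `ψ` on `T \ 1`. -/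
theorem indFun_eq_of_TI (N : Subgroup G) (T : Set G)
    (hTI : ∀ g : G, g ∉ N → ∀ t ∈ T, g * t * g⁻¹ ∈ T → t = 1)
    (ψ : N → ℂ) (hψ : IsClassFunction N ψ)
    (hψT : ∀ x : N, (x : G) ∉ T → ψ x = 0) (t : N) (htT : (t : G) ∈ T) (ht1 : t ≠ 1) :
    indFun N ψ t = ψ t := by
  classical
  haveI := Fintype.ofFinite N
  have hN : (Nat.card N : ℂ) ≠ 0 := by exact_mod_cast Nat.card_pos.ne'
  have h1 : ∀ x : G, extendByZero N ψ (x⁻¹ * t * x) = extendByZero N (fun _ => ψ t) x := by
    intro x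
    by_cases hx : x ∈ N
    · rw [extendByZero_mem N _ hx]
      have h2 : x⁻¹ * t * x ∈ N := N.mul_mem (N.mul_mem (N.inv_mem hx) t.2) hx
      rw [extendByZero_mem N _ h2]
      have h3 := hψ t (⟨x, hx⟩⁻¹ : N)
      rw [← h3]
      congr 1
      ext
      simp
    · rw [extendByZero_not_mem N _ hx]
      by_cases hxt : x⁻¹ * t * x ∈ N
      · rw [extendByZero_mem N _ hxt]
        apply hψT
        intro hmem
        have h4 : x⁻¹ ∉ N := fun h => hx (by simpa using N.inv_mem h)
        have h5 := hTI x⁻¹ h4 t htT (by simpa using hmem)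
        exact ht1 (Subtype.ext h5)
      · rw [extendByZero_not_mem N _ hxt]
  rw [indFun, Finset.sum_congr rfl fun x _ => h1 x]
  have h6 := sum_extendByZero_mul N (fun _ => ψ t) (fun _ => (1 : ℂ))
  simp only [mul_one] at h6
  rw [h6, Finset.sum_const, Finset.card_univ, nsmul_eq_mul, ← Nat.card_eq_fintype_card,
    ← mul_assoc, inv_mul_cancel₀ hN, one_mul]

theorem classInner_indFun_of_TI (N : Subgroup G) [Fintype N] (T : Set G)
    (hTI : ∀ g : G, g ∉ N → ∀ t ∈ T, g * t * g⁻¹ ∈ T → t = 1)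
    (ψ θ : N → ℂ) (hθ : IsClassFunction N θ)
    (hψT : ∀ x : N, (x : G) ∉ T → ψ x = 0) (hθT : ∀ x : N, (x : G) ∉ T → θ x = 0)
    (hψ1 : ψ 1 = 0) :
    classInner (indFun N ψ) (indFun N θ) = classInner ψ θ := by
  rw [frobenius_reciprocity N ψ (indFun_classFun N θ)]
  simp only [classInner]
  congr 1
  refine Finset.sum_congr rfl fun x _ => ?_
  by_cases hx1 : x = 1
  · subst hx1; rw [hψ1]; simp
  · by_cases hxT : (x : G) ∈ T
    · rw [indFun_eq_of_TI N T hTI θ hθ hθT x hxT hx1]
    · rw [hψT x hxT]; simp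

/-- same with `θ 1 = 0` -/
theorem classInner_indFun_of_TI' (N : Subgroup G) [Fintype N] (T : Set G)
    (hTI : ∀ g : G, g ∉ N → ∀ t ∈ T, g * t * g⁻¹ ∈ T → t = 1)
    (ψ θ : N → ℂ) (hψ : IsClassFunction N ψ)
    (hψT : ∀ x : N, (x : G) ∉ T → ψ x = 0) (hθT : ∀ x : N, (x : G) ∉ T → θ x = 0)
    (hθ1 : θ 1 = 0) :
    classInner (indFun N ψ) (indFun N θ) = classInner ψ θ := by
  rw [← classInner_conj_symm, classInner_indFun_of_TI N T hTI θ ψ hψ hθT hψT hθ1,
    classInner_conj_symm]

end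

end Cfsg.Agent.H3
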