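import Cfsg.Agent.H3.CohH

/-!
# Coherence: systems of irreducible characters (helper3)
-/

set_option autoImplicit false
set_option linter.style.haveILetI false
set_option linter.unusedSimpArgs false
set_option linter.unusedSectionVars false
set_option linter.unusedVariables false
open Cfsg
open scoped ComplexConjugate

namespace Cfsg.Agent.H3

universe u v w

variable {L : Type u} [Group L] [Fintype L] {G : Type v} [Group G] [Fintype G]
variable {τ : (L → ℂ) → (G → ℂ)}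

theorem signed_orth4 {α β γ δ : G → ℂ} (hα : SIrr α) (hβ : SIrr β) (hγ : SIrr γ) (hδ : SIrr δ)
    {u v : ℝ} (hu : u ≠ 0) (hv : v ≠ 0) (hab : classInner α β = 0) (hcd : classInner γ δ = 0)
    (hmix : classInner (α - β) ((u : ℂ) • γ - (v : ℂ) • δ) = 0) (h1 : α 1 = β 1)
    (h2 : (u : ℂ) * γ 1 = (v : ℂ) * δ 1) : classInner α γ = 0 ∧ classInner α δ = 0 ∧
      classInner β γ = 0 ∧ classInner β δ = 0 := by
  have hba : classInner β α = 0 := by rw [← classInner_conj_symm, hab, map_zero]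
  have hdc : classInner δ γ = 0 := by rw [← classInner_conj_symm, hcd, map_zero]
  have e1 : classInner (α - β) ((v : ℂ) • δ - (u : ℂ) • γ) = 0 := by
    rw [← neg_sub ((u : ℂ) • γ) ((v : ℂ) • δ), classInner_neg_right, hmix, neg_zero]
  have e2 : classInner (β - α) ((u : ℂ) • γ - (v : ℂ) • δ) = 0 := by
    rw [← neg_sub α β, classInner_neg_left, hmix, neg_zero]
  have e3 : classInner (β - α) ((v : ℂ) • δ - (u : ℂ) • γ) = 0 := by
    rw [← neg_sub α β, classInner_neg_left, e1, neg_zero]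
  exact ⟨signed_orth hα hβ hγ hδ hu hv hab hcd hmix h1 h2,
    signed_orth hα hβ hδ hγ hv hu hab hdc e1 h1 h2.symm,
    signed_orth hβ hα hγ hδ hu hv hba hcd e2 h1.symm h2,
    signed_orth hβ hα hδ hγ hv hu hba hdc e3 h1.symm h2.symm⟩

/-- orthogonality of differences of irreducible characters -/
theorem irr_diff_orth {a b c d : IrrCharacter G} (hab : a ≠ b) (hcd : c ≠ d)
    (h : classInner ((a : G → ℂ) - (b : G → ℂ)) ((c : G → ℂ) - (d : G → ℂ)) = 0)
    (h1 : (a : G → ℂ) 1 = (b : G → ℂ) 1) (h2 : (c : G → ℂ) 1 = (d : G → ℂ) 1) :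
    classInner (a : G → ℂ) c = 0 ∧ classInner (a : G → ℂ) d = 0 ∧ classInner (b : G → ℂ) c = 0 ∧
      classInner (b : G → ℂ) d = 0 := by
  have hne : ∀ {x y : IrrCharacter G}, x ≠ y → classInner (x : G → ℂ) y = 0 := fun hxy =>
    classInner_of_irr_ne (Subtype.prop _) (Subtype.prop _) (fun h => hxy (Subtype.ext h))
  exact signed_orth4 (u := 1) (v := 1) (Or.inl a.2) (Or.inl b.2) (Or.inl c.2) (Or.inl d.2)
    one_ne_zero one_ne_zero (hne hab) (hne hcd) (by simpa using h) h1 (by simpa using h2)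

/-- **PF 5.?**: a conjugation-closed set of non-real irreducible characters is subcoherent -/
theorem irr_system {S : Set (L → ℂ)} (hS : S.Nonempty) (hirr : ∀ χ ∈ S, IsIrrCharacter L χ)
    (hconj : ∀ χ ∈ S, conjFun χ ∈ S ∧ conjFun χ ≠ χ)
    (hτ : IsLinearIsometryOn (zspanOn S ({1}ᶜ : Set L)) τ)
    (hτ1 : ∀ α ∈ zspanOn S ({1}ᶜ : Set L), τ α 1 = 0) :
    ∃ R : (L → ℂ) → Finset (G → ℂ), IsCoherenceSystem S τ R := by
  classical
  have hmem : ∀ χ ∈ S, χ - conjFun χ ∈ zspanOn S ({1}ᶜ : Set L) := by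
    intro χ hχ
    rw [zspanOn_one]
    refine ⟨zspan_sub (zspan_mem hχ) (zspan_mem (hconj χ hχ).1), ?_⟩
    obtain ⟨n, hn⟩ := char_one_eq_nat (irr_isChar (hirr χ hχ))
    show χ 1 - conj (χ 1) = 0
    rw [hn]; simp
  have horthc : ∀ χ ∈ S, classInner χ (conjFun χ) = 0 := fun χ hχ =>
    classInner_of_irr_ne (hirr χ hχ) (hirr _ (hconj χ hχ).1) (hconj χ hχ).2.symm
  have key : ∀ χ : L → ℂ, ∃ a b : IrrCharacter G, χ ∈ S → (a ≠ b ∧
      τ (χ - conjFun χ) = (a : G → ℂ) - (b : G → ℂ)) := by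
    intro χ
    by_cases hχ : χ ∈ S
    · have h1 := hτ.2.2.2 _ (hmem χ hχ)
      have h2 : classInner (τ (χ - conjFun χ)) (τ (χ - conjFun χ)) = 2 := by
        rw [hτ.2.2.1 _ (hmem χ hχ) _ (hmem χ hχ)]
        have h3 : classInner (conjFun χ) χ = 0 := by
          rw [← classInner_conj_symm, horthc χ hχ, map_zero]
        simp only [classInner_sub_left, classInner_sub_right, h3, horthc χ hχ,
          classInner_self_of_irr (hirr χ hχ), classInner_self_of_irr (hirr _ (hconj χ hχ).1)]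
        ring
      obtain ⟨a, b, hab, h⟩ := gen_norm_two h1 (hτ1 _ (hmem χ hχ)) h2
      exact ⟨a, b, fun _ => ⟨hab, h⟩⟩
    · exact ⟨⟨_, isIrr_one⟩, ⟨_, isIrr_one⟩, fun h => absurd h hχ⟩
  choose a b hab using key
  have hval : ∀ χ ∈ S, (a χ : G → ℂ) 1 = (b χ : G → ℂ) 1 := by
    intro χ hχ
    have h1 := hτ1 _ (hmem χ hχ)
    rw [(hab χ hχ).2, Pi.sub_apply] at h1
    exact sub_eq_zero.1 h1
  have hpos : ∀ x y : IrrCharacter G, (x : G → ℂ) ≠ -(y : G → ℂ) := by
    intro x y h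
    obtain ⟨n, hn0, hn⟩ := irr_one_eq_nat x.2
    obtain ⟨m, hm0, hm⟩ := irr_one_eq_nat y.2
    have h1 := congrFun h 1
    rw [Pi.neg_apply, hn, hm] at h1
    have h2 : ((n + m : ℕ) : ℂ) = 0 := by push_cast; rw [h1]; ring
    have h3 : n + m = 0 := by exact_mod_cast h2
    omega
  let R : (L → ℂ) → Finset (G → ℂ) := fun χ => {(a χ : G → ℂ), -(b χ : G → ℂ)}
  have hR : ∀ χ α, α ∈ R χ ↔ α = (a χ : G → ℂ) ∨ α = -(b χ : G → ℂ) := by
    intro χ α
    simp [R]
  have hab0 : ∀ χ ∈ S, classInner (a χ : G → ℂ) (b χ) = 0 := fun χ hχ =>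
    classInner_of_irr_ne (a χ).2 (b χ).2 (fun h => (hab χ hχ).1 (Subtype.ext h))
  have hba0 : ∀ χ ∈ S, classInner (b χ : G → ℂ) (a χ) = 0 := fun χ hχ => by
    rw [← classInner_conj_symm, hab0 χ hχ, map_zero]
  refine ⟨R, ⟨hS, fun χ hχ => irr_isChar (hirr χ hχ), fun χ hχ => (hconj χ hχ).1,
    fun χ hχ => (hconj χ hχ).2, hτ, hτ1, fun χ hχ φ hφ hne =>
      classInner_of_irr_ne (hirr χ hχ) (hirr φ hφ) hne, ?_, ?_, ?_, ?_⟩⟩
  · intro χ hχ α hα β hβ
    rw [hR] at hα hβ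
    rcases hα with rfl | rfl <;> rcases hβ with rfl | rfl
    · rw [if_pos rfl, classInner_self_of_irr (a χ).2]
    · rw [if_neg (hpos _ _), classInner_neg_right, hab0 χ hχ, neg_zero]
    · rw [if_neg (fun h => hpos _ _ h.symm), classInner_neg_left, hba0 χ hχ, neg_zero]
    · rw [if_pos rfl, classInner_neg_left, classInner_neg_right, neg_neg,
        classInner_self_of_irr (b χ).2]
  · intro χ hχ α hα
    rw [hR] at hα
    rcases hα with rfl | rfl
    · exact isGen_of_irr (a χ).2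
    · exact isGen_neg (isGen_of_irr (b χ).2)
  · intro χ hχ
    rw [(hab χ hχ).2]
    show _ = ∑ α ∈ ({(a χ : G → ℂ), -(b χ : G → ℂ)} : Finset (G → ℂ)), α
    rw [Finset.sum_pair (hpos _ _), sub_eq_add_neg]
  · intro χ hχ φ hφ h1 h2 α hα β hβ
    have h3 : classInner (conjFun φ) χ = 0 := by
      rw [← conjFun_conjFun χ, classInner_conjFun, h2, map_zero]
    have h4 : classInner (conjFun φ) (conjFun χ) = 0 := by
      rw [classInner_conjFun, h1, map_zero]
    have h5 : classInner (τ (φ - conjFun φ)) (τ (χ - conjFun χ)) = 0 := by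
      rw [hτ.2.2.1 _ (hmem φ hφ) _ (hmem χ hχ)]
      simp only [classInner_sub_left, classInner_sub_right, h1, h2, h3, h4]
      ring
    rw [(hab χ hχ).2, (hab φ hφ).2] at h5
    obtain ⟨e1, e2, e3, e4⟩ := irr_diff_orth (hab φ hφ).1 (hab χ hχ).1 h5 (hval φ hφ) (hval χ hχ)
    rw [hR] at hα hβ
    rcases hα with rfl | rfl <;> rcases hβ with rfl | rfl
    · exact e1
    · rw [classInner_neg_right, e2, neg_zero]
    · rw [classInner_neg_left, e3, neg_zero]
    · rw [classInner_neg_left, classInner_neg_right, e4, neg_zero, neg_zero]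

end Cfsg.Agent.H3
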