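import Cfsg.Agent.H3.PrimeTI
import Cfsg.Agent.H3.CohI
import Cfsg.Agent.H11.PF10

/-!
# Prime TI data: the exceptional characters (PF 4.3) (helper3)
-/

set_option autoImplicit false
set_option linter.style.haveILetI false
set_option linter.unusedSimpArgs false
set_option linter.unusedSectionVars false
set_option linter.unusedVariables false
open Cfsg Cfsg.Agent.H11.PF
open scoped ComplexConjugate

namespace Cfsg.Agent.H3

universe u v w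

/-- expansion of a function on an abelian group -/
theorem expand_hf {W : Type u} [Group W] [Fintype W] [Fintype (W →* ℂˣ)]
    (hc : ∀ a b : W, a * b = b * a) (f : W → ℂ) (w : W) :
    f w = ∑ η : W →* ℂˣ, classInner f (hf η) * (η w : ℂ) := by
  classical
  have h1 : ∀ η : W →* ℂˣ, classInner f (hf η) * (η w : ℂ) =
      (Nat.card W : ℂ)⁻¹ * ∑ x : W, f x * (η (x⁻¹ * w) : ℂ) := by
    intro η
    rw [classInner, mul_assoc, Finset.sum_mul]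
    congr 1
    refine Finset.sum_congr rfl fun x _ => ?_
    rw [hf_apply, conj_hf, map_mul, Units.val_mul]
    ring
  rw [Finset.sum_congr rfl fun η _ => h1 η, ← Finset.mul_sum, Finset.sum_comm]
  have h2 : ∀ x : W, ∑ η : W →* ℂˣ, f x * (η (x⁻¹ * w) : ℂ) =
      if x = w then f x * (Nat.card W : ℂ) else 0 := by
    intro x
    rw [← Finset.mul_sum]
    have h3 := ann_sum hc (⊥ : Subgroup W) (x⁻¹ * w)
    have h4 : ∀ φ : W →* ℂˣ, IsAnn (⊥ : Subgroup W) φ := by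
      intro φ u hu
      rw [Subgroup.mem_bot.1 hu, map_one]
    simp only [h4, if_true] at h3
    rw [h3]
    by_cases hx : x = w
    · rw [if_pos hx, if_pos (by rw [hx]; simp)]
      simp
    · rw [if_neg hx, if_neg, mul_zero]
      rw [Subgroup.mem_bot]
      intro h; exact hx (inv_mul_eq_one.1 h)
  rw [Finset.sum_congr rfl fun x _ => h2 x, Finset.sum_ite_eq' Finset.univ w,
    if_pos (Finset.mem_univ _)]
  have h5 : (Nat.card W : ℂ) ≠ 0 := card_ne_zeroC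
  field_simp

namespace PTI

variable {L : Type u} [Group L] [Finite L] {K W₁ W₂ : Subgroup L} (h : PTI K W₁ W₂)

include h

theorem inf₂ : W₁ ⊓ W₂ = ⊥ := by
  rw [eq_bot_iff, ← h.inf]
  exact le_inf (inf_le_right.trans h.le) inf_le_left

theorem coprime₂ : Nat.Coprime (Nat.card W₁) (Nat.card W₂) :=
  Nat.Coprime.coprime_dvd_right (Subgroup.card_dvd_of_le h.le) h.coprime

theorem mem_sup {x : L} (hx : x ∈ W₁ ⊔ W₂) : ∃ a ∈ W₁, ∃ b ∈ W₂, x = a * b := by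
  let M : Subgroup L := {
    carrier := {x | ∃ a ∈ W₁, ∃ b ∈ W₂, x = a * b}
    mul_mem' := by
      rintro _ _ ⟨a, ha, b, hb, rfl⟩ ⟨c, hc, d, hd, rfl⟩
      refine ⟨a * c, W₁.mul_mem ha hc, b * d, W₂.mul_mem hb hd, ?_⟩
      have := h.comm hc hb
      calc a * b * (c * d) = a * (b * c) * d := by group
        _ = a * (c * b) * d := by rw [this]
        _ = _ := by group
    one_mem' := ⟨1, W₁.one_mem, 1, W₂.one_mem, by simp⟩
    inv_mem' := by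
      rintro _ ⟨a, ha, b, hb, rfl⟩
      refine ⟨a⁻¹, W₁.inv_mem ha, b⁻¹, W₂.inv_mem hb, ?_⟩
      rw [mul_inv_rev, h.comm (W₁.inv_mem ha) (W₂.inv_mem hb)] }
  have h1 : W₁ ⊔ W₂ ≤ M := by
    apply sup_le
    · intro a ha; exact ⟨a, ha, 1, W₂.one_mem, by simp⟩
    · intro b hb; exact ⟨1, W₁.one_mem, b, hb, by simp⟩
  exact h1 hx

theorem comm_sup {a b : L} (ha : a ∈ W₁ ⊔ W₂) (hb : b ∈ W₁ ⊔ W₂) : a * b = b * a := by
  obtain ⟨x, hx, y, hy, rfl⟩ := h.mem_sup ha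
  obtain ⟨z, hz, t, ht, rfl⟩ := h.mem_sup hb
  letI := h.cyc₁.commGroup
  letI := h.cyc₂.commGroup
  have e1 : x * z = z * x := congrArg Subtype.val (mul_comm (⟨x, hx⟩ : W₁) ⟨z, hz⟩)
  have e2 : y * t = t * y := congrArg Subtype.val (mul_comm (⟨y, hy⟩ : W₂) ⟨t, ht⟩)
  have e3 := h.comm hx ht
  have e4 := h.comm hz hy
  calc x * y * (z * t) = x * (y * z) * t := by group
    _ = x * (z * y) * t := by rw [e4]
    _ = (x * z) * (y * t) := by group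
    _ = (z * x) * (t * y) := by rw [e1, e2]
    _ = z * (x * t) * y := by group
    _ = z * (t * x) * y := by rw [e3]
    _ = _ := by group

theorem pow_part {a b : L} (ha : a ∈ W₁) (hb : b ∈ W₂) : ∃ n : ℤ, (a * b) ^ n = a := by
  obtain ⟨s, t, hst⟩ := Nat.isCoprime_iff_coprime.mpr h.coprime₂
  refine ⟨(Nat.card W₂ : ℤ) * t, ?_⟩
  rw [(show Commute a b from h.comm ha hb).mul_zpow]
  have h1 : b ^ ((Nat.card W₂ : ℤ) * t) = 1 := by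
    rw [zpow_mul, zpow_natCast]
    have : b ^ Nat.card W₂ = 1 := by
      have := pow_card_eq_one' (x := (⟨b, hb⟩ : W₂))
      exact congrArg Subtype.val this
    rw [this, one_zpow]
  have h2 : a ^ ((Nat.card W₁ : ℤ) * s) = 1 := by
    rw [zpow_mul, zpow_natCast]
    have : a ^ Nat.card W₁ = 1 := by
      have := pow_card_eq_one' (x := (⟨a, ha⟩ : W₁))
      exact congrArg Subtype.val this
    rw [this, one_zpow]
  have h4 : (Nat.card W₂ : ℤ) * t = 1 - (Nat.card W₁ : ℤ) * s := by rw [← hst]; ring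
  rw [h1, mul_one, h4, zpow_sub, h2, zpow_one]; simp

/-- the set `W ∖ W₂` is TI with normalizer `W` -/
theorem TI {g : L} {t : L} (ht : t ∈ W₁ ⊔ W₂) (ht2 : t ∉ W₂) (hgt : g * t * g⁻¹ ∈ W₁ ⊔ W₂) :
    g ∈ W₁ ⊔ W₂ := by
  haveI := h.normal
  obtain ⟨k, hk, w, hw, rfl⟩ := h.exists_mul g
  have hwW : w ∈ W₁ ⊔ W₂ := Subgroup.mem_sup_left hw
  have hwt : w * t * w⁻¹ = t := by
    rw [h.comm_sup hwW ht]; group
  have hkt : k * t * k⁻¹ ∈ W₁ ⊔ W₂ := by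
    have h2 : k * w * t * (k * w)⁻¹ = k * (w * t * w⁻¹) * k⁻¹ := by group
    rw [h2, hwt] at hgt
    exact hgt
  obtain ⟨a, ha, b, hb, rfl⟩ := h.mem_sup ht
  have ha1 : a ≠ 1 := by
    rintro rfl
    exact ht2 (by simpa using hb)
  obtain ⟨n, hn⟩ := h.pow_part ha hb
  have hka : k * a * k⁻¹ ∈ W₁ ⊔ W₂ := by
    have h1 := (W₁ ⊔ W₂).zpow_mem hkt n
    rwa [conj_zpow, hn] at h1
  obtain ⟨c, hc, d, hd, hcd⟩ := h.mem_sup hka
  have hd1 : d = 1 := by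
    have h1 : (c * d) ^ Nat.card W₁ = 1 := by
      rw [← hcd, conj_pow]
      have : a ^ Nat.card W₁ = 1 := by
        have := pow_card_eq_one' (x := (⟨a, ha⟩ : W₁))
        exact congrArg Subtype.val this
      rw [this]; group
    rw [(show Commute c d from h.comm hc hd).mul_pow] at h1
    have h2 : c ^ Nat.card W₁ = 1 := by
      have := pow_card_eq_one' (x := (⟨c, hc⟩ : W₁))
      exact congrArg Subtype.val this
    rw [h2, one_mul] at h1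
    have h3 : orderOf d ∣ Nat.card W₁ := orderOf_dvd_of_pow_eq_one h1
    have h4 : orderOf d ∣ Nat.card W₂ := by
      have := orderOf_dvd_natCard (⟨d, hd⟩ : W₂)
      rwa [Subgroup.orderOf_mk] at this
    exact orderOf_eq_one_iff.1 (Nat.eq_one_of_dvd_coprimes h.coprime₂ h3 h4)
  rw [hd1, mul_one] at hcd
  have hmem : k * a * k⁻¹ * a⁻¹ ∈ K ⊓ W₁ := by
    refine ⟨?_, ?_⟩
    · have h1 : k * a * k⁻¹ * a⁻¹ = k * (a * k⁻¹ * a⁻¹) := by group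
      rw [h1]
      exact K.mul_mem hk (h.normal.conj_mem _ (K.inv_mem hk) _)
    · rw [hcd]; exact W₁.mul_mem hc (W₁.inv_mem ha)
  rw [h.inf, Subgroup.mem_bot] at hmem
  have hkc : k * a = a * k := by
    calc k * a = (k * a * k⁻¹ * a⁻¹) * a * k := by group
      _ = a * k := by rw [hmem, one_mul]
  have hkW : k ∈ W₂ := by
    rw [← h.cent a ha ha1]
    exact ⟨hk, Subgroup.mem_centralizer_singleton_iff.2 hkc⟩
  exact (W₁ ⊔ W₂).mul_mem (Subgroup.mem_sup_right hkW) hwW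

theorem card_sup : Nat.card ↥(W₁ ⊔ W₂) = Nat.card W₁ * Nat.card W₂ := by
  rw [← Nat.card_prod]
  symm
  refine Nat.card_congr (Equiv.ofBijective (fun p : W₁ × W₂ =>
    (⟨p.1 * p.2, Subgroup.mul_mem_sup p.1.2 p.2.2⟩ : ↥(W₁ ⊔ W₂))) ⟨?_, ?_⟩)
  · rintro ⟨a, b⟩ ⟨c, d⟩ hab
    have h1 : (a : L) * b = c * d := congrArg Subtype.val hab
    have h2 : (c : L)⁻¹ * a = d * (b : L)⁻¹ := by
      have e1 : (a : L) = c * d * (b : L)⁻¹ := by rw [← h1]; group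
      rw [e1]; group
    have h3 : (c : L)⁻¹ * a ∈ W₁ ⊓ W₂ :=
      ⟨W₁.mul_mem (W₁.inv_mem c.2) a.2, by rw [h2]; exact W₂.mul_mem d.2 (W₂.inv_mem b.2)⟩
    rw [h.inf₂, Subgroup.mem_bot] at h3
    have h4 : (a : L) = c := by
      have := congrArg (fun z => (c : L) * z) h3
      simpa using this
    rw [h4] at h1
    have h5 : (b : L) = d := mul_left_cancel h1
    exact Prod.ext (Subtype.ext h4) (Subtype.ext h5)
  · rintro ⟨x, hx⟩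
    obtain ⟨a, ha, b, hb, rfl⟩ := h.mem_sup hx
    exact ⟨(⟨a, ha⟩, ⟨b, hb⟩), rfl⟩

theorem index_sub : (W₂.subgroupOf (W₁ ⊔ W₂)).index = Nat.card W₁ := by
  have h1 := (W₂.subgroupOf (W₁ ⊔ W₂)).card_mul_index
  rw [Nat.card_congr (Subgroup.subgroupOfEquivOfLe (le_sup_right : W₂ ≤ W₁ ⊔ W₂)).toEquiv,
    h.card_sup, mul_comm] at h1
  exact Nat.eq_of_mul_eq_mul_right Nat.card_pos h1

end PTI


section main

variable {L : Type u} [Group L] [Fintype L] {K W₁ W₂ : Subgroup L} (h : PTI K W₁ W₂)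

/-- `ω, ω'` agree on `W₂` -/
def PTI.Sim (_h : PTI K W₁ W₂) (ω ω' : ↥(W₁ ⊔ W₂) →* ℂˣ) : Prop :=
  ∀ w : ↥(W₁ ⊔ W₂), (w : L) ∈ W₂ → ω w = ω' w

theorem PTI.hTI (h : PTI K W₁ W₂) : ∀ g : L, g ∉ W₁ ⊔ W₂ → ∀ t ∈ {t : L | t ∈ W₁ ⊔ W₂ ∧ t ∉ W₂},
    g * t * g⁻¹ ∈ {t : L | t ∈ W₁ ⊔ W₂ ∧ t ∉ W₂} → t = 1 :=
  fun _ hg _ ht hgt => absurd (h.TI ht.1 ht.2 hgt.1) hg

theorem PTI.local_exc (h : PTI K W₁ W₂) (ω₀ : ↥(W₁ ⊔ W₂) →* ℂˣ) :
    ∃ (ε : ℂ) (θ : (↥(W₁ ⊔ W₂) →* ℂˣ) → (L → ℂ)), (ε = 1 ∨ ε = -1) ∧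
      (∀ ω, h.Sim ω ω₀ → IsIrrCharacter L (θ ω)) ∧
      (∀ ω ω', h.Sim ω ω₀ → h.Sim ω' ω₀ → θ ω = θ ω' → ω = ω') ∧
      (∀ ω ω', h.Sim ω ω₀ → h.Sim ω' ω₀ →
        indFun (W₁ ⊔ W₂) (hf ω - hf ω') = ε • (θ ω - θ ω')) := by
  classical
  obtain ⟨ε, hε, θ, h1, h2, h3⟩ := exceptional_characters (W₁ ⊔ W₂)
    {t : L | t ∈ W₁ ⊔ W₂ ∧ t ∉ W₂} h.hTI (ι := {ω : ↥(W₁ ⊔ W₂) →* ℂˣ // h.Sim ω ω₀})
    ⟨ω₀, fun _ _ => rfl⟩ (fun ω => hf ω.1) (fun ω => isIrr_hf _)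
    (fun a b hab => Subtype.ext (hf_injective hab)) (by
      intro i j x hx
      have hx2 : (x : L) ∈ W₂ := by
        by_contra hcon
        exact hx ⟨x.2, hcon⟩
      show ((i.1 x : ℂˣ) : ℂ) = j.1 x
      rw [i.2 x hx2, j.2 x hx2]) (fun i j => by rw [hf_at_one, hf_at_one])
  refine ⟨ε, fun ω => if hω : h.Sim ω ω₀ then θ ⟨ω, hω⟩ else 0, hε, ?_, ?_, ?_⟩
  · intro ω hω
    dsimp only
    rw [dif_pos hω]; exact h1 _
  · intro ω ω' hω hω' he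
    dsimp only at he
    rw [dif_pos hω, dif_pos hω'] at he
    exact congrArg Subtype.val (h2 he)
  · intro ω ω' hω hω'
    dsimp only
    rw [dif_pos hω, dif_pos hω', indFun_sub]
    exact h3 ⟨ω, hω⟩ ⟨ω', hω'⟩

theorem PTI.Sim.refl (h : PTI K W₁ W₂) (ω : ↥(W₁ ⊔ W₂) →* ℂˣ) : h.Sim ω ω := fun _ _ => rfl
theorem PTI.Sim.symm {h : PTI K W₁ W₂} {ω ω' : ↥(W₁ ⊔ W₂) →* ℂˣ} (H : h.Sim ω ω') :
    h.Sim ω' ω := fun w hw => (H w hw).symm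
theorem PTI.Sim.trans {h : PTI K W₁ W₂} {ω ω' ω'' : ↥(W₁ ⊔ W₂) →* ℂˣ} (H : h.Sim ω ω')
    (H' : h.Sim ω' ω'') : h.Sim ω ω'' := fun w hw => (H w hw).trans (H' w hw)

theorem PTI.hcomm (h : PTI K W₁ W₂) (a b : ↥(W₁ ⊔ W₂)) : a * b = b * a :=
  Subtype.ext (h.comm_sup a.2 b.2)

theorem PTI.sim_mul (h : PTI K W₁ W₂) {φ : ↥(W₁ ⊔ W₂) →* ℂˣ}
    (hφ : IsAnn (W₂.subgroupOf (W₁ ⊔ W₂)) φ) (ω : ↥(W₁ ⊔ W₂) →* ℂˣ) : h.Sim (ω * φ) ω := by
  intro w hw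
  rw [MonoidHom.mul_apply, hφ w hw, mul_one]

/-- there is a nontrivial character trivial on `W₂` -/
theorem PTI.exists_phi (h : PTI K W₁ W₂) {w : ↥(W₁ ⊔ W₂)} (hw : (w : L) ∉ W₂) :
    ∃ φ : ↥(W₁ ⊔ W₂) →* ℂˣ, IsAnn (W₂.subgroupOf (W₁ ⊔ W₂)) φ ∧ φ w ≠ 1 :=
  exists_ann h.hcomm _ (fun h' => hw h')

theorem PTI.exists_phi' (h : PTI K W₁ W₂) :
    ∃ φ : ↥(W₁ ⊔ W₂) →* ℂˣ, IsAnn (W₂.subgroupOf (W₁ ⊔ W₂)) φ ∧ φ ≠ 1 := by
  obtain ⟨w, hw, hw1, -⟩ := h.exists_gen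
  have h2 : w ∉ W₂ := by
    intro h2
    have : w ∈ W₁ ⊓ W₂ := ⟨hw, h2⟩
    rw [h.inf₂, Subgroup.mem_bot] at this
    exact hw1 this
  obtain ⟨φ, h1, h3⟩ := h.exists_phi (w := ⟨w, Subgroup.mem_sup_left hw⟩) h2
  refine ⟨φ, h1, ?_⟩
  rintro rfl
  exact h3 rfl

theorem PTI.exceptional (h : PTI K W₁ W₂) :
    ∃ (μ : (↥(W₁ ⊔ W₂) →* ℂˣ) → (L → ℂ)) (δ : (↥(W₁ ⊔ W₂) →* ℂˣ) → ℂ),
      Function.Injective μ ∧ (∀ ω, IsIrrCharacter L (μ ω)) ∧ (∀ ω, δ ω = 1 ∨ δ ω = -1) ∧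
      (∀ ω ω', h.Sim ω ω' → δ ω = δ ω' ∧
        indFun (W₁ ⊔ W₂) (hf ω - hf ω') = δ ω • (μ ω - μ ω')) := by
  classical
  choose ε θ hε hirr hinj hind using h.local_exc
  let s : Setoid (↥(W₁ ⊔ W₂) →* ℂˣ) := ⟨h.Sim, ⟨PTI.Sim.refl h, PTI.Sim.symm, PTI.Sim.trans⟩⟩
  let rep : (↥(W₁ ⊔ W₂) →* ℂˣ) → (↥(W₁ ⊔ W₂) →* ℂˣ) := fun ω =>
    (Quotient.out (Quotient.mk s ω))
  have hrep : ∀ ω, h.Sim ω (rep ω) := fun ω => PTI.Sim.symm (Quotient.mk_out (s := s) ω)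
  have hrep2 : ∀ {ω ω'}, h.Sim ω ω' → rep ω = rep ω' := by
    intro ω ω' hh
    show Quotient.out (Quotient.mk s ω) = Quotient.out (Quotient.mk s ω')
    rw [Quotient.sound (s := s) hh]
  have hμirr : ∀ ω, IsIrrCharacter L (θ (rep ω) ω) := fun ω => hirr _ _ (hrep ω)
  have h4 : ∀ ω ω', h.Sim ω ω' → ε (rep ω) = ε (rep ω') ∧
        indFun (W₁ ⊔ W₂) (hf ω - hf ω') = ε (rep ω) • (θ (rep ω) ω - θ (rep ω') ω') := by
    intro ω ω' hh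
    rw [← hrep2 hh]
    exact ⟨rfl, hind _ _ _ (hrep ω) (by rw [hrep2 hh]; exact hrep ω')⟩
  have hsq : ∀ ω, ε (rep ω) ≠ 0 := by
    intro ω
    rcases hε (rep ω) with h1 | h1 <;> rw [h1] <;> norm_num
  have hdeg : ∀ ω ω', h.Sim ω ω' → θ (rep ω) ω 1 = θ (rep ω') ω' 1 := by
    intro ω ω' hh
    have h5 := congrFun (h4 ω ω' hh).2 1
    rw [indFun_one_apply, Pi.sub_apply, hf_at_one, hf_at_one, sub_self, mul_zero,
      Pi.smul_apply, Pi.sub_apply, smul_eq_mul] at h5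
    exact sub_eq_zero.1 ((mul_eq_zero.1 h5.symm).resolve_left (hsq ω))
  refine ⟨fun ω => θ (rep ω) ω, fun ω => ε (rep ω), ?_, hμirr, fun ω => hε _, h4⟩
  intro ω ω' hωω'
  dsimp only at hωω'
  by_cases hs : h.Sim ω ω'
  · rw [← hrep2 hs] at hωω'
    exact hinj _ _ _ (hrep ω) (by rw [hrep2 hs]; exact hrep ω') hωω'
  · exfalso
    obtain ⟨φ, hφ, hφ1⟩ := h.exists_phi'
    haveI := Fintype.ofFinite ↥(W₁ ⊔ W₂)
    have hsω := PTI.Sim.symm (h.sim_mul hφ ω)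
    have hsω' := PTI.Sim.symm (h.sim_mul hφ ω')
    have hne : ∀ {α β : ↥(W₁ ⊔ W₂) →* ℂˣ}, h.Sim α ω → h.Sim β ω' → α ≠ β := by
      intro α β h5 h6 h7
      apply hs
      rw [h7] at h5
      exact (PTI.Sim.symm h5).trans h6
    have h0 : classInner (hf ω - hf (ω * φ)) (hf ω' - hf (ω' * φ)) = 0 := by
      simp only [classInner_sub_left, classInner_sub_right, inner_hf]
      rw [if_neg (hne (PTI.Sim.refl h ω) (PTI.Sim.refl h ω')),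
        if_neg (hne (PTI.Sim.symm hsω) (PTI.Sim.refl h ω')),
        if_neg (hne (PTI.Sim.refl h ω) (PTI.Sim.symm hsω')),
        if_neg (hne (PTI.Sim.symm hsω) (PTI.Sim.symm hsω'))]
      ring
    have hvan : ∀ α : ↥(W₁ ⊔ W₂) →* ℂˣ, ∀ x : ↥(W₁ ⊔ W₂),
        (x : L) ∉ {t : L | t ∈ W₁ ⊔ W₂ ∧ t ∉ W₂} → (hf α - hf (α * φ)) x = 0 := by
      intro α x hx
      have hx2 : (x : L) ∈ W₂ := by
        by_contra hcon
        exact hx ⟨x.2, hcon⟩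
      show ((α x : ℂˣ) : ℂ) - ((α * φ) x : ℂˣ) = 0
      rw [MonoidHom.mul_apply, hφ x hx2, mul_one, sub_self]
    have h5 := classInner_indFun_of_TI (W₁ ⊔ W₂) _ h.hTI (hf ω - hf (ω * φ))
      (hf ω' - hf (ω' * φ)) (classFun_sub (irr_classFun (isIrr_hf _)) (irr_classFun (isIrr_hf _)))
      (hvan ω) (hvan ω') (by simp [hf_at_one])
    rw [h0, (h4 _ _ hsω).2, (h4 _ _ hsω').2, classInner_smul_left, classInner_smul_right] at h5
    have h6 : classInner (θ (rep ω) ω - θ (rep (ω * φ)) (ω * φ))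
        (θ (rep ω') ω' - θ (rep (ω' * φ)) (ω' * φ)) = 0 := by
      rcases mul_eq_zero.1 h5 with h5 | h5
      · exact absurd h5 (hsq ω)
      · rcases mul_eq_zero.1 h5 with h5 | h5
        · exact absurd ((map_eq_zero _).1 h5) (hsq ω')
        · exact h5
    have hne2 : ∀ α : ↥(W₁ ⊔ W₂) →* ℂˣ, θ (rep α) α ≠ θ (rep (α * φ)) (α * φ) := by
      intro α hh
      rw [hrep2 (h.sim_mul hφ α)] at hh
      have h7 := hinj _ _ _ (hrep α) ((h.sim_mul hφ α).trans (hrep α)) hh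
      apply hφ1
      ext w
      have h9 := DFunLike.congr_fun h7 w
      rw [MonoidHom.mul_apply] at h9
      exact congrArg Units.val (mul_eq_left.1 h9.symm)
    have h8 := (irr_diff_orth (a := ⟨_, hμirr ω⟩) (b := ⟨_, hμirr (ω * φ)⟩) (c := ⟨_, hμirr ω'⟩)
      (d := ⟨_, hμirr (ω' * φ)⟩) (fun hh => hne2 ω (congrArg Subtype.val hh))
      (fun hh => hne2 ω' (congrArg Subtype.val hh)) h6 (hdeg _ _ hsω) (hdeg _ _ hsω')).1
    have h9 : classInner (θ (rep ω) ω) (θ (rep ω') ω') = 0 := h8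
    rw [hωω', classInner_self_of_irr (hμirr ω')] at h9
    exact one_ne_zero h9

theorem PTI.values (h : PTI K W₁ W₂) {μ : (↥(W₁ ⊔ W₂) →* ℂˣ) → (L → ℂ)}
    {δ : (↥(W₁ ⊔ W₂) →* ℂˣ) → ℂ} [Fintype (↥(W₁ ⊔ W₂) →* ℂˣ)]
    (hδ : ∀ ω, δ ω = 1 ∨ δ ω = -1)
    (hind : ∀ ω ω', h.Sim ω ω' → δ ω = δ ω' ∧
        indFun (W₁ ⊔ W₂) (hf ω - hf ω') = δ ω • (μ ω - μ ω')) {θ : L → ℂ}
    (hθ : IsClassFunction L θ) (w : ↥(W₁ ⊔ W₂)) (hw : (w : L) ∉ W₂) :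
    θ w = ∑ η : ↥(W₁ ⊔ W₂) →* ℂˣ, δ η * classInner θ (μ η) * (η w : ℂ) := by
  classical
  haveI := Fintype.ofFinite ↥(W₁ ⊔ W₂)
  let c : (↥(W₁ ⊔ W₂) →* ℂˣ) → ℂ := fun η =>
    classInner (fun x : ↥(W₁ ⊔ W₂) => θ x) (hf η) - δ η * classInner θ (μ η)
  have hc : ∀ η η', h.Sim η η' → c η = c η' := by
    intro η η' hs
    have h1 := frobenius_reciprocity' (W₁ ⊔ W₂) (hf η - hf η') hθ
    rw [(hind η η' hs).2, classInner_smul_right, classInner_sub_right, classInner_sub_right] at h1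
    have h2 : conj (δ η) = δ η := by
      rcases hδ η with h3 | h3 <;> rw [h3] <;> simp
    rw [h2] at h1
    show _ - _ = _ - _
    rw [← (hind η η' hs).1]
    linear_combination -h1
  obtain ⟨φ, hφ, hφw⟩ := h.exists_phi hw
  have h3 : ∑ η : ↥(W₁ ⊔ W₂) →* ℂˣ, c η * (η w : ℂ) =
      (φ w : ℂ) * ∑ η : ↥(W₁ ⊔ W₂) →* ℂˣ, c η * (η w : ℂ) := by
    conv_lhs => rw [← Equiv.sum_comp (Equiv.mulRight φ)]
    rw [Finset.mul_sum]
    refine Finset.sum_congr rfl fun η _ => ?_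
    show c (η * φ) * ((η * φ) w : ℂˣ) = _
    rw [hc _ _ (h.sim_mul hφ η), MonoidHom.mul_apply, Units.val_mul]
    ring
  have h4 : ∑ η : ↥(W₁ ⊔ W₂) →* ℂˣ, c η * (η w : ℂ) = 0 := by
    have h5 : (1 - (φ w : ℂ)) * ∑ η : ↥(W₁ ⊔ W₂) →* ℂˣ, c η * (η w : ℂ) = 0 := by
      linear_combination h3
    refine (mul_eq_zero.1 h5).resolve_left fun h6 => hφw ?_
    have : (φ w : ℂ) = 1 := by linear_combination -h6
    exact Units.ext this
  have h6 := expand_hf h.hcomm (fun x : ↥(W₁ ⊔ W₂) => θ x) w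
  rw [h6, ← sub_eq_zero, ← Finset.sum_sub_distrib, ← h4]
  refine Finset.sum_congr rfl fun η _ => ?_
  show _ = (_ - _) * _
  ring

end main

end Cfsg.Agent.H3
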