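import Cfsg.Agent.H27.Galois
import Cfsg.Agent.H3.Counting

/-!
# Rationality of characters (helper3)
-/

set_option autoImplicit false
set_option linter.style.haveILetI false
set_option linter.unusedSimpArgs false
set_option linter.unusedSectionVars false
open Cfsg
open scoped ComplexConjugate

namespace Cfsg.Agent.H3

universe u v w

/-- sums over primitive roots of unity of integer polynomials are rational. -/
theorem sum_primitiveRoots_rat {n : ℕ} (hn : n ≠ 0) (f : Polynomial ℤ) :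
    ∃ q : ℚ, ∑ ξ ∈ primitiveRoots n ℂ, Polynomial.aeval ξ f = (q : ℂ) := by
  classical
  have : NeZero n := ⟨hn⟩
  have : NeZero ((n : ℕ) : ℚ) := ⟨by exact_mod_cast hn⟩
  let K := CyclotomicField n ℚ
  have : IsCyclotomicExtension {n} ℚ K := CyclotomicField.isCyclotomicExtension n ℚ
  have hirr : Irreducible (Polynomial.cyclotomic n ℚ) :=
    Polynomial.cyclotomic.irreducible_rat (Nat.pos_of_ne_zero hn)
  have hξ := IsCyclotomicExtension.zeta_spec n ℚ K
  let ξ : K := IsCyclotomicExtension.zeta n ℚ K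
  have : FiniteDimensional ℚ K := IsCyclotomicExtension.finiteDimensional {n} ℚ K
  let x : K := Polynomial.aeval ξ f
  have h1 := trace_eq_sum_embeddings (K := ℚ) ℂ (x := x)
  have h2 : ∑ σ : K →ₐ[ℚ] ℂ, σ x = ∑ ζ ∈ primitiveRoots n ℂ, Polynomial.aeval ζ f := by
    rw [← Finset.sum_coe_sort (primitiveRoots n ℂ)]
    refine Fintype.sum_equiv (hξ.embeddingsEquivPrimitiveRoots ℂ hirr) _ _ fun σ => ?_
    rw [IsPrimitiveRoot.embeddingsEquivPrimitiveRoots_apply_coe]
    have : σ x = (σ : K →+* ℂ) (Polynomial.aeval ξ f) := rfl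
    rw [this, Polynomial.aeval_def, Polynomial.hom_eval₂, Polynomial.aeval_def]
    congr 1
    exact RingHom.ext_int _ _
  exact ⟨Algebra.trace ℚ K x, by rw [← h2, ← h1]; rfl⟩

theorem sum_cop_eq {N : ℕ} (hN : N ≠ 0) {ζ : ℂ} (hζ : IsPrimitiveRoot ζ N) (F : ℂ → ℂ) :
    ∑ m ∈ H27.cop N, F (ζ ^ m) = ∑ ξ ∈ primitiveRoots N ℂ, F ξ := by
  have h := H27.prod_cop_eq (M := Multiplicative ℂ) hN hζ (fun z => Multiplicative.ofAdd (F z))
  exact h

theorem sum_char_pow_rat {G : Type u} [Group G] [Finite G] {χ : G → ℂ} (hχ : IsCharacter G χ)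
    {N : ℕ} (hN : N ≠ 0) {g : G} (hg : g ^ N = 1) :
    ∃ q : ℚ, ∑ m ∈ H27.cop N, χ (g ^ m) = (q : ℂ) := by
  have hζ := Complex.isPrimitiveRoot_exp N hN
  obtain ⟨f, hf⟩ := H27.exists_poly_char hχ hN hg hζ
  obtain ⟨k, hk⟩ := sum_primitiveRoots_rat hN f
  refine ⟨k, ?_⟩
  rw [← hk, ← sum_cop_eq hN hζ (fun ξ => Polynomial.aeval ξ f)]
  exact Finset.sum_congr rfl fun m _ => hf m

/-- **rational characters** -/
theorem rational_iff {G : Type u} [Group G] [Finite G] :
    (∀ χ : IrrCharacter G, ∀ g : G, ∃ q : ℚ, (χ : G → ℂ) g = (q : ℂ)) ↔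
      ∀ m : ℕ, m.Coprime (Nat.card G) → ∀ g : G, IsConj g (g ^ m) := by
  have hN : Nat.card G ≠ 0 := Nat.card_pos.ne'
  constructor
  · intro h m hm g
    rw [isConj_iff_irr]
    intro χ
    obtain ⟨σ, hσ⟩ := H27.exists_ringEquiv_pow hN hm
    have h1 := H27.char_galois_apply (irr_isChar χ.2) (σ : ℂ →+* ℂ) hN hσ
      (pow_card_eq_one' (x := g))
    obtain ⟨q, hq⟩ := h χ g
    rw [← h1, hq]
    simp
  · intro h χ g
    obtain ⟨q, hq⟩ := sum_char_pow_rat (irr_isChar χ.2) hN (pow_card_eq_one' (x := g))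
    have h1 : ∀ m ∈ H27.cop (Nat.card G), (χ : G → ℂ) (g ^ m) = (χ : G → ℂ) g := by
      intro m hm
      exact (classFun_isConj (irr_classFun χ.2) (h m (H27.mem_cop.mp hm).2 g)).symm
    rw [Finset.sum_congr rfl h1, Finset.sum_const, nsmul_eq_mul] at hq
    have h2 : ((H27.cop (Nat.card G)).card : ℂ) ≠ 0 := by
      exact_mod_cast (Finset.card_pos.mpr (H27.cop_nonempty hN)).ne'
    refine ⟨q / (H27.cop (Nat.card G)).card, ?_⟩
    push_cast
    rw [← hq]
    field_simp

/-- **Burnside**: a nonlinear irreducible character vanishes somewhere. -/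
theorem exists_zero {G : Type u} [Group G] [Finite G] {χ : G → ℂ} (hχ : IsIrrCharacter G χ)
    (h1 : χ 1 ≠ 1) : ∃ g, χ g = 0 := by
  classical
  haveI := Fintype.ofFinite G
  by_contra hcon
  push Not at hcon
  let D : Finset G := Finset.univ.erase 1
  have h2 := H27.burnside_norm_sum (irr_isChar hχ) D (fun x hx m hm => by
    rw [Finset.mem_erase] at hx ⊢
    refine ⟨fun h => hx.1 ?_, Finset.mem_univ _⟩
    have := (H27.pow_coprime_bijective hm).1 (a₁ := x) (a₂ := 1) (by simpa using h)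
    exact this) (fun x _ => hcon x)
  have h3 : ∑ g : G, ‖χ g‖ ^ 2 = Nat.card G := by
    have h4 := classInner_self_of_irr hχ
    rw [classInner] at h4
    have h5 : ∑ g : G, χ g * conj (χ g) = Nat.card G := by
      have := congrArg (fun z => (Nat.card G : ℂ) * z) h4
      simp only [mul_inv_cancel_left₀ (card_ne_zeroC (G := G)), mul_one] at this
      exact this
    have h6 : ((∑ g : G, ‖χ g‖ ^ 2 : ℝ) : ℂ) = Nat.card G := by
      rw [← h5]
      push_cast
      refine Finset.sum_congr rfl fun g _ => ?_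
      rw [Complex.mul_conj, Complex.normSq_eq_norm_sq]
      push_cast; rfl
    exact_mod_cast h6
  rw [← Finset.add_sum_erase _ _ (Finset.mem_univ (1 : G))] at h3
  have hD : (D.card : ℝ) = Nat.card G - 1 := by
    rw [Finset.card_erase_of_mem (Finset.mem_univ _), Finset.card_univ, Nat.card_eq_fintype_card,
      Nat.cast_sub Fintype.card_pos]
    simp
  obtain ⟨d, hd0, hd⟩ := irr_one_eq_nat hχ
  have hd1 : ‖χ 1‖ ^ 2 = (d : ℝ) ^ 2 := by rw [hd]; simp
  rw [hd1] at h3
  rw [hD] at h2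
  have h7 : (d : ℝ) ^ 2 ≤ 1 := by linarith
  have h8 : d ^ 2 ≤ 1 := by exact_mod_cast h7
  have h9 : d = 1 := by nlinarith
  apply h1
  rw [hd, h9]; simp

end Cfsg.Agent.H3
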