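import Cfsg.Agent.H3.TIFrob
import Cfsg.Prelude.Def_OddOrderChar

/-!
# Coherence for T.I. subgroups with Frobenius normalizers (helper3)
-/

set_option autoImplicit false
set_option linter.style.haveILetI false
set_option linter.unusedSimpArgs false
set_option linter.unusedSectionVars false
set_option linter.unusedVariables false
open Cfsg
open scoped ComplexConjugate

namespace Cfsg.Agent.H3

universe u v w

variable {G : Type u} [Group G] [Fintype G] {N : Subgroup G} [Fintype N]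

theorem coh_cross {S : Set (N → ℂ)} {star : (N → ℂ) → (G → ℂ)}
    (hstar : IsLinearIsometryOn (zspan S) star)
    (hext : ∀ α ∈ zspanOn S ({1}ᶜ : Set N), star α = indFun N α) {χ ξ : N → ℂ} (hχ : χ ∈ S)
    (hξ : ξ ∈ S) {d e : ℕ} (hd : χ 1 = d) (he : ξ 1 = e) :
    (e : ℂ) • star χ - (d : ℂ) • star ξ = indFun N ((e : ℂ) • χ - (d : ℂ) • ξ) := by
  obtain ⟨hadd, hsmul, -, -⟩ := hstar
  have mem : ∀ {f : N → ℂ}, f ∈ S → f ∈ zspan S := fun hf => Submodule.subset_span hf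
  have msmul : ∀ {f : N → ℂ} (n : ℤ), f ∈ zspan S → n • f ∈ zspan S :=
    fun n hf => (Submodule.span ℤ S).smul_mem n hf
  have h1 : star ((e : ℤ) • χ + (-d : ℤ) • ξ) = (e : ℤ) • star χ + (-d : ℤ) • star ξ := by
    rw [hadd _ (msmul _ (mem hχ)) _ (msmul _ (mem hξ)), hsmul _ (mem hχ), hsmul _ (mem hξ)]
  have h2 : ((e : ℤ) • χ + (-d : ℤ) • ξ) = (e : ℂ) • χ - (d : ℂ) • ξ := by
    ext x
    simp [sub_eq_add_neg]
  have h3 : ((e : ℤ) • χ + (-d : ℤ) • ξ) ∈ zspanOn S ({1}ᶜ : Set N) := by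
    refine ⟨(Submodule.span ℤ S).add_mem (msmul _ (mem hχ)) (msmul _ (mem hξ)), ?_⟩
    intro x hx
    have hx1 : x = 1 := by simpa using hx
    rw [h2, hx1]
    simp [hd, he, mul_comm]
  have h4 := hext _ h3
  rw [h1] at h4
  rw [← h2, ← h4]
  ext x
  simp [sub_eq_add_neg]

/-- If `ψ` has the inner products with the `star χ` given by `a`, then the multiplicities in the
restriction are as follows. -/
theorem coh_mult {S : Set (N → ℂ)} {star : (N → ℂ) → (G → ℂ)}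
    (hstar : IsLinearIsometryOn (zspan S) star)
    (hext : ∀ α ∈ zspanOn S ({1}ᶜ : Set N), star α = indFun N α) {χ ξ : N → ℂ} (hχ : χ ∈ S)
    (hξ : ξ ∈ S) {d e : ℕ} (hd : χ 1 = d) (he : ξ 1 = e) {ψ : G → ℂ} (hψ : IsClassFunction G ψ) :
    (e : ℂ) * (classInner (fun n : N => ψ n) χ - classInner ψ (star χ)) =
      (d : ℂ) * (classInner (fun n : N => ψ n) ξ - classInner ψ (star ξ)) := by
  have h1 := coh_cross hstar hext hχ hξ hd he
  have h2 := congrArg (fun f => classInner ψ f) h1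
  rw [frobenius_reciprocity' N _ hψ, classInner_sub_right, classInner_sub_right,
    classInner_smul_right, classInner_smul_right, classInner_smul_right,
    classInner_smul_right] at h2
  simp only [Complex.conj_natCast] at h2
  linear_combination -h2

theorem sum_int {ι : Type*} (s : Finset ι) (f : ι → ℂ) (h : ∀ i ∈ s, ∃ n : ℤ, f i = n) :
    ∃ n : ℤ, ∑ i ∈ s, f i = n := by
  classical
  induction s using Finset.induction with
  | empty => exact ⟨0, by simp⟩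
  | insert a s ha ih =>
    obtain ⟨n, hn⟩ := ih fun i hi => h i (Finset.mem_insert_of_mem hi)
    obtain ⟨m, hm⟩ := h a (Finset.mem_insert_self a s)
    exact ⟨m + n, by rw [Finset.sum_insert ha, hn, hm]; push_cast; rfl⟩

theorem gen_isIntegral {L : Type u} [Group L] [Finite L] {f : L → ℂ} (hf : IsGeneralizedCharacter L f) (x : L) :
    IsIntegral ℤ (f x) := by
  obtain ⟨a, b, ha, hb, rfl⟩ := hf
  exact IsIntegral.sub (char_isIntegral ha x) (char_isIntegral hb x)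

section Data

variable {K : Subgroup G}

/-- if all multiplicities in the relevant characters are `b η(1)`, then `f` is constant on
the non-identity elements of the kernel. -/
theorem const_of_inner_S (hK' : (K.subgroupOf N).Normal)
    (hfpf : ∀ x : N, x ∉ K.subgroupOf N → ∀ k ∈ K.subgroupOf N, x * k = k * x → k = 1)
    {f : N → ℂ} (hf : IsGeneralizedCharacter N f) (b : ℂ)
    (h : ∀ η : N → ℂ, IsIrrCharacter N η → (∃ k : N, k ∈ K.subgroupOf N ∧ η k ≠ η 1) →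
      classInner f η = b * η 1) :
    ∃ c : ℤ, ∀ k ∈ K.subgroupOf N, k ≠ 1 → f k = c - b * (K.subgroupOf N).index := by
  classical
  haveI := Fintype.ofFinite (K.subgroupOf N)
  have hg := isGen_restrict (K.subgroupOf N) hf
  obtain ⟨c, hc⟩ := classInner_gen_int hg isGen_one
  refine ⟨c, fun k hk hk1 => ?_⟩
  have h1 := const_of_inner (isGen_classFun hg) (b * (K.subgroupOf N).index) (fun τ hτ hτ1 => by
    have hη := isIrr_ind_of_fpf hK' hfpf hτ hτ1
    rw [← frobenius_reciprocity' _ τ (isGen_classFun hf),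
      h _ hη ((relevant_iff hK' hfpf hη).mpr ⟨τ, hτ, hτ1, rfl⟩), indFun_one_apply]
    ring) ⟨k, hk⟩ (fun h' => hk1 (congrArg Subtype.val h'))
  rw [hc] at h1
  exact h1

variable {S : Set (N → ℂ)} {star : (N → ℂ) → (G → ℂ)}

/-- The restriction of `star χ - χ` is constant on the non-identity elements of `K`. -/
theorem coh_const (hK' : (K.subgroupOf N).Normal)
    (hfpf : ∀ x : N, x ∉ K.subgroupOf N → ∀ k ∈ K.subgroupOf N, x * k = k * x → k = 1)
    (hS : S = {χ : N → ℂ | IsIrrCharacter N χ ∧ ∃ k : N, (k : G) ∈ K ∧ χ k ≠ χ 1})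
    (hstar : IsLinearIsometryOn (zspan S) star)
    (hext : ∀ α ∈ zspanOn S ({1}ᶜ : Set N), star α = indFun N α) {χ : N → ℂ} (hχ : χ ∈ S) :
    ∃ c : ℤ, ∀ k ∈ K.subgroupOf N, k ≠ 1 → star χ k - χ k = c := by
  classical
  have hSdef : ∀ η : N → ℂ, η ∈ S ↔ (IsIrrCharacter N η ∧ ∃ k : N, k ∈ K.subgroupOf N ∧ η k ≠ η 1) := by
    intro η; rw [hS]; exact Iff.rfl
  have mem : ∀ {f : N → ℂ}, f ∈ S → f ∈ zspan S := fun hf => Submodule.subset_span hf
  have hχirr : IsIrrCharacter N χ := ((hSdef χ).mp hχ).1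
  have hstargen : IsGeneralizedCharacter G (star χ) := hstar.2.2.2 _ (mem hχ)
  have hf : IsGeneralizedCharacter N (fun n : N => star χ n - χ n) :=
    isGen_sub (isGen_restrict N hstargen) (isGen_of_irr hχirr)
  obtain ⟨d, hd0, hd⟩ := irr_one_eq_nat hχirr
  have hd0' : (d : ℂ) ≠ 0 := by exact_mod_cast hd0.ne'
  obtain ⟨n, hn⟩ := classInner_gen_int hf (isGen_of_irr hχirr)
  -- multiplicities
  have hmult : ∀ η : N → ℂ, IsIrrCharacter N η → (∃ k : N, k ∈ K.subgroupOf N ∧ η k ≠ η 1) →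
      classInner (fun n : N => star χ n - χ n) η = (n / d : ℂ) * η 1 := by
    intro η hη hrel
    have hηS : η ∈ S := (hSdef η).mpr ⟨hη, hrel⟩
    obtain ⟨e, he0, he⟩ := irr_one_eq_nat hη
    have h1 := coh_mult hstar hext hηS hχ he hd (isGen_classFun hstargen)
    rw [hstar.2.2.1 _ (mem hχ) _ (mem hηS), hstar.2.2.1 _ (mem hχ) _ (mem hχ)] at h1
    have h2 : ∀ ξ : N → ℂ, classInner (fun n : N => star χ n - χ n) ξ =
        classInner (fun n : N => star χ n) ξ - classInner χ ξ := fun ξ =>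
      classInner_sub_left _ _ _
    rw [h2] at hn ⊢
    rw [hn] at h1
    rw [he]
    field_simp
    linear_combination h1
  obtain ⟨c, hc⟩ := const_of_inner_S hK' hfpf hf _ hmult
  -- pick a nonidentity element
  obtain ⟨-, k₀, hk₀, hk₀1⟩ := (hSdef χ).mp hχ
  have hk₀ne : k₀ ≠ 1 := by rintro rfl; exact hk₀1 rfl
  have h3 := hc k₀ hk₀ hk₀ne
  have hint := gen_isIntegral hf k₀
  rw [h3] at hint
  have h4 : ((c : ℂ) - (n / d : ℂ) * ((K.subgroupOf N).index : ℂ)) =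
      ((c - n / d * (K.subgroupOf N).index : ℚ) : ℂ) := by push_cast; ring
  rw [h4] at hint
  obtain ⟨z, hz⟩ := exists_int_of_isIntegral_rat hint
  refine ⟨z, fun k hk hk1 => ?_⟩
  have h5 := hc k hk hk1
  rw [h5, h4, hz]
  simp

/-- if a relevant character is constant on `K \ 1`, it is the only one -/
theorem unique_of_const (hK' : (K.subgroupOf N).Normal)
    (hfpf : ∀ x : N, x ∉ K.subgroupOf N → ∀ k ∈ K.subgroupOf N, x * k = k * x → k = 1)
    {χ : N → ℂ} (hχ : IsIrrCharacter N χ) (hrel : ∃ k : N, k ∈ K.subgroupOf N ∧ χ k ≠ χ 1)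
    (β : ℂ) (hβ : ∀ k ∈ K.subgroupOf N, k ≠ 1 → χ k = β) {ξ : N → ℂ} (hξ : IsIrrCharacter N ξ)
    (hrel' : ∃ k : N, k ∈ K.subgroupOf N ∧ ξ k ≠ ξ 1) : χ = ξ := by
  classical
  haveI := Fintype.ofFinite (K.subgroupOf N)
  obtain ⟨τ, hτ, hτ1, rfl⟩ := (relevant_iff hK' hfpf hξ).mp hrel'
  by_contra hne
  have h1 : classInner (fun k : K.subgroupOf N => χ k) τ = 0 := by
    rw [← frobenius_reciprocity' _ τ (irr_classFun hχ)]
    exact classInner_of_irr_ne hχ hξ hne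
  obtain ⟨k, hk, hk'⟩ := hrel
  have hk1 : k ≠ 1 := by rintro rfl; exact hk' rfl
  have hβ1 : χ 1 ≠ β := by
    intro h
    apply hk'
    rw [hβ k hk hk1, h]
  -- the sum of `τ` vanishes
  have h2 : ∑ k : K.subgroupOf N, conj (τ k) = 0 := by
    have h3 := classInner_of_irr_ne isIrr_one hτ (Ne.symm hτ1)
    rw [classInner] at h3
    have h4 := (mul_eq_zero.mp h3).resolve_left (inv_ne_zero card_ne_zeroC)
    simpa using h4
  rw [classInner] at h1
  have h5 := (mul_eq_zero.mp h1).resolve_left (inv_ne_zero card_ne_zeroC)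
  have h6 : ∑ k : K.subgroupOf N, χ k * conj (τ k) =
      ∑ k : K.subgroupOf N, (β * conj (τ k) + if k = 1 then (χ 1 - β) * conj (τ 1) else 0) := by
    refine Finset.sum_congr rfl fun k _ => ?_
    by_cases hk : k = 1
    · rw [hk, if_pos rfl]; simp only [Subgroup.coe_one]; ring
    · rw [if_neg hk, hβ k k.2 (fun h => hk (Subtype.ext h)), add_zero]
  rw [h6, Finset.sum_add_distrib, ← Finset.mul_sum, h2, mul_zero, zero_add,
    Finset.sum_ite_eq' Finset.univ (1 : K.subgroupOf N)] at h5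
  simp only [Finset.mem_univ, if_true] at h5
  rcases mul_eq_zero.mp h5 with h7 | h7
  · exact hβ1 (sub_eq_zero.mp h7)
  · rw [map_eq_zero] at h7
    exact irr_one_ne_zero hτ h7

theorem coh_constituents (hK' : (K.subgroupOf N).Normal) (hKN : K ≤ N)
    (hfpf : ∀ x : N, x ∉ K.subgroupOf N → ∀ k ∈ K.subgroupOf N, x * k = k * x → k = 1)
    (hS : S = {χ : N → ℂ | IsIrrCharacter N χ ∧ ∃ k : N, (k : G) ∈ K ∧ χ k ≠ χ 1})
    (htwo : ∃ χ ∈ S, ∃ ξ ∈ S, χ ≠ ξ)
    (hstar : IsLinearIsometryOn (zspan S) star)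
    (hext : ∀ α ∈ zspanOn S ({1}ᶜ : Set N), star α = indFun N α) (ψ : G → ℂ)
    (hψ : IsIrrCharacter G ψ) :
    (∃ χ ∈ S, ψ = star χ ∨ ψ = -star χ) ↔ ∃ a ∈ K, ∃ b ∈ K, a ≠ 1 ∧ b ≠ 1 ∧ ψ a ≠ ψ b := by
  classical
  have hSdef : ∀ η : N → ℂ, η ∈ S ↔ (IsIrrCharacter N η ∧ ∃ k : N, k ∈ K.subgroupOf N ∧ η k ≠ η 1) := by
    intro η; rw [hS]; exact Iff.rfl
  have mem : ∀ {f : N → ℂ}, f ∈ S → f ∈ zspan S := fun hf => Submodule.subset_span hf
  constructor
  · rintro ⟨χ, hχ, hψχ⟩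
    by_contra hcon
    push Not at hcon
    have hχirr := ((hSdef χ).mp hχ).1
    obtain ⟨c, hc⟩ := coh_const hK' hfpf hS hstar hext hχ
    obtain ⟨k₀, hk₀, hk₀1⟩ := ((hSdef χ).mp hχ).2
    have hk₀ne : k₀ ≠ 1 := by rintro rfl; exact hk₀1 rfl
    have hconst : ∀ k ∈ K.subgroupOf N, k ≠ 1 → χ k = χ k₀ := by
      intro k hk hk1
      have h1 : ψ k = ψ k₀ := hcon k (Subgroup.mem_subgroupOf.mp hk) k₀
        (Subgroup.mem_subgroupOf.mp hk₀) (fun h => hk1 (Subtype.ext h))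
        (fun h => hk₀ne (Subtype.ext h))
      have h2 : star χ k = star χ k₀ := by
        rcases hψχ with h | h
        · rw [← h]; exact h1
        · have h3 : star χ = -ψ := by rw [h, neg_neg]
          rw [h3, Pi.neg_apply, Pi.neg_apply, h1]
      have h3 := hc k hk hk1
      have h4 := hc k₀ hk₀ hk₀ne
      rw [h2] at h3
      linear_combination h4 - h3
    obtain ⟨χ₁, hχ₁, χ₂, hχ₂, hne⟩ := htwo
    have h5 := unique_of_const hK' hfpf hχirr ((hSdef χ).mp hχ).2 _ hconst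
      ((hSdef χ₁).mp hχ₁).1 ((hSdef χ₁).mp hχ₁).2
    have h6 := unique_of_const hK' hfpf hχirr ((hSdef χ).mp hχ).2 _ hconst
      ((hSdef χ₂).mp hχ₂).1 ((hSdef χ₂).mp hχ₂).2
    exact hne (h5.symm.trans h6)
  · rintro ⟨a, ha, b, hb, ha1, hb1, hab⟩
    by_contra hcon
    push Not at hcon
    apply hab
    have hzero : ∀ χ ∈ S, classInner ψ (star χ) = 0 := by
      intro χ hχ
      have h1 : classInner (star χ) (star χ) = 1 := by
        rw [hstar.2.2.1 _ (mem hχ) _ (mem hχ)]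
        exact classInner_self_of_irr ((hSdef χ).mp hχ).1
      rcases gen_norm_one (hstar.2.2.2 _ (mem hχ)) h1 with h2 | h2
      · exact classInner_of_irr_ne hψ h2 (hcon χ hχ).1
      · have h3 := classInner_of_irr_ne hψ h2 (hcon χ hχ).2
        rw [classInner_neg_right, neg_eq_zero] at h3
        exact h3
    obtain ⟨ξ, hξ, -⟩ := htwo
    obtain ⟨e, he0, he⟩ := irr_one_eq_nat ((hSdef ξ).mp hξ).1
    have he0' : (e : ℂ) ≠ 0 := by exact_mod_cast he0.ne'
    obtain ⟨c, hc⟩ := const_of_inner_S hK' hfpf (isGen_restrict N (isGen_of_irr hψ))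
      (classInner (fun n : N => ψ n) ξ / e) (fun η hη hrel => by
        have hηS : η ∈ S := (hSdef η).mpr ⟨hη, hrel⟩
        obtain ⟨d, hd0, hd⟩ := irr_one_eq_nat hη
        have h1 := coh_mult hstar hext hηS hξ hd he (irr_classFun hψ)
        rw [hzero η hηS, hzero ξ hξ] at h1
        rw [hd]
        field_simp
        linear_combination h1)
    have h1 := hc ⟨a, hKN ha⟩ (Subgroup.mem_subgroupOf.mpr ha) (fun h => ha1 (congrArg Subtype.val h))
    have h2 := hc ⟨b, hKN hb⟩ (Subgroup.mem_subgroupOf.mpr hb) (fun h => hb1 (congrArg Subtype.val h))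
    exact h1.trans h2.symm

theorem coh_integer (hK' : (K.subgroupOf N).Normal)
    (hTI : ∀ g : G, g ∉ N → ∀ k ∈ K, g * k * g⁻¹ ∈ K → k = 1)
    (hfpf : ∀ x : N, x ∉ K.subgroupOf N → ∀ k ∈ K.subgroupOf N, x * k = k * x → k = 1)
    (hS : S = {χ : N → ℂ | IsIrrCharacter N χ ∧ ∃ k : N, (k : G) ∈ K ∧ χ k ≠ χ 1})
    (htwo : ∃ χ ∈ S, ∃ ξ ∈ S, χ ≠ ξ)
    (hstar : IsLinearIsometryOn (zspan S) star)
    (hext : ∀ α ∈ zspanOn S ({1}ᶜ : Set N), star α = indFun N α) :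
    ∃ m : ℤ, ∀ χ ∈ S, ∀ k : N, (k : G) ∈ K → k ≠ 1 →
      star χ k - χ k = (m : ℂ) * χ 1 / ((K.subgroupOf N).index : ℂ) := by
  classical
  haveI := Fintype.ofFinite (K.subgroupOf N)
  haveI := Fintype.ofFinite (IrrCharacter (K.subgroupOf N))
  have hSdef : ∀ η : N → ℂ, η ∈ S ↔ (IsIrrCharacter N η ∧ ∃ k : N, k ∈ K.subgroupOf N ∧ η k ≠ η 1) := by
    intro η; rw [hS]; exact Iff.rfl
  have he0 : ((K.subgroupOf N).index : ℂ) ≠ 0 := by
    exact_mod_cast Subgroup.index_ne_zero_of_finite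
  obtain ⟨ξ, hξ, -⟩ := htwo
  obtain ⟨k₀, hk₀, hk₀1⟩ := ((hSdef ξ).mp hξ).2
  have hk₀ne : k₀ ≠ 1 := by rintro rfl; exact hk₀1 rfl
  choose c hc using fun (χ : N → ℂ) (hχ : χ ∈ S) => coh_const hK' hfpf hS hstar hext hχ
  have hvan : ∀ η ∈ S, ∀ x : N, (x : G) ∉ (K : Set G) → η x = 0 := by
    intro η hη x hx
    obtain ⟨τ, -, -, rfl⟩ := (relevant_iff hK' hfpf ((hSdef η).mp hη).1).mp ((hSdef η).mp hη).2
    exact indFun_not_mem_normal hK' τ (fun h => hx (Subgroup.mem_subgroupOf.mp h))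
  -- cross relation
  have hcross : ∀ (χ : N → ℂ) (hχ : χ ∈ S), ξ 1 * c χ hχ = χ 1 * c ξ hξ := by
    intro χ hχ
    obtain ⟨d, hd0, hd⟩ := irr_one_eq_nat ((hSdef χ).mp hχ).1
    obtain ⟨e, he0, he⟩ := irr_one_eq_nat ((hSdef ξ).mp hξ).1
    have h1 := coh_cross hstar hext hχ hξ hd he
    have h2 := indFun_eq_of_TI N (K : Set G) hTI ((e : ℂ) • χ - (d : ℂ) • ξ)
      (classFun_sub (classFun_smul _ (irr_classFun ((hSdef χ).mp hχ).1))
        (classFun_smul _ (irr_classFun ((hSdef ξ).mp hξ).1)))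
      (fun x hx => by simp [hvan χ hχ x hx, hvan ξ hξ x hx]) k₀
      (Subgroup.mem_subgroupOf.mp hk₀) hk₀ne
    rw [← h1] at h2
    simp only [Pi.sub_apply, Pi.smul_apply, smul_eq_mul] at h2
    have h3 := hc χ hχ k₀ hk₀ hk₀ne
    have h4 := hc ξ hξ k₀ hk₀ hk₀ne
    rw [hd, he, ← h3, ← h4]
    linear_combination h2
  have hξ1 : ξ 1 ≠ 0 := irr_one_ne_zero ((hSdef ξ).mp hξ).1
  set m : ℂ := (K.subgroupOf N).index * c ξ hξ / ξ 1 with hm
  have hcm : ∀ (χ : N → ℂ) (hχ : χ ∈ S), (c χ hχ : ℂ) = m * χ 1 / (K.subgroupOf N).index := by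
    intro χ hχ
    rw [hm]
    field_simp
    linear_combination hcross χ hχ
  -- `m τ(1)` is an integer
  have hmτ : ∀ τ : K.subgroupOf N → ℂ, IsIrrCharacter _ τ → τ ≠ (fun _ => 1) →
      ∃ n : ℤ, m * τ 1 = n := by
    intro τ hτ hτ1
    have hη := isIrr_ind_of_fpf hK' hfpf hτ hτ1
    have hηS := (hSdef _).mpr ⟨hη, (relevant_iff hK' hfpf hη).mpr ⟨τ, hτ, hτ1, rfl⟩⟩
    refine ⟨c _ hηS, ?_⟩
    rw [hcm _ hηS, indFun_one_apply]
    field_simp
  let one : IrrCharacter (K.subgroupOf N) := ⟨fun _ => 1, isIrr_one⟩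
  have hm1 : ∃ n : ℤ, m * ((Nat.card (K.subgroupOf N) : ℂ) - 1) = n := by
    have h1 := sum_degree_sq (G := K.subgroupOf N)
    rw [← Finset.add_sum_erase _ _ (Finset.mem_univ one)] at h1
    have h2 : (one : K.subgroupOf N → ℂ) 1 ^ 2 = 1 := by simp [one]
    rw [h2] at h1
    have h3 : m * ((Nat.card (K.subgroupOf N) : ℂ) - 1) =
        ∑ τ ∈ Finset.univ.erase one, (m * (τ : K.subgroupOf N → ℂ) 1) *
          (τ : K.subgroupOf N → ℂ) 1 := by
      rw [← h1, add_sub_cancel_left, Finset.mul_sum]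
      exact Finset.sum_congr rfl fun τ _ => by ring
    rw [h3]
    refine sum_int _ _ fun τ hτ => ?_
    obtain ⟨n, hn⟩ := hmτ τ τ.2 (fun h => (Finset.mem_erase.mp hτ).1 (Subtype.ext h))
    obtain ⟨d, -, hd⟩ := irr_one_eq_nat τ.2
    exact ⟨n * d, by rw [hn, hd]; push_cast; rfl⟩
  have hm2 : ∃ n : ℤ, m * (Nat.card (K.subgroupOf N) : ℂ) = n := by
    obtain ⟨τ, hτ, hτ1, -⟩ := (relevant_iff hK' hfpf ((hSdef ξ).mp hξ).1).mp ((hSdef ξ).mp hξ).2
    obtain ⟨n, hn⟩ := hmτ τ hτ hτ1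
    obtain ⟨d, -, hd⟩ := irr_one_eq_nat hτ
    obtain ⟨r, hr⟩ := irr_degree_dvd_card hτ hd
    refine ⟨n * r, ?_⟩
    rw [hr]
    push_cast
    rw [← hn, hd]
    ring
  obtain ⟨n₁, hn₁⟩ := hm1
  obtain ⟨n₂, hn₂⟩ := hm2
  refine ⟨n₂ - n₁, fun χ hχ k hk hk1 => ?_⟩
  have h1 : ((n₂ - n₁ : ℤ) : ℂ) = m := by
    push_cast
    rw [← hn₁, ← hn₂]
    ring
  rw [h1, ← hcm χ hχ]
  exact hc χ hχ k (Subgroup.mem_subgroupOf.mpr hk) hk1

end Data

end Cfsg.Agent.H3
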