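import Cfsg.Agent.H3.CohI
import Cfsg.Agent.H3.Clifford

/-!
# Sums of squares of degrees for induced characters (helper3)
-/

set_option autoImplicit false
set_option linter.style.haveILetI false
set_option linter.unusedSimpArgs false
set_option linter.unusedSectionVars false
set_option linter.unusedVariables false
open Cfsg
open scoped ComplexConjugate

namespace Cfsg.Agent.H3

universe u v w

/-- degree as a natural number -/
noncomputable def dg {X : Type u} [Group X] (χ : X → ℂ) : ℕ := Nat.floor (χ 1).re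

/-- norm as a natural number -/
noncomputable def nm {X : Type u} [Group X] [Fintype X] (χ : X → ℂ) : ℕ :=
  Nat.floor (classInner χ χ).re

theorem dg_eq {X : Type u} [Group X] {χ : X → ℂ} (hχ : IsCharacter X χ) : χ 1 = dg χ := by
  obtain ⟨n, hn⟩ := char_one_eq_nat hχ
  rw [dg, hn, Complex.natCast_re, Nat.floor_natCast]

theorem dg_of_eq {X : Type u} [Group X] {χ : X → ℂ} {n : ℕ} (h : χ 1 = n) : dg χ = n := by
  rw [dg, h, Complex.natCast_re, Nat.floor_natCast]

theorem dg_pos {X : Type u} [Group X] {χ : X → ℂ} (hχ : IsIrrCharacter X χ) : 0 < dg χ := by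
  obtain ⟨n, hn0, hn⟩ := irr_one_eq_nat hχ
  rwa [dg_of_eq hn]

theorem nm_eq {X : Type u} [Group X] [Fintype X] {χ : X → ℂ} (hχ : IsGeneralizedCharacter X χ) :
    classInner χ χ = nm χ := by
  obtain ⟨n, hn⟩ := gen_norm_nat hχ
  rw [nm, hn, Complex.natCast_re, Nat.floor_natCast]

theorem nm_of_eq {X : Type u} [Group X] [Fintype X] {χ : X → ℂ} {n : ℕ}
    (h : classInner χ χ = n) : nm χ = n := by
  rw [nm, h, Complex.natCast_re, Nat.floor_natCast]

theorem nm_irr {X : Type u} [Group X] [Fintype X] {χ : X → ℂ} (hχ : IsIrrCharacter X χ) :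
    nm χ = 1 := nm_of_eq (by rw [classInner_self_of_irr hχ]; simp)

section normal

variable {K : Type u} [Group K] [Fintype K]

open Classical in
/-- an irreducible character either is trivial on `N` or sums to zero on `N` -/
theorem sum_normal_eq {N : Subgroup K} (hN : N.Normal) [Fintype N] {η : K → ℂ}
    (hη : IsIrrCharacter K η) :
    ∑ n : N, η n = if (∀ n ∈ N, η n = η 1) then (Nat.card N : ℂ) * η 1 else 0 := by
  classical
  split_ifs with h
  · rw [Finset.sum_congr rfl (fun (n : N) _ => h n n.2), Finset.sum_const, Finset.card_univ,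
      nsmul_eq_mul, Nat.card_eq_fintype_card]
  · have h0 : classInner (fun n : N => η n) (fun _ => 1) = 0 := by
      by_contra hne
      apply h
      have h1 := clifford_invariant hN hη isIrr_one (fun x => rfl) hne
      intro n hn
      have h2 := congrFun h1 ⟨n, hn⟩
      have h3 := congrFun h1 1
      simp only [Pi.smul_apply] at h2 h3
      rw [h2]
      exact h3.symm
    rw [classInner] at h0
    have h4 := (mul_eq_zero.1 h0).resolve_left (inv_ne_zero card_ne_zeroC)
    simpa using h4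

open Classical in
/-- the sum of the squares of the degrees of the irreducible characters of `K/N` -/
theorem sum_sq_above {N : Subgroup K} (hN : N.Normal) [Fintype (IrrCharacter K)] :
    ∑ η : IrrCharacter K, (if (∀ n ∈ N, (η : K → ℂ) n = (η : K → ℂ) 1) then
      dg (η : K → ℂ) ^ 2 else 0) = N.index := by
  haveI := Fintype.ofFinite N
  have h1 : ∑ n : N, ∑ η : IrrCharacter K, (η : K → ℂ) 1 * (η : K → ℂ) n = (Nat.card K : ℂ) := by
    rw [Finset.sum_eq_single 1]
    · have := sum_degree_mul (G := K) 1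
      rw [if_pos rfl] at this
      exact this
    · intro n _ hn
      have hn' : n.1 ≠ (1 : K) := fun h => hn (Subtype.ext h)
      rw [sum_degree_mul]
      exact if_neg hn'
    · intro h; exact absurd (Finset.mem_univ _) h
  rw [Finset.sum_comm] at h1
  have h2 : ∀ η : IrrCharacter K, ∑ n : N, (η : K → ℂ) 1 * (η : K → ℂ) n =
      (Nat.card N : ℂ) * ((if (∀ n ∈ N, (η : K → ℂ) n = (η : K → ℂ) 1) then
      dg (η : K → ℂ) ^ 2 else 0 : ℕ) : ℂ) := by
    intro η
    rw [← Finset.mul_sum, sum_normal_eq hN η.2]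
    split_ifs
    · rw [dg_eq (irr_isChar η.2)]; push_cast; ring
    · simp
  rw [Finset.sum_congr rfl fun η _ => h2 η, ← Finset.mul_sum, ← Nat.cast_sum] at h1
  have h3 : Nat.card N * ∑ η : IrrCharacter K, (if (∀ n ∈ N, (η : K → ℂ) n = (η : K → ℂ) 1) then
      dg (η : K → ℂ) ^ 2 else 0) = Nat.card N * N.index := by
    rw [N.card_mul_index]
    exact_mod_cast h1
  exact Nat.eq_of_mul_eq_mul_left Nat.card_pos h3

end normal

section ind

variable {L : Type u} [Group L] [Fintype L] {K : Subgroup L} (hK : K.Normal)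

include hK

/-- induced characters are equal or orthogonal -/
theorem ind_orth_or_conj [Fintype K] {θ η : K → ℂ} (hθ : IsIrrCharacter K θ)
    (hη : IsIrrCharacter K η) (hne : classInner (indFun K θ) (indFun K η) ≠ 0) :
    ∃ x, cj hK x η = θ := by
  by_contra hcon
  push Not at hcon
  apply hne
  have h1 := classInner_indFun_normal hK θ η
  rw [Finset.sum_eq_zero] at h1
  · exact (mul_eq_zero.1 h1).resolve_left card_ne_zeroC
  · intro x _
    exact classInner_of_irr_ne hθ (isIrr_cj hK hη x) (fun h => hcon x h.symm)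

theorem ind_cj (x : L) {θ : K → ℂ} : indFun K (cj hK x θ) = indFun K θ := by
  ext g
  by_cases hg : g ∈ K
  · have h1 := indFun_restrict_normal hK (cj hK x θ) ⟨g, hg⟩
    have h2 := indFun_restrict_normal hK θ ⟨g, hg⟩
    show indFun K (cj hK x θ) (⟨g, hg⟩ : K) = indFun K θ (⟨g, hg⟩ : K)
    rw [h1, h2]
    congr 1
    simp only [← cj_mul]
    exact Fintype.sum_equiv (Equiv.mulLeft x) _ _ fun y => rfl
  · rw [indFun_not_mem_normal hK _ hg, indFun_not_mem_normal hK _ hg]

theorem norm_ind_ne_zero [Fintype K] {θ : K → ℂ} (hθ : IsIrrCharacter K θ) :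
    classInner (indFun K θ) (indFun K θ) ≠ 0 := by
  intro h0
  have h1 := card_inertia_eq_norm hK hθ
  rw [h0, mul_zero] at h1
  have h2 : (Nat.card (inertia hK θ) : ℂ) ≠ 0 := by exact_mod_cast Nat.card_pos.ne'
  exact h2 h1.symm

/-- induced characters are equal iff the characters are conjugate -/
theorem ind_eq_iff {θ η : K → ℂ} (hθ : IsIrrCharacter K θ) (hη : IsIrrCharacter K η) :
    indFun K θ = indFun K η ↔ ∃ x, cj hK x η = θ := by
  haveI := Fintype.ofFinite K
  constructor
  · intro h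
    apply ind_orth_or_conj hK hθ hη
    rw [← h]
    exact norm_ind_ne_zero hK hθ
  · rintro ⟨x, rfl⟩
    exact ind_cj hK x

theorem ind_orth {θ η : K → ℂ} (hθ : IsIrrCharacter K θ) (hη : IsIrrCharacter K η)
    (hne : indFun K θ ≠ indFun K η) : classInner (indFun K θ) (indFun K η) = 0 := by
  haveI := Fintype.ofFinite K
  by_contra h
  exact hne ((ind_eq_iff hK hθ hη).2 (ind_orth_or_conj hK hθ hη h))

omit hK in
theorem dg_ind {θ : K → ℂ} (hθ : IsCharacter K θ) : dg (indFun K θ) = K.index * dg θ := by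
  apply dg_of_eq
  rw [indFun_one_apply, dg_eq hθ]; push_cast; rfl

omit hK in
theorem nm_ind {θ : K → ℂ} (hθ : IsCharacter K θ) :
    classInner (indFun K θ) (indFun K θ) = nm (indFun K θ) :=
  nm_eq (isGen_of_char (isChar_ind K hθ))

theorem nm_ind_pos {θ : K → ℂ} (hθ : IsIrrCharacter K θ) : 0 < nm (indFun K θ) := by
  haveI := Fintype.ofFinite K
  rw [Nat.pos_iff_ne_zero]
  intro h
  apply norm_ind_ne_zero hK hθ
  rw [nm_ind (irr_isChar hθ), h]; simp

open Classical in
/-- size of the fibre of induction -/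
theorem card_fiber [Fintype (IrrCharacter K)] {θ : K → ℂ} (hθ : IsIrrCharacter K θ) :
    nm (indFun K θ) * (Finset.univ.filter (fun η : IrrCharacter K =>
      indFun K (η : K → ℂ) = indFun K θ)).card = K.index := by
  haveI := Fintype.ofFinite K
  have h1 := classFun_expand_apply (classFun_restrict K (indFun_classFun K θ)) (1 : K)
  have h2 : ∀ η : IrrCharacter K, classInner (fun k : K => indFun K θ k) (η : K → ℂ) *
      (η : K → ℂ) 1 = if indFun K (η : K → ℂ) = indFun K θ then
        (nm (indFun K θ) : ℂ) * θ 1 else 0 := by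
    intro η
    rw [← frobenius_reciprocity' K (η : K → ℂ) (indFun_classFun K θ)]
    split_ifs with h
    · rw [h, nm_ind (irr_isChar hθ)]
      obtain ⟨x, hx⟩ := (ind_eq_iff hK η.2 hθ).1 h
      rw [← hx, cj_one_apply]
    · rw [ind_orth hK hθ η.2 (fun h' => h h'.symm), zero_mul]
  rw [Finset.sum_congr rfl fun η _ => h2 η, ← Finset.sum_filter, Finset.sum_const,
    nsmul_eq_mul] at h1
  have h3 : ((1 : K) : L) = 1 := rfl
  rw [h3, indFun_one_apply] at h1
  have h4 := irr_one_ne_zero hθ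
  have h5 : (K.index : ℂ) * θ 1 = ((nm (indFun K θ) * (Finset.univ.filter (fun η : IrrCharacter K =>
      indFun K (η : K → ℂ) = indFun K θ)).card : ℕ) : ℂ) * θ 1 := by
    rw [h1]; push_cast; ring
  exact_mod_cast (mul_right_cancel₀ h4 h5).symm

open Classical in
/-- sum over induced characters -/
theorem sum_image_ind [Fintype (IrrCharacter K)] (F : Finset (IrrCharacter K))
    (hF : ∀ θ ∈ F, ∀ η : IrrCharacter K, indFun K (η : K → ℂ) = indFun K (θ : K → ℂ) → η ∈ F) :
    ∑ φ ∈ F.image (fun θ : IrrCharacter K => indFun K (θ : K → ℂ)), ((dg φ : ℝ) ^ 2 / nm φ) =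
      K.index * ∑ θ ∈ F, (dg (θ : K → ℂ) : ℝ) ^ 2 := by
  rw [Finset.mul_sum]
  apply Finset.sum_image'
  intro θ hθ
  have h1 : F.filter (fun η : IrrCharacter K => indFun K (η : K → ℂ) = indFun K (θ : K → ℂ)) =
      Finset.univ.filter (fun η : IrrCharacter K =>
        indFun K (η : K → ℂ) = indFun K (θ : K → ℂ)) := by
    ext η
    simp only [Finset.mem_filter, Finset.mem_univ, true_and, and_iff_right_iff_imp]
    exact hF θ hθ η
  rw [h1]
  have h2 : ∀ η ∈ Finset.univ.filter (fun η : IrrCharacter K =>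
      indFun K (η : K → ℂ) = indFun K (θ : K → ℂ)), (K.index : ℝ) * (dg (η : K → ℂ) : ℝ) ^ 2 =
      (K.index : ℝ) * (dg (θ : K → ℂ) : ℝ) ^ 2 := by
    intro η hη
    obtain ⟨x, hx⟩ := (ind_eq_iff hK η.2 θ.2).1 (Finset.mem_filter.1 hη).2
    have : dg (η : K → ℂ) = dg (θ : K → ℂ) := by
      rw [dg, dg, ← hx, cj_one_apply]
    rw [this]
  rw [Finset.sum_congr rfl h2, Finset.sum_const, nsmul_eq_mul, dg_ind (irr_isChar θ.2)]
  have h3 := card_fiber hK θ.2
  have h4 : (nm (indFun K (θ : K → ℂ)) : ℝ) ≠ 0 := by exact_mod_cast (nm_ind_pos hK θ.2).ne'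
  have h5 : (nm (indFun K (θ : K → ℂ)) : ℝ) * ((Finset.univ.filter (fun η : IrrCharacter K =>
      indFun K (η : K → ℂ) = indFun K (θ : K → ℂ))).card : ℝ) = K.index := by exact_mod_cast h3
  push_cast
  rw [← h5]
  field_simp

end ind

section above

variable {L : Type u} [Group L] [Fintype L] {K : Subgroup L}

open Classical in
/-- the nonprincipal irreducible characters of `K` whose kernel contains `A` -/
noncomputable def Fa [Fintype (IrrCharacter K)] (A : Subgroup L) : Finset (IrrCharacter K) :=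
  Finset.univ.filter (fun θ => (θ : K → ℂ) ≠ (fun _ => 1) ∧
    ∀ a : K, (a : L) ∈ A → (θ : K → ℂ) a = (θ : K → ℂ) 1)

theorem mem_Fa [Fintype (IrrCharacter K)] {A : Subgroup L} {θ : IrrCharacter K} :
    θ ∈ Fa (K := K) A ↔ (θ : K → ℂ) ≠ (fun _ => 1) ∧
    ∀ a : K, (a : L) ∈ A → (θ : K → ℂ) a = (θ : K → ℂ) 1 := by
  classical
  rw [Fa, Finset.mem_filter]; simp

open Classical in
/-- `S(A)` as a finset -/
noncomputable def Sa [Fintype (IrrCharacter K)] (A : Subgroup L) : Finset (L → ℂ) :=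
  (Fa (K := K) A).image (fun θ : IrrCharacter K => indFun K (θ : K → ℂ))

theorem coe_Sa [Fintype (IrrCharacter K)] {A : Subgroup L} :
    (↑(Sa (K := K) A) : Set (L → ℂ)) = inducedIrrAbove K A := by
  classical
  ext φ
  rw [Finset.mem_coe, Sa, Finset.mem_image]
  constructor
  · rintro ⟨θ, hθ, rfl⟩
    obtain ⟨h1, h2⟩ := mem_Fa.1 hθ
    exact ⟨θ, θ.2, h1, h2, rfl⟩
  · rintro ⟨θ, hθ, h1, h2, rfl⟩
    exact ⟨⟨θ, hθ⟩, mem_Fa.2 ⟨h1, h2⟩, rfl⟩

theorem mem_Sa [Fintype (IrrCharacter K)] {A : Subgroup L} {φ : L → ℂ} :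
    φ ∈ Sa (K := K) A ↔ φ ∈ inducedIrrAbove K A := by
  rw [← coe_Sa]; rfl

theorem Fa_closed (hK : K.Normal) [Fintype (IrrCharacter K)] {A : Subgroup L} (hA : A.Normal) :
    ∀ θ ∈ Fa (K := K) A, ∀ η : IrrCharacter K, indFun K (η : K → ℂ) = indFun K (θ : K → ℂ) →
      η ∈ Fa (K := K) A := by
  intro θ hθ η h
  obtain ⟨x, hx⟩ := (ind_eq_iff hK η.2 θ.2).1 h
  obtain ⟨h1, h2⟩ := mem_Fa.1 hθ
  rw [mem_Fa]
  constructor
  · intro h3
    apply h1
    have h4 : (θ : K → ℂ) = cj hK x⁻¹ (η : K → ℂ) := by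
      rw [← cj_inv_eq_iff]; exact hx
    rw [h4, h3]
    rfl
  · intro a ha
    rw [← hx, cj_apply, cj_one_apply]
    apply h2
    exact hA.conj_mem _ ha x

theorem sum_Fa (hK : K.Normal) [Fintype (IrrCharacter K)] {A : Subgroup L} (hA : A.Normal)
    (hAK : A ≤ K) : ∑ θ ∈ Fa (K := K) A, dg (θ : K → ℂ) ^ 2 + 1 = A.relIndex K := by
  classical
  haveI := Fintype.ofFinite K
  have hN : (A.subgroupOf K).Normal := inferInstance
  have h1 := sum_sq_above (K := K) hN
  rw [← Finset.sum_filter] at h1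
  have h2 : Finset.univ.filter (fun η : IrrCharacter K => ∀ n ∈ A.subgroupOf K,
      (η : K → ℂ) n = (η : K → ℂ) 1) = insert ⟨_, isIrr_one⟩ (Fa (K := K) A) := by
    ext η
    rw [Finset.mem_filter, Finset.mem_insert, mem_Fa]
    simp only [Finset.mem_univ, true_and]
    constructor
    · intro h
      by_cases h3 : (η : K → ℂ) = fun _ => 1
      · exact Or.inl (Subtype.ext h3)
      · exact Or.inr ⟨h3, fun a ha => h a ha⟩
    · rintro (rfl | ⟨-, h⟩)
      · intro n hn; rfl
      · intro n hn; exact h n hn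
  rw [h2, Finset.sum_insert, dg_of_eq (n := 1) (by simp)] at h1
  · rw [← Subgroup.relIndex] at h1
    omega
  · intro h
    exact (mem_Fa.1 h).1 rfl

/-- **the sum over `S(A)`** -/
theorem sum_Sa (hK : K.Normal) [Fintype (IrrCharacter K)] {A : Subgroup L} (hA : A.Normal)
    (hAK : A ≤ K) : ∑ φ ∈ Sa (K := K) A, ((dg φ : ℝ) ^ 2 / nm φ) =
      K.index * ((A.relIndex K : ℝ) - 1) := by
  classical
  rw [Sa, sum_image_ind hK _ (Fa_closed hK hA)]
  congr 1
  have h1 := sum_Fa (K := K) hK hA hAK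
  have h2 : ((∑ θ ∈ Fa (K := K) A, dg (θ : K → ℂ) ^ 2 + 1 : ℕ) : ℝ) = A.relIndex K := by
    exact_mod_cast h1
  push_cast at h2
  linarith

end above

end Cfsg.Agent.H3
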