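import Cfsg.Agent.H3.IndSum
import Cfsg.Agent.H3.DetExt
import Cfsg.Agent.H11.PF3

/-!
# Coherence of induced characters (PF section 6) (helper3)
-/

set_option autoImplicit false
set_option linter.style.haveILetI false
set_option linter.unusedSimpArgs false
set_option linter.unusedSectionVars false
set_option linter.unusedVariables false
open Cfsg
open scoped ComplexConjugate

namespace Cfsg.Agent.H3

universe u v w

section ext

variable {L : Type u} [Group L] [Fintype L] {G : Type v} [Group G] [Fintype G]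
variable {τ : (L → ℂ) → (G → ℂ)}

/-- repeated application of (5.6) -/
theorem coh_extend {S : Set (L → ℂ)} {R : (L → ℂ) → Finset (G → ℂ)}
    (hS : IsCoherenceSystem S τ R) (X Y : Finset (L → ℂ)) [DecidableEq (L → ℂ)]
    (hXS : (↑X : Set (L → ℂ)) ⊆ S) (hYS : (↑Y : Set (L → ℂ)) ⊆ S)
    (hXc : ∀ φ ∈ X, conjFun φ ∈ X) (hYc : ∀ φ ∈ Y, conjFun φ ∈ Y)
    {τ₁ : (L → ℂ) → (G → ℂ)} (h₁ : CohMap (↑X : Set (L → ℂ)) τ τ₁)
    (hstep : ∀ S₁ : Finset (L → ℂ), X ⊆ S₁ → S₁ ⊆ X ∪ Y → (∀ φ ∈ S₁, conjFun φ ∈ S₁) →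
      ¬ Y ⊆ S₁ → ∃ χ ∈ Y, χ ∉ S₁ ∧ ∃ χ₁ ∈ S₁, dg χ₁ ∣ dg χ ∧
        (2 * dg χ * dg χ₁ : ℝ) < ∑ φ ∈ S₁, ((dg φ : ℝ) ^ 2 / (nm φ : ℝ))) :
    ∃ τ₂, CohMap (↑(X ∪ Y) : Set (L → ℂ)) τ τ₂ ∧ ∀ α ∈ zspan (↑X : Set (L → ℂ)),
      τ₂ α = τ₁ α := by
  classical
  have hXYS : (↑(X ∪ Y) : Set (L → ℂ)) ⊆ S := by
    rw [Finset.coe_union]; exact Set.union_subset hXS hYS
  have key : ∀ n : ℕ, ∀ S₁ : Finset (L → ℂ), ((X ∪ Y) \ S₁).card = n → X ⊆ S₁ → S₁ ⊆ X ∪ Y →
      (∀ φ ∈ S₁, conjFun φ ∈ S₁) → ∀ τ₁' : (L → ℂ) → (G → ℂ), CohMap (↑S₁ : Set (L → ℂ)) τ τ₁' →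
      (∀ α ∈ zspan (↑X : Set (L → ℂ)), τ₁' α = τ₁ α) →
      ∃ τ₂, CohMap (↑(X ∪ Y) : Set (L → ℂ)) τ τ₂ ∧ ∀ α ∈ zspan (↑X : Set (L → ℂ)),
      τ₂ α = τ₁ α := by
    intro n
    induction n using Nat.strong_induction_on with
    | _ n ih =>
      intro S₁ hn hX1 hS1 hc τ₁' h1' hext
      by_cases hY : Y ⊆ S₁
      · have hEq : S₁ = X ∪ Y := Finset.Subset.antisymm hS1 (Finset.union_subset hX1 hY)
        exact ⟨τ₁', hEq ▸ h1', hext⟩
      · obtain ⟨χ, hχY, hχ1, χ₁, hχ₁, hdvd, hlt⟩ := hstep S₁ hX1 hS1 hc hY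
        have hS₁S : (↑S₁ : Set (L → ℂ)) ⊆ S := fun φ hφ => hXYS (hS1 hφ)
        have hχ2 : conjFun χ ∉ S₁ := fun h => hχ1 (by
          have := hc _ h
          rwa [conjFun_conjFun] at this)
        obtain ⟨τ₂, h₂, h21⟩ := pf56 hS (d := dg) (n := nm)
          (fun φ hφ => dg_eq (hS.isCharacter φ hφ))
          (fun φ hφ => nm_eq (isGen_of_char (hS.isCharacter φ hφ))) S₁ hS₁S hc h1' (hYS hχY)
          hχ1 hχ2 hχ₁ hdvd hlt
        let S₂ : Finset (L → ℂ) := S₁ ∪ {χ, conjFun χ}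
        have hcoe : (↑S₂ : Set (L → ℂ)) = ↑S₁ ∪ {χ, conjFun χ} := by
          simp [S₂]
        refine ih ((X ∪ Y) \ S₂).card ?_ S₂ rfl (hX1.trans Finset.subset_union_left) ?_ ?_ τ₂
          (by rw [hcoe]; exact h₂) ?_
        · rw [← hn]
          apply Finset.card_lt_card
          rw [Finset.ssubset_iff_of_subset (Finset.sdiff_subset_sdiff (Finset.Subset.refl _)
            Finset.subset_union_left)]
          refine ⟨χ, Finset.mem_sdiff.2 ⟨Finset.mem_union_right _ hχY, hχ1⟩, ?_⟩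
          intro h
          exact (Finset.mem_sdiff.1 h).2 (Finset.mem_union_right _ (by simp))
        · apply Finset.union_subset hS1
          intro φ hφ
          rw [Finset.mem_insert, Finset.mem_singleton] at hφ
          rcases hφ with rfl | rfl
          · exact Finset.mem_union_right _ hχY
          · exact Finset.mem_union_right _ (hYc _ hχY)
        · intro φ hφ
          rcases Finset.mem_union.1 hφ with hφ | hφ
          · exact Finset.mem_union_left _ (hc φ hφ)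
          · apply Finset.mem_union_right
            rw [Finset.mem_insert, Finset.mem_singleton] at hφ ⊢
            rcases hφ with rfl | rfl
            · exact Or.inr rfl
            · exact Or.inl (conjFun_conjFun _)
        · intro α hα
          rw [h21 α (zspan_mono (by exact_mod_cast hX1) hα), hext α hα]
  exact key _ X rfl (Finset.Subset.refl _) Finset.subset_union_left hXc τ₁ h₁ (fun _ _ => rfl)

end ext

section linear

/-- a proper normal subgroup of a solvable group is in the kernel of a nontrivial linear character -/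
theorem exists_linear {K : Type u} [Group K] [Finite K] (hsolv : Group.IsSolvable K)
    {N : Subgroup K} (hN : N.Normal) (hne : N ≠ ⊤) :
    ∃ φ : K →* ℂˣ, φ ≠ 1 ∧ ∀ n ∈ N, φ n = 1 := by
  haveI := hsolv
  haveI : Nontrivial (K ⧸ N) := QuotientGroup.nontrivial_iff.2 hne
  have h1 : commutator (K ⧸ N) < ⊤ := Group.IsSolvable.commutator_lt_top_of_nontrivial _
  haveI : Nontrivial (Abelianization (K ⧸ N)) := QuotientGroup.nontrivial_iff.2 h1.ne
  obtain ⟨a, ha⟩ := exists_ne (1 : Abelianization (K ⧸ N))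
  haveI : NeZero (Monoid.exponent (Abelianization (K ⧸ N))) :=
    ⟨Monoid.exponent_ne_zero_of_finite⟩
  obtain ⟨φ, hφ⟩ := CommGroup.exists_apply_ne_one_of_hasEnoughRootsOfUnity
    (Abelianization (K ⧸ N)) ℂ ha
  refine ⟨(φ.comp Abelianization.of).comp (QuotientGroup.mk' N), ?_, ?_⟩
  · intro h
    obtain ⟨q, rfl⟩ := QuotientGroup.mk_surjective a
    obtain ⟨k, rfl⟩ := QuotientGroup.mk'_surjective N q
    exact hφ (DFunLike.congr_fun h k)
  · intro n hn
    show φ (Abelianization.of (QuotientGroup.mk' N n)) = 1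
    have : QuotientGroup.mk' N n = 1 := (QuotientGroup.eq_one_iff n).2 hn
    rw [this, map_one, map_one]

end linear

section ind

variable {L : Type u} [Group L] [Fintype L] {K : Subgroup L}

theorem conj_ind {θ : K → ℂ} : conjFun (indFun K θ) = indFun K (conjFun θ) := indFun_conj K θ

theorem conj_above {A : Subgroup L} {φ : L → ℂ} (hφ : φ ∈ inducedIrrAbove K A) :
    conjFun φ ∈ inducedIrrAbove K A := by
  obtain ⟨θ, hθ, h1, h2, rfl⟩ := hφ
  refine ⟨conjFun θ, isIrr_conj hθ, ?_, ?_, conj_ind⟩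
  · intro h
    apply h1
    rw [← conjFun_conjFun θ, h]
    ext x; simp [conjFun]
  · intro a ha
    show conj (θ a) = conj (θ 1)
    rw [h2 a ha]

theorem above_mono {A B : Subgroup L} (h : A ≤ B) : inducedIrrAbove K B ⊆ inducedIrrAbove K A := by
  rintro φ ⟨θ, hθ, h1, h2, rfl⟩
  exact ⟨θ, hθ, h1, fun a ha => h2 a (h ha), rfl⟩

theorem exists_above {A : Subgroup L} (hK : K.Normal) (hA : A.Normal) (hAK : A < K) :
    (inducedIrrAbove K A).Nonempty := by
  haveI := Fintype.ofFinite (IrrCharacter K)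
  have h1 := sum_Fa (K := K) hK hA hAK.le
  have h2 : 1 < A.relIndex K := by
    have h3 : A.relIndex K ≠ 1 := by
      rw [Ne, Subgroup.relIndex_eq_one]
      exact not_le_of_gt hAK
    have h4 : A.relIndex K ≠ 0 := Subgroup.index_ne_zero_of_finite
    omega
  have h3 : (Fa (K := K) A).Nonempty := by
    rw [Finset.nonempty_iff_ne_empty]
    intro h
    rw [h, Finset.sum_empty] at h1
    omega
  obtain ⟨θ, hθ⟩ := h3
  exact ⟨_, by rw [← coe_Sa]; exact Finset.mem_image_of_mem _ hθ⟩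

/-- a member of `S(A)` of degree `[L:K]` -/
theorem exists_above_linear {A : Subgroup L} (hsolv : Group.IsSolvable K) (hA : A.Normal)
    (hAK : A < K) : ∃ φ : K →* ℂˣ, φ ≠ 1 ∧ (∀ a : K, (a : L) ∈ A → φ a = 1) ∧
      indFun K (hf φ) ∈ inducedIrrAbove K A := by
  have hN : (A.subgroupOf K).Normal := inferInstance
  have hne : A.subgroupOf K ≠ ⊤ := by
    rw [Ne, Subgroup.subgroupOf_eq_top]; exact not_le_of_gt hAK
  obtain ⟨φ, hφ, hφA⟩ := exists_linear hsolv hN hne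
  refine ⟨φ, hφ, fun a ha => hφA a ha, hf φ, isIrr_hf φ, ?_, ?_, rfl⟩
  · intro h
    apply hφ
    ext x
    exact congrFun h x
  · intro a ha
    rw [hf_at_one, hf_apply, hφA a ha]; simp

/-- degree bound -/
theorem deg_bound {B C D : Subgroup L} (hDC : D ≤ C) (hCK : C ≤ K)
    (hcent : ∀ x ∈ D, ∀ y ∈ C, x * y * x⁻¹ * y⁻¹ ∈ B) {θ : K → ℂ} (hθ : IsIrrCharacter K θ)
    (hB : ∀ a : K, (a : L) ∈ B → θ a = θ 1) :
    dg θ ^ 2 ≤ C.relIndex K ^ 2 * D.relIndex C := by
  have h1 := H11.PF.degree_bound θ hθ (B.subgroupOf K) (C.subgroupOf K) (D.subgroupOf K)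
    (fun x hx => hDC hx) (fun d hd c hc => hcent d hd c hc) (fun b hb => hB b hb)
  rw [dg_eq (irr_isChar hθ), Complex.norm_natCast] at h1
  have h2 : dg θ ^ 2 * Nat.card (C.subgroupOf K) * Nat.card (D.subgroupOf K) ≤ Nat.card K ^ 2 := by
    exact_mod_cast h1
  have h3 : Nat.card (C.subgroupOf K) * C.relIndex K = Nat.card K :=
    (C.subgroupOf K).card_mul_index
  have h4 : Nat.card (D.subgroupOf K) * D.relIndex K = Nat.card K :=
    (D.subgroupOf K).card_mul_index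
  have h5 : D.relIndex C * C.relIndex K = D.relIndex K := Subgroup.relIndex_mul_relIndex D C K hDC hCK
  have h6 : 0 < Nat.card (C.subgroupOf K) * Nat.card (D.subgroupOf K) :=
    Nat.mul_pos Nat.card_pos Nat.card_pos
  apply Nat.le_of_mul_le_mul_right _ h6
  calc dg θ ^ 2 * (Nat.card (C.subgroupOf K) * Nat.card (D.subgroupOf K))
      ≤ Nat.card K ^ 2 := by rw [← mul_assoc]; exact h2
    _ = (Nat.card (C.subgroupOf K) * C.relIndex K) * (Nat.card (D.subgroupOf K) *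
        (D.relIndex C * C.relIndex K)) := by rw [h3, h5, h4, sq]
    _ = _ := by ring

variable {G : Type v} [Group G] [Fintype G] {τ : (L → ℂ) → (G → ℂ)}
  {R : (L → ℂ) → Finset (G → ℂ)}

/-- **PF 6.2** -/
theorem pf62 (hK : K.Normal) (hsolv : Group.IsSolvable K)
    (hS : IsCoherenceSystem (inducedIrrAbove K ⊥) τ R) {A B C D : Subgroup L} (hA : A.Normal)
    (hB : B.Normal) (hAK : A < K) (hBK : B < K) (hDC : D ≤ C) (hCK : C ≤ K)
    (hcent : ∀ x ∈ D, ∀ y ∈ C, x * y * x⁻¹ * y⁻¹ ∈ B)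
    (hcoh : IsCoherent (inducedIrrAbove K A) {1}ᶜ τ)
    (hlt : 4 * C.index ^ 2 * D.relIndex C < (A.relIndex K - 1) ^ 2) :
    IsCoherent (inducedIrrAbove K B) {1}ᶜ τ := by
  classical
  haveI := Fintype.ofFinite (IrrCharacter K)
  obtain ⟨τ₁, h₁⟩ := isCoherent_cohMap hcoh
  obtain ⟨φ₁, hφ₁, hφ₁A, hmem₁⟩ := exists_above_linear hsolv hA hAK
  have hd₁ : dg (indFun K (hf φ₁)) = K.index := by
    rw [dg_ind (irr_isChar (isIrr_hf φ₁)), dg_of_eq (n := 1) (by rw [hf_at_one]; simp), mul_one]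
  have hAS : inducedIrrAbove K A ⊆ inducedIrrAbove K ⊥ := above_mono bot_le
  have hBS : inducedIrrAbove K B ⊆ inducedIrrAbove K ⊥ := above_mono bot_le
  obtain ⟨τ₂, h₂, -⟩ := coh_extend hS (Sa (K := K) A) (Sa (K := K) B) (by rw [coe_Sa]; exact hAS)
    (by rw [coe_Sa]; exact hBS) (fun φ hφ => mem_Sa.2 (conj_above (mem_Sa.1 hφ)))
    (fun φ hφ => mem_Sa.2 (conj_above (mem_Sa.1 hφ))) (by rw [coe_Sa]; exact h₁) (by
      intro S₁ hX1 hS1 hc hY
      obtain ⟨χ, hχY, hχ⟩ := Finset.not_subset.1 hY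
      refine ⟨χ, hχY, hχ, indFun K (hf φ₁), hX1 (mem_Sa.2 hmem₁), ?_, ?_⟩
      · obtain ⟨θ, hθ, -, -, rfl⟩ := mem_Sa.1 hχY
        rw [hd₁, dg_ind (irr_isChar hθ)]
        exact Dvd.intro _ rfl
      · obtain ⟨θ, hθ, -, hθB, rfl⟩ := mem_Sa.1 hχY
        have h3 := deg_bound hDC hCK hcent hθ hθB
        have h4 : ∑ φ ∈ Sa (K := K) A, ((dg φ : ℝ) ^ 2 / nm φ) ≤
            ∑ φ ∈ S₁, ((dg φ : ℝ) ^ 2 / nm φ) :=
          Finset.sum_le_sum_of_subset_of_nonneg hX1 fun _ _ _ => by positivity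
        refine lt_of_lt_of_le ?_ h4
        rw [sum_Sa hK hA hAK.le, hd₁, dg_ind (irr_isChar hθ)]
        have h5 : (2 * K.index * dg θ) ^ 2 < (A.relIndex K - 1) ^ 2 := by
          have h6 : C.relIndex K * K.index = C.index := Subgroup.relIndex_mul_index hCK
          calc (2 * K.index * dg θ) ^ 2 = 4 * K.index ^ 2 * dg θ ^ 2 := by ring
            _ ≤ 4 * K.index ^ 2 * (C.relIndex K ^ 2 * D.relIndex C) :=
                Nat.mul_le_mul_left _ h3
            _ = 4 * C.index ^ 2 * D.relIndex C := by rw [← h6]; ring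
            _ < _ := hlt
        have h7 : 2 * K.index * dg θ < A.relIndex K - 1 := lt_of_pow_lt_pow_left₀ 2 (by positivity) h5
        have h8 : 2 * K.index * dg θ + 1 < A.relIndex K := by omega
        have h9 : (2 * K.index * dg θ + 1 : ℝ) < A.relIndex K := by exact_mod_cast h8
        have h10 : (0 : ℝ) < K.index := by
          exact_mod_cast Nat.pos_of_ne_zero Subgroup.index_ne_zero_of_finite
        push_cast
        nlinarith)
  obtain ⟨χ, hχ⟩ := exists_above hK hB hBK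
  refine (h₂.mono ?_).isCoherent (sys_nonzero hS hBS hχ (conj_above hχ))
  intro φ hφ
  exact Finset.mem_union_right _ (mem_Sa.2 hφ)

end ind

end Cfsg.Agent.H3
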