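import Cfsg.Agent.H3.Clifford
import Cfsg.Agent.H3.Counting
import Cfsg.Agent.H3.TI

/-!
# Frobenius groups: elementary character theory and class counting (helper3)
-/

set_option autoImplicit false
set_option linter.style.haveILetI false
set_option linter.unusedSimpArgs false
open Cfsg
open scoped ComplexConjugate

namespace Cfsg.Agent.H3

universe u v w

section

variable {G : Type u} [Group G]

/-- If all point stabilizers lie in `K` then `|G:K|` divides `|X|`. -/
theorem index_dvd_card_of_stabilizer_le [Finite G] {X : Type v} [MulAction G X] [Finite X]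
    (K : Subgroup G) (h : ∀ x : X, MulAction.stabilizer G x ≤ K) : K.index ∣ Nat.card X := by
  classical
  haveI := Fintype.ofFinite X
  haveI := Fintype.ofFinite (MulAction.orbitRel.Quotient G X)
  rw [Nat.card_congr (MulAction.selfEquivSigmaOrbits G X), Nat.card_sigma]
  refine Finset.dvd_sum fun ω _ => ?_
  have h1 : Nat.card (MulAction.orbit G (Quotient.out ω)) =
      (MulAction.stabilizer G (Quotient.out ω)).index := by
    rw [MulAction.index_stabilizer]
    rfl
  rw [h1]
  exact Subgroup.index_dvd_of_le (h _)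

/-- conjugation action of `G` on the nonidentity elements of a normal subgroup -/
theorem index_dvd_card_sub_one [Finite G] (K : Subgroup G) (hK : K.Normal)
    (hC : ∀ k ∈ K, k ≠ 1 → Subgroup.centralizer ({k} : Set G) ≤ K) :
    K.index ∣ Nat.card K - 1 := by
  classical
  let X := {k : K // k ≠ 1}
  letI : MulAction G X := {
    smul g k := ⟨⟨g * k.1 * g⁻¹, hK.conj_mem _ k.1.2 g⟩, by
      intro h
      apply k.2
      have h1 : g * (k.1 : G) * g⁻¹ = 1 := congrArg Subtype.val h
      ext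
      have h2 : (k.1 : G) = g⁻¹ * (g * (k.1 : G) * g⁻¹) * g := by group
      rw [h2, h1]; simp⟩
    one_smul k := by
      apply Subtype.ext; apply Subtype.ext
      change 1 * (k.1 : G) * 1⁻¹ = _
      simp
    mul_smul a b k := by
      apply Subtype.ext; apply Subtype.ext
      change (a * b) * (k.1 : G) * (a * b)⁻¹ = a * (b * (k.1 : G) * b⁻¹) * a⁻¹
      group }
  have h1 : Nat.card X = Nat.card K - 1 := by
    haveI := Fintype.ofFinite K
    rw [Nat.card_eq_fintype_card, Nat.card_eq_fintype_card]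
    exact Set.card_ne_eq (1 : K)
  rw [← h1]
  apply index_dvd_card_of_stabilizer_le
  intro k g hg
  have h2 : g * (k.1 : G) * g⁻¹ = k.1 := congrArg (fun x : X => ((x.1 : K) : G))
    (MulAction.mem_stabilizer_iff.mp hg)
  apply hC k.1 k.1.2 (fun h => k.2 (Subtype.ext h))
  rw [Subgroup.mem_centralizer_singleton_iff]
  exact mul_inv_eq_iff_eq_mul.mp h2

variable {K : Subgroup G} (hK : K.Normal)

include hK in
/-- `x` acting fixed point freely on `K`: the commutator map is surjective. -/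
theorem exists_commutator_eq [Finite G] {x : G} (hx : ∀ k ∈ K, x * k = k * x → k = 1) {c : G}
    (hc : c ∈ K) : ∃ y ∈ K, c = y⁻¹ * x * y * x⁻¹ := by
  let f : K → K := fun y => ⟨(y : G)⁻¹ * (x * y * x⁻¹), K.mul_mem (K.inv_mem y.2)
    (hK.conj_mem _ y.2 x)⟩
  have hf : Function.Injective f := by
    intro a b hab
    have h1 : (a : G)⁻¹ * (x * a * x⁻¹) = (b : G)⁻¹ * (x * b * x⁻¹) := congrArg Subtype.val hab
    have h2 : x * ((a : G) * (b : G)⁻¹) = ((a : G) * (b : G)⁻¹) * x := by
      calc x * ((a : G) * (b : G)⁻¹) = (a : G) * ((a : G)⁻¹ * (x * a * x⁻¹)) * x * (b : G)⁻¹ := by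
            group
        _ = (a : G) * ((b : G)⁻¹ * (x * b * x⁻¹)) * x * (b : G)⁻¹ := by rw [h1]
        _ = _ := by group
    have h3 := hx _ (K.mul_mem a.2 (K.inv_mem b.2)) h2
    ext
    exact mul_inv_eq_one.mp h3
  obtain ⟨y, hy⟩ := (Finite.injective_iff_surjective.mp hf) ⟨c, hc⟩
  refine ⟨y, y.2, ?_⟩
  have h1 : (y : G)⁻¹ * (x * y * x⁻¹) = c := congrArg Subtype.val hy
  rw [← h1]
  group

include hK in
/-- A fixed-point-free element fixes only the trivial class. -/
theorem eq_one_of_conj_class_fixed [Finite G] {x : G} (hx : ∀ k ∈ K, x * k = k * x → k = 1)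
    {k : G} (hk : k ∈ K) {c : G} (hc : c ∈ K) (h : x * k * x⁻¹ = c * k * c⁻¹) : k = 1 := by
  obtain ⟨y, hy, hcy⟩ := exists_commutator_eq hK hx (K.inv_mem hc)
  have h1 : (c⁻¹ * x) * k = k * (c⁻¹ * x) := by
    calc (c⁻¹ * x) * k = c⁻¹ * (x * k * x⁻¹) * x := by group
      _ = c⁻¹ * (c * k * c⁻¹) * x := by rw [h]
      _ = _ := by group
  have h2 : c⁻¹ * x = y⁻¹ * x * y := by rw [hcy]; group
  rw [h2] at h1
  have h3 : x * (y * k * y⁻¹) = (y * k * y⁻¹) * x := by
    calc x * (y * k * y⁻¹) = y * (y⁻¹ * x * y * k) * y⁻¹ := by group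
      _ = y * (k * (y⁻¹ * x * y)) * y⁻¹ := by rw [h1]
      _ = _ := by group
  have h4 := hx _ (K.mul_mem (K.mul_mem hy hk) (K.inv_mem hy)) h3
  have h5 : k = y⁻¹ * (y * k * y⁻¹) * y := by group
  rw [h5, h4]; group

/-- A fixed-point-free element fixes only the trivial character. -/
theorem eq_one_of_cj_eq [Finite G] {x : G} (hx : ∀ k ∈ K, x * k = k * x → k = 1)
    {τ : K → ℂ} (hτ : IsIrrCharacter K τ) (h : cj hK x τ = τ) : τ = fun _ => 1 := by
  classical
  let α : K ≃* K := cjEquiv hK x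
  let t : Equiv.Perm (ConjClasses K) := {
    toFun := ConjClasses.map α.symm.toMonoidHom
    invFun := ConjClasses.map α.toMonoidHom
    left_inv := by
      intro C
      obtain ⟨g, rfl⟩ := ConjClasses.mk_surjective C
      change ConjClasses.mk (α (α.symm g)) = _
      simp
    right_inv := by
      intro C
      obtain ⟨g, rfl⟩ := ConjClasses.mk_surjective C
      change ConjClasses.mk (α.symm (α g)) = _
      simp }
  let s : IrrCharacter K → IrrCharacter K := fun χ => ⟨_, isIrr_cj hK χ.2 x⟩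
  have hb := brauer_perm_lemma (G := K) s t (by
    intro χ g g' hgg
    have h1 : IsConj g' (α.symm g) := ConjClasses.mk_eq_mk_iff_isConj.mp hgg
    rw [classFun_isConj (irr_classFun (s χ).2) h1]
    change (χ : K → ℂ) (α (α.symm g)) = _
    simp)
  have h2 : Nat.card {C : ConjClasses K // t C = C} = 1 := by
    rw [Nat.card_eq_one_iff_unique]
    refine ⟨⟨?_⟩, ⟨⟨ConjClasses.mk 1, by
      change ConjClasses.mk (α.symm 1) = _
      simp⟩⟩⟩
    have key : ∀ g : K, t (ConjClasses.mk g) = ConjClasses.mk g → g = 1 := by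
      intro g hg
      have h3 : IsConj (α.symm g) g := ConjClasses.mk_eq_mk_iff_isConj.mp hg
      obtain ⟨c, hc⟩ := isConj_iff.mp h3
      have h4 : g = α (α.symm g) := by simp
      have h5 : (g : G) = x * (α.symm g : K) * x⁻¹ := congrArg Subtype.val h4
      have h6 : (c : G) * (α.symm g : K) * (c : G)⁻¹ = g := congrArg Subtype.val hc
      have h7 := eq_one_of_conj_class_fixed hK hx (α.symm g).2 c.2 (by rw [← h5, h6])
      have h8 : α.symm g = 1 := Subtype.ext h7
      rw [h4, h8, map_one]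
    rintro ⟨C, hC⟩ ⟨D, hD⟩
    obtain ⟨g, rfl⟩ := ConjClasses.mk_surjective C
    obtain ⟨h, rfl⟩ := ConjClasses.mk_surjective D
    have e1 := key g hC
    have e2 := key h hD
    subst e1; subst e2
    rfl
  rw [h2] at hb
  obtain ⟨h3, _⟩ := Nat.card_eq_one_iff_unique.mp hb
  have h4 := Subsingleton.elim (⟨⟨τ, hτ⟩, Subtype.ext h⟩ : {χ : IrrCharacter K // s χ = χ})
    ⟨⟨fun _ => 1, isIrr_one⟩, by apply Subtype.ext; rfl⟩
  exact congrArg (fun x : {χ : IrrCharacter K // s χ = χ} => (x.1 : K → ℂ)) h4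

include hK in
/-- Induction from a Frobenius kernel. -/
theorem isIrr_ind_of_fpf [Fintype G] (hfpf : ∀ x : G, x ∉ K → ∀ k ∈ K, x * k = k * x → k = 1)
    {τ : K → ℂ} (hτ : IsIrrCharacter K τ) (hτ1 : τ ≠ fun _ => 1) :
    IsIrrCharacter G (indFun K τ) := by
  apply isIrr_ind_of_inertia_eq hK hτ
  intro x hx
  by_contra hxK
  exact hτ1 (eq_one_of_cj_eq hK (hfpf x hxK) hτ hx)

include hK in
/-- A complement acting fixed-point-freely: all elements outside `K` act fpf. -/
theorem fpf_of_complement [Finite G] (H : Subgroup G) (hKH' : K ⊔ H = ⊤)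
    (hfpf : ∀ h ∈ H, h ≠ 1 → ∀ k ∈ K, h * k = k * h → k = 1) :
    ∀ x : G, x ∉ K → (∃ h ∈ H, h ≠ 1 ∧ ∃ y ∈ K, x = y⁻¹ * h * y) ∧
      ∀ k ∈ K, x * k = k * x → k = 1 := by
  intro x hx
  have hmem : x ∈ K ⊔ H := by rw [hKH']; trivial
  haveI := hK
  obtain ⟨k, hk, h, hh, rfl⟩ := Subgroup.mem_sup_of_normal_left.mp hmem
  have h1 : h ≠ 1 := by rintro rfl; exact hx (by simpa using hk)
  obtain ⟨y, hy, hky⟩ := exists_commutator_eq hK (hfpf h hh h1) hk
  have h2 : k * h = y⁻¹ * h * y := by rw [hky]; group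
  refine ⟨⟨h, hh, h1, y, hy, h2⟩, fun z hz hcomm => ?_⟩
  rw [h2] at hcomm
  have h3 : h * (y * z * y⁻¹) = (y * z * y⁻¹) * h := by
    calc h * (y * z * y⁻¹) = y * (y⁻¹ * h * y * z) * y⁻¹ := by group
      _ = y * (z * (y⁻¹ * h * y)) * y⁻¹ := by rw [hcomm]
      _ = _ := by group
  have h4 := hfpf h hh h1 _ (K.mul_mem (K.mul_mem hy hz) (K.inv_mem hy)) h3
  have h5 : z = y⁻¹ * (y * z * y⁻¹) * y := by group
  rw [h5, h4]; group

end

end Cfsg.Agent.H3
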