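import Cfsg.Agent.H3.TI
import Cfsg.Agent.H3.Counting

/-!
# The isometry lemma and exceptional characters (helper3)

* `gen_norm_two`: a generalized character of norm 2 vanishing at `1` is a difference of two
  irreducible characters
* `isometry_lemma` (any index type)
* `exceptional_characters`
-/

set_option autoImplicit false
set_option linter.style.haveILetI false
set_option linter.unusedSimpArgs false
set_option linter.unusedSectionVars false
open Cfsg
open scoped ComplexConjugate

namespace Cfsg.Agent.H3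

universe u v w

variable {G : Type u} [Group G]

theorem gen_norm_two [Fintype G] {τ : G → ℂ} (hτ : IsGeneralizedCharacter G τ)
    (h1 : τ 1 = 0) (h2 : classInner τ τ = 2) :
    ∃ a b : IrrCharacter G, a ≠ b ∧ τ = (a : G → ℂ) - (b : G → ℂ) := by
  classical
  haveI := Fintype.ofFinite (IrrCharacter G)
  obtain ⟨m, hm, hexp⟩ := gen_expand hτ
  rw [classInner_eq_sum (isGen_classFun hτ)] at h2
  simp only [hm, map_intCast] at h2
  have h3 : ∑ ψ : IrrCharacter G, m ψ * m ψ = 2 := by exact_mod_cast h2
  obtain ⟨a, ha⟩ : ∃ ψ, m ψ ≠ 0 := by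
    by_contra hcon
    push Not at hcon
    simp [hcon] at h3
  rw [← Finset.add_sum_erase _ _ (Finset.mem_univ a)] at h3
  have h4 : 0 ≤ ∑ x ∈ Finset.univ.erase a, m x * m x :=
    Finset.sum_nonneg fun x _ => mul_self_nonneg _
  have h5 : 0 < m a * m a := mul_self_pos.mpr ha
  have hsq : ∀ x : ℤ, x * x ≤ 2 → x * x ≠ 0 → x * x = 1 := by
    intro x hx hx0
    have hb1 : x ≤ 1 := by nlinarith
    have hb2 : -1 ≤ x := by nlinarith
    interval_cases x <;> simp_all
  have h6 : m a * m a = 1 := hsq _ (by omega) h5.ne'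
  have h7 : ∑ x ∈ Finset.univ.erase a, m x * m x = 1 := by omega
  obtain ⟨b, hba, hb⟩ : ∃ b ∈ Finset.univ.erase a, m b ≠ 0 := by
    by_contra hcon
    push Not at hcon
    rw [Finset.sum_eq_zero (fun x hx => by rw [hcon x hx]; simp)] at h7
    exact absurd h7 (by norm_num)
  rw [← Finset.add_sum_erase _ _ hba] at h7
  have h8 : 0 ≤ ∑ x ∈ (Finset.univ.erase a).erase b, m x * m x :=
    Finset.sum_nonneg fun x _ => mul_self_nonneg _
  have h9 : 0 < m b * m b := mul_self_pos.mpr hb
  have h10 : m b * m b = 1 := hsq _ (by omega) h9.ne'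
  have h11 : ∑ x ∈ (Finset.univ.erase a).erase b, m x * m x = 0 := by omega
  have hba' : b ≠ a := (Finset.mem_erase.mp hba).1
  have h12 : ∀ x, x ≠ a → x ≠ b → m x = 0 := fun x hx hx' => by
    have := (Finset.sum_eq_zero_iff_of_nonneg (fun x _ => mul_self_nonneg (m x))).mp h11 x
      (Finset.mem_erase.mpr ⟨hx', Finset.mem_erase.mpr ⟨hx, Finset.mem_univ x⟩⟩)
    exact mul_self_eq_zero.mp this
  have h13 : τ = (m a : ℂ) • (a : G → ℂ) + (m b : ℂ) • (b : G → ℂ) := by
    rw [hexp, ← Finset.add_sum_erase _ _ (Finset.mem_univ a), ← Finset.add_sum_erase _ _ hba,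
      Finset.sum_eq_zero, add_zero]
    intro x hx
    have hx1 := Finset.mem_erase.mp hx
    have hx2 := Finset.mem_erase.mp hx1.2
    rw [h12 x hx2.1 hx1.1]; simp
  obtain ⟨da, hda0, hda⟩ := irr_one_eq_nat a.2
  obtain ⟨db, hdb0, hdb⟩ := irr_one_eq_nat b.2
  have h14 : (m a : ℂ) * da + m b * db = 0 := by
    have := congrFun h13 1
    rw [h1] at this
    simpa [hda, hdb] using this.symm
  have h15 : m a * da + m b * db = 0 := by exact_mod_cast h14
  have hda0' : (0 : ℤ) < da := by exact_mod_cast hda0
  have hdb0' : (0 : ℤ) < db := by exact_mod_cast hdb0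
  rcases (Int.isUnit_iff.mp (IsUnit.of_mul_eq_one _ h6)) with ha1 | ha1 <;>
    rcases (Int.isUnit_iff.mp (IsUnit.of_mul_eq_one _ h10)) with hb1 | hb1
  · rw [ha1, hb1] at h15; exfalso; linarith
  · refine ⟨a, b, hba'.symm, ?_⟩
    rw [h13, ha1, hb1]
    simp [sub_eq_add_neg]
  · refine ⟨b, a, hba', ?_⟩
    rw [h13, ha1, hb1]
    ext g
    simp
    ring
  · rw [ha1, hb1] at h15; exfalso; linarith

theorem classInner_diff [Fintype G] [DecidableEq (IrrCharacter G)] (a b c d : IrrCharacter G) :
    classInner ((a : G → ℂ) - (b : G → ℂ)) ((c : G → ℂ) - (d : G → ℂ)) =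
      ((((if a = c then 1 else 0) - (if a = d then 1 else 0) - (if b = c then 1 else 0) +
        (if b = d then 1 else 0) : ℤ)) : ℂ) := by
  rw [classInner_sub_left, classInner_sub_right, classInner_sub_right]
  simp only [classInner_irr']
  push_cast
  ring_nf

/-- **The isometry lemma** -/
theorem isometry_lemma [Fintype G] {ι : Type*} (i₀ : ι) (τ : ι → (G → ℂ)) (h0 : τ i₀ = 0)
    (hgen : ∀ i, IsGeneralizedCharacter G (τ i)) (hone : ∀ i, τ i 1 = 0)
    (hdiag : ∀ i, i ≠ i₀ → classInner (τ i) (τ i) = 2)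
    (hoff : ∀ i j, i ≠ i₀ → j ≠ i₀ → i ≠ j → classInner (τ i) (τ j) = 1) :
    ∃ ε : ℂ, (ε = 1 ∨ ε = -1) ∧ ∃ μ : ι → (G → ℂ), (∀ i, IsIrrCharacter G (μ i)) ∧
      Function.Injective μ ∧ ∀ i, τ i = ε • (μ i - μ i₀) := by
  classical
  have key : ∀ i, ∃ a b : IrrCharacter G, i ≠ i₀ → a ≠ b ∧ τ i = (a : G → ℂ) - (b : G → ℂ) := by
    intro i
    by_cases hi : i = i₀
    · exact ⟨⟨_, isIrr_one⟩, ⟨_, isIrr_one⟩, fun h => absurd hi h⟩
    · obtain ⟨a, b, hab, h⟩ := gen_norm_two (hgen i) (hone i) (hdiag i hi)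
      exact ⟨a, b, fun _ => ⟨hab, h⟩⟩
  choose a b hab using key
  have hpair : ∀ i j, i ≠ i₀ → j ≠ i₀ → i ≠ j →
      (a i = a j ∧ b i ≠ b j) ∨ (b i = b j ∧ a i ≠ a j) := by
    intro i j hi hj hij
    have h := hoff i j hi hj hij
    rw [(hab i hi).2, (hab j hj).2, classInner_diff] at h
    have h' : ((if a i = a j then 1 else 0) - (if a i = b j then 1 else 0) -
      (if b i = a j then 1 else 0) + (if b i = b j then 1 else 0) : ℤ) = 1 := by exact_mod_cast h
    by_cases h1 : a i = a j <;> by_cases h2 : b i = b j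
    · exfalso
      have h3 : a i ≠ b j := by rw [h1]; exact (hab j hj).1
      have h4 : b i ≠ a j := by rw [h2]; exact (hab j hj).1.symm
      simp [h1, h2, h3, h4] at h'
      rw [if_neg (hab j hj).1, if_neg (hab j hj).1.symm] at h'
      norm_num at h'
    · exact Or.inl ⟨h1, h2⟩
    · exact Or.inr ⟨h2, h1⟩
    · exfalso
      rw [if_neg h1, if_neg h2] at h'
      split_ifs at h' <;> omega
  by_cases hall : ∀ i j, i ≠ i₀ → j ≠ i₀ → b i = b j
  · -- common second component
    by_cases hne : ∃ k, k ≠ i₀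
    · obtain ⟨k, hk⟩ := hne
      refine ⟨1, Or.inl rfl, fun i => if i = i₀ then (b k : G → ℂ) else (a i : G → ℂ), ?_, ?_, ?_⟩
      · intro i
        dsimp only
        split_ifs
        · exact (b k).2
        · exact (a i).2
      · intro i j hij
        dsimp only at hij
        by_cases hi : i = i₀ <;> by_cases hj : j = i₀
        · rw [hi, hj]
        · rw [if_pos hi, if_neg hj] at hij
          exfalso
          apply (hab j hj).1
          rw [hall j k hj hk]
          exact Subtype.ext hij.symm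
        · rw [if_neg hi, if_pos hj] at hij
          exfalso
          apply (hab i hi).1
          rw [hall i k hi hk]
          exact Subtype.ext hij
        · rw [if_neg hi, if_neg hj] at hij
          by_contra hne
          rcases hpair i j hi hj hne with h | h
          · exact h.2 (hall i j hi hj)
          · exact h.2 (Subtype.ext hij)
      · intro i
        by_cases hi : i = i₀
        · rw [hi, h0]; simp
        · dsimp only
          rw [if_neg hi, if_pos rfl, one_smul, (hab i hi).2, hall i k hi hk]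
    · push Not at hne
      refine ⟨1, Or.inl rfl, fun _ => fun _ => 1, fun _ => isIrr_one, ?_, ?_⟩
      · intro i j _
        rw [hne i, hne j]
      · intro i
        rw [hne i, h0]; simp
  · push Not at hall
    obtain ⟨i, j, hi, hj, hbij⟩ := hall
    have hij : i ≠ j := fun h => hbij (by rw [h])
    have haij : a i = a j := by
      rcases hpair i j hi hj hij with h | h
      · exact h.1
      · exact absurd h.1 hbij
    have hacom : ∀ k, k ≠ i₀ → a k = a i := by
      intro k hk
      by_cases hki : k = i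
      · rw [hki]
      by_cases hkj : k = j
      · rw [hkj, haij]
      rcases hpair k i hk hi hki with h | h
      · exact h.1
      · rcases hpair k j hk hj hkj with h' | h'
        · rw [h'.1, haij]
        · exact absurd (h.1.symm.trans h'.1) hbij
    refine ⟨-1, Or.inr rfl, fun k => if k = i₀ then (a i : G → ℂ) else (b k : G → ℂ), ?_, ?_, ?_⟩
    · intro k
      dsimp only
      split_ifs
      · exact (a i).2
      · exact (b k).2
    · intro k l hkl
      dsimp only at hkl
      by_cases hk : k = i₀ <;> by_cases hl : l = i₀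
      · rw [hk, hl]
      · rw [if_pos hk, if_neg hl] at hkl
        exfalso
        apply (hab l hl).1
        rw [hacom l hl]
        exact Subtype.ext hkl
      · rw [if_neg hk, if_pos hl] at hkl
        exfalso
        apply (hab k hk).1
        rw [hacom k hk]
        exact Subtype.ext hkl.symm
      · rw [if_neg hk, if_neg hl] at hkl
        by_contra hne
        rcases hpair k l hk hl hne with h | h
        · exact h.2 (Subtype.ext hkl)
        · exact h.2 ((hacom k hk).trans (hacom l hl).symm)
    · intro k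
      by_cases hk : k = i₀
      · rw [hk, h0]; simp
      · dsimp only
        rw [if_neg hk, if_pos rfl, (hab k hk).2, hacom k hk]
        simp

/-- **Exceptional characters** for a TI-set. -/
theorem exceptional_characters [Fintype G] (N : Subgroup G) (T : Set G)
    (hTI : ∀ g : G, g ∉ N → ∀ t ∈ T, g * t * g⁻¹ ∈ T → t = 1) {ι : Type*}
    (i₀ : ι) (χ : ι → (N → ℂ)) (hirr : ∀ i, IsIrrCharacter N (χ i)) (hinj : Function.Injective χ)
    (hvan : ∀ i j, ∀ x : N, (x : G) ∉ T → χ i x = χ j x) (hdeg : ∀ i j, χ i 1 = χ j 1) :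
    ∃ ε : ℂ, (ε = 1 ∨ ε = -1) ∧ ∃ θ : ι → (G → ℂ), (∀ i, IsIrrCharacter G (θ i)) ∧
      Function.Injective θ ∧ ∀ i j, indFun N (χ i) - indFun N (χ j) = ε • (θ i - θ j) := by
  classical
  haveI := Fintype.ofFinite N
  let τ : ι → (G → ℂ) := fun i => indFun N (χ i - χ i₀)
  have hinner : ∀ i j, classInner (τ i) (τ j) = classInner (χ i - χ i₀) (χ j - χ i₀) := by
    intro i j
    refine classInner_indFun_of_TI N T hTI _ _
      (classFun_sub (irr_classFun (hirr j)) (irr_classFun (hirr i₀))) ?_ ?_ ?_
    · intro x hx; simp [hvan i i₀ x hx]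
    · intro x hx; simp [hvan j i₀ x hx]
    · simp [hdeg i i₀]
  have hexp : ∀ i j, classInner (χ i - χ i₀) (χ j - χ i₀) =
      (if i = j then 1 else 0) - (if i = i₀ then 1 else 0) - (if i₀ = j then 1 else 0) + 1 := by
    intro i j
    have h1 : ∀ i j, classInner (χ i) (χ j) = if i = j then 1 else 0 := by
      intro i j
      rw [classInner_irr (hirr i) (hirr j)]
      simp only [hinj.eq_iff]
    rw [classInner_sub_left, classInner_sub_right, classInner_sub_right, h1, h1, h1, h1,
      if_pos (rfl : i₀ = i₀)]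
    ring
  obtain ⟨ε, hε, μ, hμ, hμinj, hτ⟩ := isometry_lemma i₀ τ (by
      show indFun N (χ i₀ - χ i₀) = 0
      rw [sub_self, indFun_zero])
    (fun i => isGen_ind N (isGen_sub (isGen_of_irr (hirr i)) (isGen_of_irr (hirr i₀))))
    (fun i => by
      show indFun N (χ i - χ i₀) 1 = 0
      rw [indFun_one_apply]; simp [hdeg i i₀])
    (fun i hi => by rw [hinner, hexp]; simp [hi, Ne.symm hi]; norm_num)
    (fun i j hi hj hij => by rw [hinner, hexp]; simp [hi, Ne.symm hj, hij])
  refine ⟨ε, hε, μ, hμ, hμinj, fun i j => ?_⟩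
  have h1 : indFun N (χ i) - indFun N (χ j) = τ i - τ j := by
    simp only [τ, indFun_sub]
    abel
  rw [h1, hτ i, hτ j, ← smul_sub]
  congr 1
  abel

end Cfsg.Agent.H3
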