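import Cfsg.Agent.H3.Isometry
import Cfsg.Agent.H3.Frob
import Cfsg.Agent.H3.Taketa
import Cfsg.Agent.H3.Integral

/-!
# T.I. subgroups with Frobenius normalizers (helper3)
-/

set_option autoImplicit false
set_option linter.style.haveILetI false
set_option linter.unusedSimpArgs false
set_option linter.unusedSectionVars false
set_option linter.unusedVariables false
open Cfsg
open scoped ComplexConjugate

namespace Cfsg.Agent.H3

universe u v w

section Frobenius

variable {M : Type u} [Group M] {K : Subgroup M}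

theorem fpf_of_centralizer_le (hC : ∀ k ∈ K, k ≠ 1 → Subgroup.centralizer ({k} : Set M) ≤ K) :
    ∀ x : M, x ∉ K → ∀ k ∈ K, x * k = k * x → k = 1 := by
  intro x hx k hk h
  by_contra hk1
  apply hx
  apply hC k hk hk1
  rw [Subgroup.mem_centralizer_singleton_iff]
  exact h

theorem not_const_of_ind [Fintype M] [Fintype K] (hK : K.Normal) {τ : K → ℂ}
    (hτ : IsIrrCharacter K τ) (hτ1 : τ ≠ fun _ => 1) {χ : M → ℂ} (hχ : IsIrrCharacter M χ)
    (h : classInner (fun k : K => χ k) τ ≠ 0) : ∃ k : M, k ∈ K ∧ χ k ≠ χ 1 := by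
  by_contra hcon
  push Not at hcon
  apply h
  have h1 : (fun k : K => χ k) = χ 1 • (fun _ : K => (1 : ℂ)) := by
    ext k
    simp [hcon k k.2]
  rw [h1, classInner_smul_left, classInner_of_irr_ne isIrr_one hτ (Ne.symm hτ1), mul_zero]

theorem relevant_iff [Fintype M] (hK : K.Normal)
    (hfpf : ∀ x : M, x ∉ K → ∀ k ∈ K, x * k = k * x → k = 1) {χ : M → ℂ}
    (hχ : IsIrrCharacter M χ) :
    (∃ k : M, k ∈ K ∧ χ k ≠ χ 1) ↔
      ∃ τ : K → ℂ, IsIrrCharacter K τ ∧ τ ≠ (fun _ => 1) ∧ χ = indFun K τ := by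
  classical
  haveI := Fintype.ofFinite K
  constructor
  · rintro ⟨k, hk, hχk⟩
    obtain ⟨τ, hτ, hτ0, hτ1⟩ : ∃ τ : K → ℂ, IsIrrCharacter K τ ∧
        classInner (fun k : K => χ k) τ ≠ 0 ∧ τ ≠ fun _ => 1 := by
      by_contra hcon
      push Not at hcon
      apply hχk
      have := char_eq_one_of_constituents (isChar_restrict K (irr_isChar hχ)) (g := ⟨k, hk⟩)
        (fun τ hτ hτ0 => by rw [hcon τ hτ hτ0])
      exact this
    refine ⟨τ, hτ, hτ1, ?_⟩
    have h1 := isIrr_ind_of_fpf hK hfpf hτ hτ1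
    by_contra hne
    apply hτ0
    rw [← frobenius_reciprocity' K τ (irr_classFun hχ)]
    exact classInner_of_irr_ne hχ h1 hne
  · rintro ⟨τ, hτ, hτ1, rfl⟩
    apply not_const_of_ind hK hτ hτ1 hχ
    rw [← frobenius_reciprocity' K τ (irr_classFun hχ), classInner_self_of_irr hχ]
    exact one_ne_zero

/-- if all nonprincipal multiplicities are `b τ(1)`, the function is constant off `1`. -/
theorem const_of_inner {K : Type u} [Group K] [Fintype K] {f : K → ℂ} (hf : IsClassFunction K f)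
    (b : ℂ) (h : ∀ τ : K → ℂ, IsIrrCharacter K τ → τ ≠ (fun _ => 1) → classInner f τ = b * τ 1)
    (k : K) (hk : k ≠ 1) : f k = classInner f (fun _ => 1) - b := by
  classical
  haveI := Fintype.ofFinite (IrrCharacter K)
  let one : IrrCharacter K := ⟨fun _ => 1, isIrr_one⟩
  have h1 := classFun_expand_apply hf k
  have h2 := sum_degree_mul (G := K) k
  rw [if_neg hk] at h2
  rw [← Finset.add_sum_erase _ _ (Finset.mem_univ one)] at h1 h2
  have h3 : ∑ τ ∈ Finset.univ.erase one, classInner f (τ : K → ℂ) * (τ : K → ℂ) k =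
      b * ∑ τ ∈ Finset.univ.erase one, (τ : K → ℂ) 1 * (τ : K → ℂ) k := by
    rw [Finset.mul_sum]
    refine Finset.sum_congr rfl fun τ hτ => ?_
    rw [h τ τ.2 (fun h' => (Finset.mem_erase.mp hτ).1 (Subtype.ext h'))]
    ring
  rw [h3] at h1
  have h4 : (one : K → ℂ) 1 * (one : K → ℂ) k = 1 := by simp [one]
  have h5 : classInner f (one : K → ℂ) * (one : K → ℂ) k = classInner f (fun _ => 1) := by
    simp [one]
  rw [h5] at h1
  rw [h4] at h2
  rw [h1]
  linear_combination b * h2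

end Frobenius

section TI

variable {G : Type u} [Group G] {K : Subgroup G}

theorem subgroupOf_centralizer_le (N : Subgroup G)
    (hC : ∀ k ∈ K, k ≠ 1 → Subgroup.centralizer ({k} : Set G) ≤ K) :
    ∀ k ∈ K.subgroupOf N, k ≠ 1 → Subgroup.centralizer ({k} : Set N) ≤ K.subgroupOf N := by
  intro k hk hk1 x hx
  rw [Subgroup.mem_subgroupOf] at hk ⊢
  apply hC k hk (fun h => hk1 (Subtype.ext h))
  rw [Subgroup.mem_centralizer_singleton_iff] at hx ⊢
  exact congrArg Subtype.val hx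

theorem ti_no_fusion [Finite G] (hTI : ∀ g : G, g ∉ Subgroup.normalizer (K : Set G) →
      ∀ k ∈ K, g * k * g⁻¹ ∈ K → k = 1)
    (hC : ∀ k ∈ K, k ≠ 1 → Subgroup.centralizer ({k} : Set G) ≤ K) :
    ∀ x ∈ Subgroup.normalizer (K : Set G), x ∉ K → ∀ g : G, g * x * g⁻¹ ∉ K := by
  intro x hx hxK g hg
  apply hxK
  let N := Subgroup.normalizer (K : Set G)
  let K' := K.subgroupOf N
  have hK' : K'.Normal := Subgroup.normal_in_normalizer
  have h1 := index_dvd_card_sub_one K' hK' (subgroupOf_centralizer_le N hC)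
  have hcard : Nat.card K' = Nat.card K :=
    Nat.card_congr (Subgroup.subgroupOfEquivOfLe Subgroup.le_normalizer).toEquiv
  have h2 : orderOf x ∣ Nat.card K' := by
    have h3 : orderOf (g * x * g⁻¹) = orderOf x := by
      have := orderOf_injective (MulAut.conj g).toMonoidHom (MulAut.conj g).injective x
      simpa using this
    rw [← h3, hcard]
    exact Subgroup.orderOf_dvd_natCard K hg
  have hcop : Nat.Coprime K'.index (orderOf x) := by
    have h4 : Nat.Coprime K'.index (Nat.card K') := by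
      have hpos : 0 < Nat.card K' := Nat.card_pos
      refine Nat.Coprime.coprime_dvd_left h1 ?_
      obtain ⟨c, hc⟩ := Nat.exists_eq_succ_of_ne_zero hpos.ne'
      rw [hc]
      simp
    exact Nat.Coprime.coprime_dvd_right h2 h4
  obtain ⟨m, hm⟩ := exists_pow_eq_self_of_coprime (x := (⟨x, hx⟩ : N)) (n := K'.index) (by
    rw [← Subgroup.orderOf_coe]; exact hcop)
  have h5 : (⟨x, hx⟩ : N) ^ K'.index ∈ K' := Subgroup.pow_index_mem K' _
  have h6 := K'.pow_mem h5 m
  rw [hm] at h6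
  exact Subgroup.mem_subgroupOf.mp h6

theorem ti_ind_eq [Fintype G] (hTI : ∀ g : G, g ∉ Subgroup.normalizer (K : Set G) →
      ∀ k ∈ K, g * k * g⁻¹ ∈ K → k = 1)
    (hC : ∀ k ∈ K, k ≠ 1 → Subgroup.centralizer ({k} : Set G) ≤ K)
    (ϑ : Subgroup.normalizer (K : Set G) → ℂ)
    (hϑ : IsClassFunction (Subgroup.normalizer (K : Set G)) ϑ)
    (hvan : ∀ x : Subgroup.normalizer (K : Set G), (x : G) ∉ K → ϑ x = 0) (h1 : ϑ 1 = 0)
    (x : Subgroup.normalizer (K : Set G)) :
    indFun (Subgroup.normalizer (K : Set G)) ϑ x = ϑ x := by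
  by_cases hx1 : x = 1
  · rw [hx1, h1, Subgroup.coe_one, indFun_one_apply, h1, mul_zero]
  by_cases hxK : (x : G) ∈ K
  · exact indFun_eq_of_TI _ (K : Set G) hTI ϑ hϑ hvan x hxK hx1
  · rw [hvan x hxK, indFun, Finset.sum_eq_zero, mul_zero]
    intro y _
    by_cases hy : y⁻¹ * x * y ∈ Subgroup.normalizer (K : Set G)
    · rw [extendByZero_mem _ _ hy]
      apply hvan
      have := ti_no_fusion hTI hC x x.2 hxK y⁻¹
      simpa using this
    · exact extendByZero_not_mem _ _ hy

/-- the relevant characters have equal degree when `K` is abelian -/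
theorem ti_exceptional [Fintype G] (hTI : ∀ g : G, g ∉ Subgroup.normalizer (K : Set G) →
      ∀ k ∈ K, g * k * g⁻¹ ∈ K → k = 1)
    (hC : ∀ k ∈ K, k ≠ 1 → Subgroup.centralizer ({k} : Set G) ≤ K)
    (hab : ∀ a ∈ K, ∀ b ∈ K, a * b = b * a) {ι : Type*} (i₀ : ι)
    (χ : ι → (Subgroup.normalizer (K : Set G) → ℂ))
    (hirr : ∀ i, IsIrrCharacter _ (χ i)) (hinj : Function.Injective χ)
    (hrel : ∀ i, ∃ k : Subgroup.normalizer (K : Set G), (k : G) ∈ K ∧ χ i k ≠ χ i 1) :
    ∃ ε : ℂ, (ε = 1 ∨ ε = -1) ∧ ∃ θ : ι → (G → ℂ), (∀ i, IsIrrCharacter G (θ i)) ∧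
      Function.Injective θ ∧ ∀ i j, indFun (Subgroup.normalizer (K : Set G)) (χ i) -
        indFun (Subgroup.normalizer (K : Set G)) (χ j) = ε • (θ i - θ j) := by
  classical
  haveI := Fintype.ofFinite (Subgroup.normalizer (K : Set G))
  let N := Subgroup.normalizer (K : Set G)
  let K' := K.subgroupOf N
  haveI hK' : K'.Normal := Subgroup.normal_in_normalizer
  have hfpf := fpf_of_centralizer_le (subgroupOf_centralizer_le N hC)
  haveI : IsMulCommutative K' := ⟨⟨fun x y => by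
    apply Subtype.ext; apply Subtype.ext
    exact hab _ (Subgroup.mem_subgroupOf.mp x.2) _ (Subgroup.mem_subgroupOf.mp y.2)⟩⟩
  have hform : ∀ i, ∃ τ : K' → ℂ, IsIrrCharacter K' τ ∧ τ ≠ (fun _ => 1) ∧ χ i = indFun K' τ := by
    intro i
    obtain ⟨k, hk, hk'⟩ := hrel i
    exact (relevant_iff hK' hfpf (hirr i)).mp ⟨k, Subgroup.mem_subgroupOf.mpr hk, hk'⟩
  have hvan : ∀ i, ∀ x : N, (x : G) ∉ K → χ i x = 0 := by
    intro i x hx
    obtain ⟨τ, -, -, h⟩ := hform i
    rw [h]
    exact indFun_not_mem_normal hK' τ (fun h => hx (Subgroup.mem_subgroupOf.mp h))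
  have hdeg : ∀ i, χ i 1 = K'.index := by
    intro i
    obtain ⟨τ, hτ, -, h⟩ := hform i
    rw [h, indFun_one_apply, irr_degree_one_of_comm hτ, mul_one]
  exact exceptional_characters N (K : Set G) hTI i₀ χ hirr hinj
    (fun i j x hx => by rw [hvan i x hx, hvan j x hx]) (fun i j => by rw [hdeg, hdeg])

end TI

end Cfsg.Agent.H3
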