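import Cfsg.Agent.H3.Triple
import Cfsg.Agent.H3.Integral

/-!
# Lemmas for Berger's theorem on quasi-primitive characters (helper3)
-/

set_option autoImplicit false
set_option linter.style.haveILetI false
set_option linter.unusedSimpArgs false
set_option linter.unusedSectionVars false
set_option linter.unusedVariables false
open Cfsg
open scoped ComplexConjugate commutatorElement

namespace Cfsg.Agent.H3

universe u v w

/-- irreducibility of the restriction to a subgroup that covers `X` modulo the kernel -/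
theorem isIrr_restrict_of_cover {X : Type u} [Group X] [Finite X] {ξ : X → ℂ}
    (hξ : IsIrrCharacter X ξ) (A : Subgroup X) (hA : ∀ x, ∃ a ∈ A, ξ (a⁻¹ * x) = ξ 1) :
    IsIrrCharacter A (fun a : A => ξ a) := by
  obtain ⟨n, ρ, hρ, rfl⟩ := hξ
  refine ⟨n, (ρ.comp A.subtype : Representation ℂ A (Fin n → ℂ)), ?_, rfl⟩
  have key : ∀ x, ∃ a : A, ρ x = ρ (a : X) := by
    intro x
    obtain ⟨a, ha, h⟩ := hA x
    rw [Representation.char_one] at h
    have h1 := H27.rep_eq_one_of_char_eq ρ _ h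
    refine ⟨⟨a, ha⟩, ?_⟩
    have h2 : ρ (a * (a⁻¹ * x)) = ρ a := by rw [map_mul, h1, mul_one]
    rwa [mul_inv_cancel_left] at h2
  let e : Subrepresentation (ρ.comp A.subtype : Representation ℂ A (Fin n → ℂ)) ≃o
      Subrepresentation ρ := {
    toFun U := ⟨U.toSubmodule, fun g v hv => by
      obtain ⟨a, ha⟩ := key g
      rw [ha]
      exact U.apply_mem_toSubmodule a hv⟩
    invFun U := ⟨U.toSubmodule, fun h v hv => U.apply_mem_toSubmodule (h : X) hv⟩
    left_inv U := rfl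
    right_inv U := rfl
    map_rel_iff' := Iff.rfl }
  exact e.isSimpleOrder_iff.mpr hρ

section

variable {G : Type u} [Group G] [Fintype G]

theorem char_eq_of_degree {Θ θ : G → ℂ} (hΘ : IsCharacter G Θ) (hθ : IsIrrCharacter G θ)
    (hne : classInner Θ θ ≠ 0) (h1 : Θ 1 = θ 1) : Θ = θ := by
  obtain ⟨k, hk⟩ := classInner_char_nat hΘ (irr_isChar hθ)
  obtain ⟨n, hn0, hn⟩ := irr_one_eq_nat hθ
  have h2 := char_mult_degree_le hΘ hθ hk (m := n) (n := n) (by rw [h1, hn]) hn
  have h3 : k ≠ 0 := by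
    rintro rfl
    exact hne (by rw [hk]; simp)
  have h4 : k = 1 := by
    have h5 : k ≤ 1 := by
      by_contra hcon
      push Not at hcon
      have : n < k * n := by nlinarith
      omega
    omega
  subst h4
  have h5 := char_eq_smul_of_degree hΘ hθ hk (by rw [h1]; simp)
  rw [h5]; simp

/-- an irreducible character is not a proper sum -/
theorem sum_irr {χ A B : G → ℂ} (hχ : IsIrrCharacter G χ) (hA : IsCharacter G A)
    (hB : IsCharacter G B) (h : χ = A + B) (hA0 : A ≠ 0) : B = 0 := by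
  classical
  have h1 : classInner A χ ≠ 0 := by
    obtain ⟨ψ, hψ⟩ := exists_constituent hA hA0
    by_cases hψχ : (ψ : G → ℂ) = χ
    · rw [← hψχ]; exact hψ
    · exfalso
      have h2 := classInner_of_irr_ne hχ ψ.2 (fun h => hψχ h.symm)
      obtain ⟨a, ha⟩ := classInner_char_nat hA (irr_isChar ψ.2)
      obtain ⟨b, hb⟩ := classInner_char_nat hB (irr_isChar ψ.2)
      rw [h, classInner_add_left, ha, hb] at h2
      have h3 : a + b = 0 := by exact_mod_cast h2
      have h4 : a = 0 := by omega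
      exact hψ (by rw [ha, h4]; simp)
  obtain ⟨a, ha⟩ := classInner_char_nat hA (irr_isChar hχ)
  obtain ⟨b, hb⟩ := char_one_eq_nat hB
  obtain ⟨c, hc⟩ := char_one_eq_nat hA
  obtain ⟨n, hn0, hn⟩ := irr_one_eq_nat hχ
  have h2 := char_mult_degree_le hA hχ ha hc hn
  have h3 : (n : ℂ) = c + b := by rw [← hn, h, Pi.add_apply, hc, hb]
  have h4 : n = c + b := by exact_mod_cast h3
  have h5 : a ≠ 0 := by
    rintro rfl
    exact h1 (by rw [ha]; simp)
  have h6 : n ≤ a * n := Nat.le_mul_of_pos_left n (Nat.pos_of_ne_zero h5)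
  have h7 : b = 0 := by omega
  by_contra hB0
  have h8 := char_ne_zero_pos hB hB0
  obtain ⟨m, hm0, hm⟩ := h8
  rw [hb, h7] at hm
  have : m = 0 := by exact_mod_cast hm.symm
  omega

theorem irr_of_mul_irr {a b : G → ℂ} (ha : IsCharacter G a) (hb : IsCharacter G b)
    (h : IsIrrCharacter G (a * b)) : IsIrrCharacter G b := by
  classical
  have h1 := irr_one_ne_zero h
  have ha1 : a 1 ≠ 0 := fun h0 => h1 (by rw [Pi.mul_apply, h0, zero_mul])
  have hb1 : b 1 ≠ 0 := fun h0 => h1 (by rw [Pi.mul_apply, h0, mul_zero])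
  obtain ⟨ψ, hψ⟩ := exists_constituent hb (fun h0 => hb1 (by rw [h0]; rfl))
  have hsub := isChar_sub_irr hb ψ.2 hψ
  have h2 : a * b = a * (ψ : G → ℂ) + a * (b - ψ) := by ring
  have h3 := sum_irr h (isChar_mul ha (irr_isChar ψ.2)) (isChar_mul ha hsub) h2 (fun h0 => by
    have := congrFun h0 1
    rw [Pi.mul_apply] at this
    exact mul_ne_zero ha1 (irr_one_ne_zero ψ.2) this)
  have h4 : b - (ψ : G → ℂ) = 0 := by
    by_contra hne
    obtain ⟨n, hn, hn1⟩ := char_ne_zero_pos hsub hne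
    have h5 := congrFun h3 1
    rw [Pi.mul_apply, hn1] at h5
    exact mul_ne_zero ha1 (by exact_mod_cast hn.ne') h5
  rw [sub_eq_zero] at h4
  rw [h4]; exact ψ.2

theorem irr_of_ind_irr {T : Subgroup G} {ψ : T → ℂ} (hψ : IsCharacter T ψ)
    (h : IsIrrCharacter G (indFun T ψ)) : IsIrrCharacter T ψ := by
  classical
  haveI := Fintype.ofFinite T
  have h1 := irr_one_ne_zero h
  rw [indFun_one_apply] at h1
  have hψ1 : ψ 1 ≠ 0 := fun h0 => h1 (by rw [h0, mul_zero])
  have hi : (T.index : ℂ) ≠ 0 := fun h0 => h1 (by rw [h0, zero_mul])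
  obtain ⟨φ, hφ⟩ := exists_constituent hψ (fun h0 => hψ1 (by rw [h0]; rfl))
  have hsub := isChar_sub_irr hψ φ.2 hφ
  have h2 : indFun T ψ = indFun T (φ : T → ℂ) + indFun T (ψ - φ) := by
    rw [← indFun_add]; congr 1; ring
  have h3 := sum_irr h (isChar_ind T (irr_isChar φ.2)) (isChar_ind T hsub) h2 (fun h0 => by
    have := congrFun h0 1
    rw [indFun_one_apply] at this
    exact mul_ne_zero hi (irr_one_ne_zero φ.2) this)
  have h4 : ψ - (φ : T → ℂ) = 0 := by
    by_contra hne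
    obtain ⟨n, hn, hn1⟩ := char_ne_zero_pos hsub hne
    have h5 := congrFun h3 1
    rw [indFun_one_apply, hn1] at h5
    exact mul_ne_zero hi (by exact_mod_cast hn.ne') h5
  rw [sub_eq_zero] at h4
  rw [h4]; exact φ.2

/-- if a sum of two characters takes the value `c χ(1)` with `|c| = 1`, so do the summands -/
theorem constituent_scalar {χ A B : G → ℂ} (hA : IsCharacter G A) (hB : IsCharacter G B)
    (h : χ = A + B) {g : G} {c : ℂ} (hc : ‖c‖ = 1) (hg : χ g = c * χ 1) : A g = c * A 1 := by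
  obtain ⟨a, ha⟩ := char_one_eq_nat hA
  obtain ⟨b, hb⟩ := char_one_eq_nat hB
  have hcc : conj c * c = 1 := by
    rw [mul_comm, Complex.mul_conj, Complex.normSq_eq_norm_sq, hc]; simp
  have hnA : ‖A g‖ ≤ a := by
    obtain ⟨n, ρ, rfl⟩ := hA
    have := rep_norm_char_le ρ g
    rw [Representation.char_one] at ha
    have h1 : Module.finrank ℂ (Fin n → ℂ) = a := by exact_mod_cast ha
    rwa [h1] at this
  have hnB : ‖B g‖ ≤ b := by
    obtain ⟨n, ρ, rfl⟩ := hB
    have := rep_norm_char_le ρ g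
    rw [Representation.char_one] at hb
    have h1 : Module.finrank ℂ (Fin n → ℂ) = b := by exact_mod_cast hb
    rwa [h1] at this
  have h1 : conj c * A g + conj c * B g = (a : ℂ) + b := by
    rw [← mul_add, ← Pi.add_apply, ← h, hg, h, Pi.add_apply, ha, hb, ← mul_assoc, hcc, one_mul]
  have h2 : ‖conj c * A g‖ ≤ a := by
    rw [norm_mul, RCLike.norm_conj, hc, one_mul]; exact hnA
  have h3 : ‖conj c * B g‖ ≤ b := by
    rw [norm_mul, RCLike.norm_conj, hc, one_mul]; exact hnB
  have h4 := congrArg Complex.re h1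
  rw [Complex.add_re, Complex.add_re, Complex.natCast_re, Complex.natCast_re] at h4
  have h5 := Complex.re_le_norm (conj c * A g)
  have h6 := Complex.re_le_norm (conj c * B g)
  have h7 : (conj c * A g).re = a := by linarith
  have h8 : conj c * A g = a := by
    apply Complex.ext
    · rw [h7, Complex.natCast_re]
    · have h9 : (conj c * A g).re ^ 2 + (conj c * A g).im ^ 2 ≤ (a : ℝ) ^ 2 := by
        have h10 : ‖conj c * A g‖ ^ 2 ≤ (a : ℝ) ^ 2 := by
          exact pow_le_pow_left₀ (norm_nonneg _) h2 2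
        rw [← Complex.normSq_eq_norm_sq, Complex.normSq_apply] at h10
        nlinarith
      rw [h7] at h9
      have h11 : (conj c * A g).im ^ 2 ≤ 0 := by linarith
      rw [Complex.natCast_im]
      exact pow_eq_zero_iff (two_ne_zero) |>.1 (le_antisymm h11 (sq_nonneg _))
  have h9 : A g = c * (conj c * A g) := by
    rw [← mul_assoc, mul_comm c, hcc, one_mul]
  rw [h9, h8, ha]

theorem constituent_ker {Θ γ : G → ℂ} (hΘ : IsCharacter G Θ) (hγ : IsIrrCharacter G γ)
    (hne : classInner Θ γ ≠ 0) {g : G} (hg : Θ g = Θ 1) : γ g = γ 1 := by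
  have h1 := isChar_sub_irr hΘ hγ hne
  have h2 := constituent_scalar (irr_isChar hγ) h1 (χ := Θ) (c := 1) (by ring) (by simp)
    (g := g) (by rw [one_mul]; exact hg)
  rw [h2, one_mul]

theorem quasi_comap {X : Type v} [Group X] [Fintype X] {χ : G → ℂ} (hq : Quasiprimitive χ)
    (f : X →* G) (hf : Function.Surjective f) : Quasiprimitive (fun x => χ (f x)) := by
  intro N hN
  obtain ⟨ϑ, e, hϑ, he⟩ := hq (N.map f) (hN.map f hf)
  refine ⟨fun n => ϑ (f.subgroupMap N n), e,
    isIrr_comp_surjective hϑ (f.subgroupMap N) (f.subgroupMap_surjective N), ?_⟩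
  ext n
  exact congrFun he (f.subgroupMap N n)

theorem restrict_aux {β : G → ℂ} {N₁ A : Subgroup G} (hA : A ≤ N₁) {γ : N₁ → ℂ}
    (hγ : IsIrrCharacter N₁ γ) {m : ℕ} (hm : (m : ℂ) ≠ 0) (h : (fun x : N₁ => β x) = (m : ℂ) • γ)
    (hcov : ∀ x ∈ N₁, ∃ a ∈ A, β (a⁻¹ * x) = β 1) :
    IsIrrCharacter A (fun a : A => γ ⟨a, hA a.2⟩) ∧
      (fun a : A => β a) = (m : ℂ) • (fun a : A => γ ⟨a, hA a.2⟩) := by
  constructor
  · have h1 := isIrr_restrict_of_cover hγ (A.subgroupOf N₁) (fun x => by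
      obtain ⟨a, ha, hax⟩ := hcov x x.2
      refine ⟨⟨a, hA ha⟩, ha, ?_⟩
      have h2 := congrFun h ((⟨a, hA ha⟩ : N₁)⁻¹ * x)
      have h3 := congrFun h 1
      simp only [Pi.smul_apply, smul_eq_mul] at h2 h3
      have h4 : β (((⟨a, hA ha⟩ : N₁)⁻¹ * x : N₁) : G) = β (1 : N₁) := hax
      rw [h2, h3] at h4
      exact mul_left_cancel₀ hm h4)
    exact isIrr_comp_surjective h1 (Subgroup.subgroupOfEquivOfLe hA).symm.toMonoidHom
      (Subgroup.subgroupOfEquivOfLe hA).symm.surjective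
  · ext a
    exact congrFun h ⟨a, hA a.2⟩

variable {U β : G → ℂ} (hU : IsIrrCharacter G U) {L : Subgroup G} (hL : L.Normal)
  (hUL : IsIrrCharacter L (fun l : L => U l)) (hβ : IsIrrCharacter G β) (hβL : ∀ l ∈ L, β l = β 1)

include hL hUL in
theorem gallagher_sub (hU : IsIrrCharacter G U) {H : Subgroup G} [Fintype H] (hLH : L ≤ H) :
    (∀ β γ : H → ℂ, IsIrrCharacter H β → IsIrrCharacter H γ →
      (∀ n : H, (n : G) ∈ L → β n = β 1) → (∀ n : H, (n : G) ∈ L → γ n = γ 1) →
      β = γ ∨ classInner (β * fun h : H => U h) (γ * fun h : H => U h) = 0) ∧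
    (∀ β : H → ℂ, IsIrrCharacter H β → (∀ n : H, (n : G) ∈ L → β n = β 1) →
      IsIrrCharacter H (β * fun h : H => U h)) := by
  haveI := Fintype.ofFinite (L.subgroupOf H)
  have h1 : IsIrrCharacter (L.subgroupOf H) (fun x : L.subgroupOf H => U (x : H)) :=
    isIrr_comp_surjective hUL (Subgroup.subgroupOfEquivOfLe hLH).toMonoidHom
      (Subgroup.subgroupOfEquivOfLe hLH).surjective
  have h2 : IsIrrCharacter H (fun h : H => U h) :=
    isIrr_of_restrict (isChar_restrict H (irr_isChar hU)) (L.subgroupOf H) h1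
  obtain ⟨k1, k2, -, -⟩ := gallagher_one (hL.subgroupOf H) h2 h1
  exact ⟨fun β γ hβ hγ hb hc => k1 β γ hβ hγ (fun n => hb n n.2) (fun n => hc n n.2),
    fun β hβ hb => k2 β hβ (fun n => hb n n.2)⟩

include hU hL hUL hβ hβL in
theorem quasi_of_mul (hq : Quasiprimitive (U * β)) : Quasiprimitive β := by
  classical
  intro N hN
  let N₁ : Subgroup G := N ⊔ L
  have hN₁ : N₁.Normal := by
    haveI := hN; haveI := hL
    infer_instance
  have hLN : L ≤ N₁ := le_sup_right
  haveI := Fintype.ofFinite N₁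
  obtain ⟨k1, k2⟩ := gallagher_sub hL hUL hU hLN
  obtain ⟨ξ, f, hξ, hf⟩ := hq N₁ hN₁
  have hc : IsCharacter N₁ (fun x : N₁ => β x) := isChar_restrict N₁ (irr_isChar hβ)
  have hc0 : (fun x : N₁ => β x) ≠ 0 := fun h => irr_one_ne_zero hβ (congrFun h 1)
  have hker : ∀ γ : N₁ → ℂ, IsIrrCharacter N₁ γ → classInner (fun x : N₁ => β x) γ ≠ 0 →
      ∀ n : N₁, (n : G) ∈ L → γ n = γ 1 := by
    intro γ hγ hne n hn
    exact constituent_ker hc hγ hne (by
      show β n = β ((1 : N₁) : G)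
      exact hβL n hn)
  have hξγ : ∀ γ : N₁ → ℂ, IsIrrCharacter N₁ γ → classInner (fun x : N₁ => β x) γ ≠ 0 →
      (γ * fun h : N₁ => U h) = ξ := by
    intro γ hγ hne
    have h1 := k2 γ hγ (hker γ hγ hne)
    by_contra hcon
    have h2 : classInner (fun n : N₁ => (U * β) n) (γ * fun h : N₁ => U h) = 0 := by
      rw [hf, classInner_smul_left, classInner_of_irr_ne hξ h1 (fun h => hcon h.symm), mul_zero]
    have h3 : (fun n : N₁ => (U * β) n) = (γ * fun h : N₁ => U h) +
        ((fun x : N₁ => β x) - γ) * fun h : N₁ => U h := by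
      ext n
      simp only [Pi.mul_apply, Pi.add_apply, Pi.sub_apply]
      ring
    have h4 : IsCharacter N₁ (((fun x : N₁ => β x) - γ) * fun h : N₁ => U h) :=
      isChar_mul (isChar_sub_irr hc hγ hne) (isChar_restrict N₁ (irr_isChar hU))
    obtain ⟨j, hj⟩ := classInner_char_nat h4 (irr_isChar h1)
    rw [h3, classInner_add_left, classInner_self_of_irr h1, hj] at h2
    have h5 : ((1 + j : ℕ) : ℂ) = 0 := by push_cast; exact h2
    have h6 : 1 + j = 0 := by exact_mod_cast h5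
    omega
  obtain ⟨γ, hγ⟩ := exists_constituent hc hc0
  obtain ⟨m, hm⟩ := classInner_char_nat hc (irr_isChar γ.2)
  have hm0 : (m : ℂ) ≠ 0 := by rw [← hm]; exact hγ
  have huniq : ∀ γ' : N₁ → ℂ, IsIrrCharacter N₁ γ' → classInner (fun x : N₁ => β x) γ' ≠ 0 →
      γ' = γ := by
    intro γ' hγ' hne
    rcases k1 γ' γ hγ' γ.2 (hker γ' hγ' hne) (hker γ γ.2 hγ) with h | h
    · exact h
    · exfalso
      rw [hξγ γ' hγ' hne, hξγ γ γ.2 hγ, classInner_self_of_irr hξ] at h
      exact one_ne_zero h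
  have hβm : (fun x : N₁ => β x) = (m : ℂ) • (γ : N₁ → ℂ) := by
    apply classFun_ext_inner (char_classFun hc) (classFun_smul _ (irr_classFun γ.2))
    intro ψ
    rw [classInner_smul_left]
    by_cases h : (ψ : N₁ → ℂ) = γ
    · rw [h, hm, classInner_self_of_irr γ.2, mul_one]
    · rw [classInner_of_irr_ne γ.2 ψ.2 (fun h' => h h'.symm), mul_zero]
      by_contra hne
      exact h (huniq ψ ψ.2 hne)
  obtain ⟨h1, h2⟩ := restrict_aux (le_sup_left : N ≤ N₁) γ.2 hm0 hβm (by
    intro x hx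
    have h3 : x ∈ ((N ⊔ L : Subgroup G) : Set G) := hx
    rw [Subgroup.mul_normal] at h3
    obtain ⟨n, hn, l, hl, hnl⟩ := h3
    refine ⟨n, hn, ?_⟩
    rw [← hnl]
    show β (n⁻¹ * (n * l)) = β 1
    rw [inv_mul_cancel_left]
    exact hβL l hl)
  exact ⟨_, m, h1, h2⟩

include hL hβ hβL in
theorem quasi_restrict (hq : Quasiprimitive β) {H : Subgroup G} [Fintype H]
    (hfac : ∀ x : G, ∃ l ∈ L, l⁻¹ * x ∈ H) :
    IsIrrCharacter H (fun h : H => β h) ∧ Quasiprimitive (fun h : H => β h) := by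
  have hcover : ∀ x : G, ∃ a ∈ H, β (a⁻¹ * x) = β 1 := by
    intro x
    obtain ⟨l, hl, h⟩ := hfac x
    refine ⟨l⁻¹ * x, h, ?_⟩
    have h1 : (l⁻¹ * x)⁻¹ * x = x⁻¹ * l * x := by group
    rw [h1]
    apply hβL
    have h2 := hL.conj_mem l hl x⁻¹
    rwa [inv_inv] at h2
  refine ⟨isIrr_restrict_of_cover hβ H hcover, ?_⟩
  intro N hN
  let N₁ : Subgroup G := L ⊔ N.map H.subtype
  have hN₁ : N₁.Normal := by
    constructor
    intro x hx g
    obtain ⟨l, hl, hh⟩ := hfac g
    -- `g = l h`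
    have h1 : g * x * g⁻¹ = l * ((l⁻¹ * g) * x * (l⁻¹ * g)⁻¹) * l⁻¹ := by group
    rw [h1]
    have hlN : l ∈ N₁ := le_sup_left (a := L) hl
    refine N₁.mul_mem (N₁.mul_mem hlN ?_) (N₁.inv_mem hlN)
    have hx' : x ∈ ((L ⊔ N.map H.subtype : Subgroup G) : Set G) := hx
    haveI := hL
    rw [Subgroup.normal_mul] at hx'
    obtain ⟨a, ha, _, ⟨b, hb, rfl⟩, hab⟩ := hx'
    rw [← hab]
    have h2 : (l⁻¹ * g) * (a * H.subtype b) * (l⁻¹ * g)⁻¹ =
        ((l⁻¹ * g) * a * (l⁻¹ * g)⁻¹) *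
          H.subtype ((⟨l⁻¹ * g, hh⟩ : H) * b * (⟨l⁻¹ * g, hh⟩ : H)⁻¹) := by
      simp only [map_mul, map_inv, Subgroup.coe_subtype]
      group
    show (l⁻¹ * g) * (a * H.subtype b) * (l⁻¹ * g)⁻¹ ∈ N₁
    rw [h2]
    exact N₁.mul_mem (le_sup_left (a := L) (hL.conj_mem a ha _))
      (le_sup_right (a := L) ⟨_, hN.conj_mem b hb _, rfl⟩)
  obtain ⟨γ, m, hγ, hm⟩ := hq N₁ hN₁
  have hm0 : (m : ℂ) ≠ 0 := by
    intro h
    rw [h, zero_smul] at hm
    exact irr_one_ne_zero hβ (congrFun hm 1)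
  obtain ⟨h1, h2⟩ := restrict_aux (le_sup_right : N.map H.subtype ≤ N₁) hγ hm0 hm (by
    intro x hx
    have h3 : x ∈ ((L ⊔ N.map H.subtype : Subgroup G) : Set G) := hx
    haveI := hL
    rw [Subgroup.normal_mul] at h3
    obtain ⟨l, hl, n, hn, hnl⟩ := h3
    refine ⟨n, hn, ?_⟩
    rw [← hnl]
    show β (n⁻¹ * (l * n)) = β 1
    apply hβL
    have h4 := hL.conj_mem l hl n⁻¹
    rwa [inv_inv, mul_assoc] at h4)
  refine ⟨_, m, isIrr_comp_surjective h1 (H.subtype.subgroupMap N)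
    (H.subtype.subgroupMap_surjective N), ?_⟩
  ext n
  exact congrFun h2 (H.subtype.subgroupMap N n)

include hU hL hUL hβ hβL in
theorem exists_ind_of_triple {H : Subgroup G} (hLH : L ≤ H) {ϑ : H → ℂ}
    (hϑ : IsIrrCharacter H ϑ) (hind : indFun H ϑ = U * β) :
    ∃ γ : H → ℂ, IsIrrCharacter H γ ∧ indFun H γ = β := by
  classical
  haveI := Fintype.ofFinite H
  obtain ⟨k1, k2⟩ := gallagher_sub hL hUL hU hLH
  have hc : IsCharacter H (fun x : H => β x) := isChar_restrict H (irr_isChar hβ)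
  have hUβ : IsClassFunction G (U * β) := classFun_mul (irr_classFun hU) (irr_classFun hβ)
  have hirr : IsCharacter G (indFun H ϑ) := isChar_ind H (irr_isChar hϑ)
  -- `ϑ` is a constituent of `(U β)_H`
  have h1 : classInner (fun h : H => (U * β) h) ϑ ≠ 0 := by
    intro h0
    have h2 := frobenius_reciprocity H ϑ hUβ
    have h3 : classInner ϑ (fun h : H => (U * β) h) = 0 := by
      rw [← classInner_conj_symm, h0, map_zero]
    rw [h3, ← hind] at h2
    obtain ⟨n, hn⟩ := char_one_eq_nat hirr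
    have h4 : indFun H ϑ = 0 := by
      by_contra hne
      obtain ⟨ψ, hψ⟩ := exists_constituent hirr hne
      have h5 := isChar_sub_irr hirr ψ.2 hψ
      obtain ⟨a, ha⟩ := classInner_char_nat h5 hirr
      obtain ⟨b, hb⟩ := classInner_char_nat hirr (irr_isChar ψ.2)
      have h6 : classInner (indFun H ϑ) (indFun H ϑ) =
          classInner (indFun H ϑ - (ψ : G → ℂ)) (indFun H ϑ) +
          classInner (ψ : G → ℂ) (indFun H ϑ) := by
        rw [← classInner_add_left]; congr 1; ring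
      rw [h2, ha, ← classInner_conj_symm (indFun H ϑ) (ψ : G → ℂ), hb, Complex.conj_natCast] at h6
      have h7 : a + b = 0 := by exact_mod_cast h6.symm
      apply hψ
      rw [hb]
      have : b = 0 := by omega
      rw [this]; simp
    have h5 := congrFun h4 1
    rw [indFun_one_apply] at h5
    rcases mul_eq_zero.1 h5 with h | h
    · exact Subgroup.index_ne_zero_of_finite (H := H) (by exact_mod_cast h)
    · exact irr_one_ne_zero hϑ h
  -- there is a constituent `γ` of `β_H` with `[U γ, ϑ] ≠ 0`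
  haveI := Fintype.ofFinite (IrrCharacter H)
  obtain ⟨mult, hmult, hexp⟩ := char_expand hc
  have h2 : ∃ γ : IrrCharacter H, mult γ ≠ 0 ∧ classInner ((γ : H → ℂ) * fun h : H => U h) ϑ ≠ 0 := by
    by_contra hcon
    push Not at hcon
    apply h1
    have h3 : (fun h : H => (U * β) h) =
        ∑ γ : IrrCharacter H, (mult γ : ℂ) • ((γ : H → ℂ) * fun h : H => U h) := by
      have h4 : (fun h : H => (U * β) h) = (fun h : H => β h) * fun h : H => U h := by
        ext h; simp only [Pi.mul_apply]; ring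
      rw [h4, hexp, Finset.sum_mul]
      refine Finset.sum_congr rfl fun γ _ => ?_
      rw [smul_mul_assoc]
    rw [h3, classInner_sum_left]
    apply Finset.sum_eq_zero
    intro γ _
    rw [classInner_smul_left]
    by_cases h4 : mult γ = 0
    · rw [h4]; simp
    · rw [hcon γ h4, mul_zero]
  obtain ⟨γ, hγ0, hγϑ⟩ := h2
  have hγβ : classInner (fun x : H => β x) γ ≠ 0 := by
    rw [hmult γ]; exact_mod_cast hγ0
  have hker : ∀ n : H, (n : G) ∈ L → (γ : H → ℂ) n = (γ : H → ℂ) 1 := by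
    intro n hn
    exact constituent_ker hc γ.2 hγβ (by
      show β n = β ((1 : H) : G)
      exact hβL n hn)
  have h3 := k2 γ γ.2 hker
  have h4 : ((γ : H → ℂ) * fun h : H => U h) = ϑ := by
    by_contra hne
    exact hγϑ (classInner_of_irr_ne h3 hϑ hne)
  refine ⟨γ, γ.2, ?_⟩
  have h5 : indFun H ϑ = indFun H (γ : H → ℂ) * U := by
    rw [← h4, ← indFun_mul_restrict H _ (irr_classFun hU)]
    rfl
  apply char_eq_of_degree (isChar_ind H (irr_isChar γ.2)) hβ
  · rw [frobenius_reciprocity H _ (irr_classFun hβ)]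
    exact classInner_ne_zero_symm hγβ
  · have h6 := congrFun h5 1
    rw [hind, Pi.mul_apply, Pi.mul_apply, mul_comm] at h6
    exact (mul_right_cancel₀ (irr_one_ne_zero hU) h6).symm

end

end Cfsg.Agent.H3
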