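import Cfsg.Agent.H3.Ext

/-!
# The degree ratio divides the index (helper3)
-/

set_option autoImplicit false
set_option linter.style.haveILetI false
set_option linter.unusedSimpArgs false
set_option linter.unusedSectionVars false
set_option linter.unusedVariables false
open Cfsg
open scoped ComplexConjugate TensorProduct

namespace Cfsg.Agent.H3

universe u v w

section

variable {G : Type u} [Group G] {N : Subgroup G} (hN : N.Normal)
variable {U : Type v} [AddCommGroup U] [Module ℂ U] [FiniteDimensional ℂ U]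
  (ρ : Representation ℂ N U)
variable {V : Type w} [AddCommGroup V] [Module ℂ V] [FiniteDimensional ℂ V]
  (σ : Representation ℂ G V)

/-- elements of `hatG` acting with determinant `1` on `Hom_N(U, V)` -/
noncomputable def hatOne : Subgroup (hatG hN ρ) :=
  ((LinearMap.det : (homW ρ σ →ₗ[ℂ] homW ρ σ) →* ℂ).comp (hatHomRep hN ρ σ)).toHomUnits.ker

theorem mem_hatOne (x : hatG hN ρ) : x ∈ hatOne hN ρ σ ↔
    LinearMap.det (hatHomRep hN ρ σ x) = 1 := by
  rw [hatOne, MonoidHom.mem_ker]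
  constructor
  · intro h
    exact congrArg Units.val h
  · intro h
    exact Units.ext h

/-- projection of `hatOne` -/
noncomputable def hatOneProj : hatOne hN ρ σ →* G := (hatProj hN ρ).comp (hatOne hN ρ σ).subtype

theorem hatOneProj_surjective [Finite G] (hinv : ∀ g : G, cj hN g ρ.character = ρ.character)
    (hW : 0 < Module.finrank ℂ (homW ρ σ)) :
    Function.Surjective (hatOneProj hN ρ σ) := by
  intro g
  obtain ⟨x, hx⟩ := exists_hat hN ρ hinv g
  have hdet0 : LinearMap.det (hatHomRep hN ρ σ x) ≠ 0 := by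
    have h1 := congrArg LinearMap.det (map_mul (hatHomRep hN ρ σ) x x⁻¹)
    rw [mul_inv_cancel, map_one, map_one] at h1
    rw [map_mul] at h1
    intro h
    rw [h, zero_mul] at h1
    exact one_ne_zero h1
  obtain ⟨c, hc⟩ := IsAlgClosed.exists_pow_nat_eq (LinearMap.det (hatHomRep hN ρ σ x)) hW
  have hc0 : c ≠ 0 := by
    rintro rfl
    rw [zero_pow hW.ne'] at hc
    exact hdet0 hc.symm
  refine ⟨⟨x * hatScal hN ρ (Units.mk0 c hc0), ?_⟩, ?_⟩
  · rw [mem_hatOne, map_mul, map_mul, hatHomRep_scal, LinearMap.det_smul, LinearMap.det_id, mul_one,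
      ← hc, Units.val_inv_eq_inv_val, Units.val_mk0, inv_pow, mul_inv_cancel₀ (pow_ne_zero _ hc0)]
  · show hatProj hN ρ (x * hatScal hN ρ (Units.mk0 c hc0)) = g
    rw [map_mul, hx, hatProj_scal, mul_one]

theorem hatOne_finite [Finite G] [ρ.IsIrreducible] (hW : 0 < Module.finrank ℂ (homW ρ σ)) :
    Finite (hatOne hN ρ σ) := by
  haveI := nontrivial_of_irr ρ
  haveI : Finite (hatOneProj hN ρ σ).ker := by
    haveI : NeZero (Module.finrank ℂ (homW ρ σ)) := ⟨hW.ne'⟩
    have hex : ∀ x : (hatOneProj hN ρ σ).ker, ∃ c : rootsOfUnity (Module.finrank ℂ (homW ρ σ)) ℂ,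
        (x : hatOne hN ρ σ).1 = hatScal hN ρ (c : ℂˣ) := by
      intro x
      obtain ⟨c, hc⟩ := hat_eq_scal hN ρ (x := (x : hatOne hN ρ σ).1) x.2
      have h1 := (mem_hatOne hN ρ σ _).mp (x : hatOne hN ρ σ).2
      rw [hc, hatHomRep_scal, LinearMap.det_smul, LinearMap.det_id, mul_one] at h1
      refine ⟨⟨c, ?_⟩, hc⟩
      rw [mem_rootsOfUnity]
      have h2 : (c⁻¹) ^ Module.finrank ℂ (homW ρ σ) = 1 := by
        apply Units.ext
        rw [Units.val_pow_eq_pow_val, h1, Units.val_one]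
      rw [inv_pow, inv_eq_one] at h2
      exact h2
    choose f hf using hex
    refine Finite.of_injective f ?_
    intro a b hab
    apply Subtype.ext
    apply Subtype.ext
    rw [hf a, hf b, hab]
  haveI := Fintype.ofFinite (hatOneProj hN ρ σ).ker
  haveI := Fintype.ofFinite G
  letI := Group.fintypeOfKerOfCodom (hatOneProj hN ρ σ)
  exact Finite.of_fintype _

/-- restriction of the action to `hatOne` -/
noncomputable def hatOneRep : Representation ℂ (hatOne hN ρ σ) (homW ρ σ) :=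
  (hatHomRep hN ρ σ).comp (hatOne hN ρ σ).subtype

theorem hatOneRep_irreducible [Finite G] [σ.IsIrreducible]
    (hinv : ∀ g : G, cj hN g ρ.character = ρ.character)
    (hW : 0 < Module.finrank ℂ (homW ρ σ))
    (hdim : Module.finrank ℂ V = Module.finrank ℂ (homW ρ σ) * Module.finrank ℂ U)
    (hU : 0 < Module.finrank ℂ U) :
    (hatOneRep hN ρ σ).IsIrreducible := by
  haveI : Nontrivial (homW ρ σ) := Module.finrank_pos_iff.mp hW
  have hbt : (⊥ : Subrepresentation (hatOneRep hN ρ σ)) ≠ ⊤ := by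
    intro h
    have h1 : (⊥ : Submodule ℂ (homW ρ σ)) = ⊤ := congrArg Subrepresentation.toSubmodule h
    exact bot_ne_top h1
  haveI : Nontrivial (Subrepresentation (hatOneRep hN ρ σ)) := ⟨⊥, ⊤, hbt⟩
  refine ⟨fun W₀ => ?_⟩
  by_cases hb : W₀ = ⊥
  · exact Or.inl hb
  right
  -- the evaluation map
  let L : W₀.toSubmodule ⊗[ℂ] U →ₗ[ℂ] V :=
    TensorProduct.lift ((homW ρ σ).subtype ∘ₗ W₀.toSubmodule.subtype)
  have hL : ∀ (f : W₀.toSubmodule) (u : U), L (f ⊗ₜ u) = (f : homW ρ σ).1 u := fun f u => by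
    simp [L]
  have hstab : ∀ g : G, ∀ v ∈ LinearMap.range L, σ g v ∈ LinearMap.range L := by
    rintro g _ ⟨t, rfl⟩
    obtain ⟨x, hx⟩ := hatOneProj_surjective hN ρ σ hinv hW g
    induction t using TensorProduct.induction_on with
    | zero => rw [map_zero, map_zero]; exact Submodule.zero_mem _
    | add a b ha hb => rw [map_add, map_add]; exact Submodule.add_mem _ ha hb
    | tmul f u =>
      refine ⟨(⟨hatOneRep hN ρ σ x f, W₀.apply_mem_toSubmodule x f.2⟩ : W₀.toSubmodule) ⊗ₜ
        (((hatSnd hN ρ x.1 : (Module.End ℂ U)ˣ) : Module.End ℂ U) u), ?_⟩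
      rw [hL, hL]
      show (hatHomRep hN ρ σ x.1 (f : homW ρ σ) : U →ₗ[ℂ] V)
        (((hatSnd hN ρ x.1 : (Module.End ℂ U)ˣ) : Module.End ℂ U) u) = _
      rw [hatHomRep_apply, LinearMap.comp_apply, LinearMap.comp_apply]
      have h1 : (((hatSnd hN ρ x.1)⁻¹ : (Module.End ℂ U)ˣ) : Module.End ℂ U)
          (((hatSnd hN ρ x.1 : (Module.End ℂ U)ˣ) : Module.End ℂ U) u) = u := by
        exact congrArg (fun T : Module.End ℂ U => T u) (hatSnd hN ρ x.1).inv_mul
      rw [h1]
      have h2 : hatProj hN ρ x.1 = g := hx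
      rw [h2]
  let V₀ : Subrepresentation σ := ⟨LinearMap.range L, fun g v hv => hstab g v hv⟩
  have hV₀ : V₀ = ⊤ := by
    rcases IsSimpleOrder.eq_bot_or_eq_top V₀ with h | h
    · exfalso
      have h1 : LinearMap.range L = ⊥ := congrArg Subrepresentation.toSubmodule h
      have h2 : L = 0 := LinearMap.range_eq_bot.mp h1
      apply hb
      apply Subrepresentation.toSubmodule_injective
      show W₀.toSubmodule = ⊥
      rw [Submodule.eq_bot_iff]
      intro f hf
      apply Subtype.ext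
      apply LinearMap.ext
      intro u
      have h3 := hL ⟨f, hf⟩ u
      rw [h2] at h3
      exact h3.symm
    · exact h
  have hrange : LinearMap.range L = ⊤ := congrArg Subrepresentation.toSubmodule hV₀
  have h1 : Module.finrank ℂ V ≤ Module.finrank ℂ W₀.toSubmodule * Module.finrank ℂ U := by
    haveI : Module.Free ℂ W₀.toSubmodule := @Module.Free.of_divisionRing ℂ W₀.toSubmodule _
      W₀.toSubmodule.addCommGroup W₀.toSubmodule.module
    rw [← Module.finrank_tensorProduct]
    exact LinearMap.finrank_le_finrank_of_surjective (LinearMap.range_eq_top.mp hrange)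
  rw [hdim] at h1
  have h2 : Module.finrank ℂ (homW ρ σ) ≤ Module.finrank ℂ W₀.toSubmodule :=
    Nat.le_of_mul_le_mul_right h1 hU
  apply Subrepresentation.toSubmodule_injective
  show W₀.toSubmodule = ⊤
  exact Submodule.eq_top_of_finrank_eq (le_antisymm (Submodule.finrank_le _) h2)

theorem finrank_homW_dvd_index [Finite G] [ρ.IsIrreducible] [σ.IsIrreducible]
    (hinv : ∀ g : G, cj hN g ρ.character = ρ.character)
    (hW : 0 < Module.finrank ℂ (homW ρ σ))
    (hdim : Module.finrank ℂ V = Module.finrank ℂ (homW ρ σ) * Module.finrank ℂ U)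
    (hU : 0 < Module.finrank ℂ U) : Module.finrank ℂ (homW ρ σ) ∣ N.index := by
  haveI := hatOne_finite hN ρ σ hW
  haveI := hatOneRep_irreducible hN ρ σ hinv hW hdim hU
  have h1 := finrank_dvd_index_of_scalar (hatOneRep hN ρ σ) (N.comap (hatOneProj hN ρ σ)) (by
    intro z hz
    let n : N := ⟨hatOneProj hN ρ σ z, hz⟩
    obtain ⟨c, hc⟩ := hat_eq_scal hN ρ (x := z.1 * (hatSec hN ρ n)⁻¹) (by
      rw [map_mul, map_inv, hatProj_sec]
      exact mul_inv_cancel _)
    refine ⟨((c⁻¹ : ℂˣ) : ℂ), ?_⟩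
    have h2 : z.1 = hatScal hN ρ c * hatSec hN ρ n := by rw [← hc]; group
    show hatHomRep hN ρ σ z.1 = _
    rw [h2, map_mul, hatHomRep_scal, hatHomRep_sec, mul_one])
  rwa [Subgroup.index_comap_of_surjective N (hatOneProj_surjective hN ρ σ hinv hW)] at h1

end

section

variable {G : Type u} [Group G] {N : Subgroup G}

/-- the degree ratio divides the index: invariant case -/
theorem ratio_dvd_index_invariant [Fintype G] [Fintype N] (hN : N.Normal) {χ : G → ℂ}
    (hχ : IsIrrCharacter G χ) {ϑ : N → ℂ} (hϑ : IsIrrCharacter N ϑ)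
    (hinv : ∀ g : G, cj hN g ϑ = ϑ) (hcon : classInner (fun n : N => χ n) ϑ ≠ 0) :
    ∃ e : ℕ, classInner (fun n : N => χ n) ϑ = e ∧ e ∣ N.index := by
  obtain ⟨m, ρ, hρ, rfl⟩ := hϑ
  obtain ⟨k, σ, hσ, rfl⟩ := hχ
  have h1 := finrank_homW ρ σ
  refine ⟨Module.finrank ℂ (homW ρ σ), h1.symm, ?_⟩
  have hW : 0 < Module.finrank ℂ (homW ρ σ) := by
    rw [Nat.pos_iff_ne_zero]
    intro h
    rw [h] at h1
    apply hcon
    rw [← h1]
    simp
  have hU : 0 < Module.finrank ℂ (Fin m → ℂ) := by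
    obtain ⟨d, hd0, hd⟩ := irr_one_eq_nat (isIrrCharacter_of_rep ρ)
    rw [Representation.char_one] at hd
    have : Module.finrank ℂ (Fin m → ℂ) = d := by exact_mod_cast hd
    omega
  have h2 := clifford_invariant hN (isIrrCharacter_of_rep σ) (isIrrCharacter_of_rep ρ) hinv hcon
  have h3 := congrFun h2 1
  rw [← h1] at h3
  simp only [Subgroup.coe_one, Pi.smul_apply, smul_eq_mul, Representation.char_one] at h3
  exact finrank_homW_dvd_index hN ρ σ hinv hW (by exact_mod_cast h3) hU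

/-- **the degree ratio divides the index** -/
theorem ratio_dvd_index [Fintype G] [Fintype N] (hN : N.Normal) {χ : G → ℂ}
    (hχ : IsIrrCharacter G χ) {ϑ : N → ℂ} (hϑ : IsIrrCharacter N ϑ)
    (hcon : classInner (fun n : N => χ n) ϑ ≠ 0) (c d : ℕ) (hc : χ 1 = c) (hd : ϑ 1 = d) :
    d ∣ c ∧ c / d ∣ N.index := by
  classical
  let T := inertia hN ϑ
  haveI := Fintype.ofFinite T
  have hNT : N ≤ T := le_inertia hN (irr_classFun hϑ)
  obtain ⟨ψ, hψ, hψχ, hψm, hψres⟩ := clifford_corr hN hχ hϑ hcon T rfl hNT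
  -- work in `T`
  let N' : Subgroup T := N.subgroupOf T
  have hN' : N'.Normal := inferInstance
  haveI := Fintype.ofFinite N'
  let e : N' ≃* N := Subgroup.subgroupOfEquivOfLe hNT
  let ϑ' : N' → ℂ := fun n => ϑ (e n)
  have hϑ' : IsIrrCharacter N' ϑ' := (isIrr_comp_equiv_iff e).mpr hϑ
  have hinv' : ∀ t : T, cj hN' t ϑ' = ϑ' := by
    intro t
    ext n
    have h1 : cj hN (t : G) ϑ = ϑ := t.2
    have h2 := congrFun h1 (e n)
    rw [cj_apply] at h2 ⊢
    exact h2
  have hres : (fun n : N' => ψ n) = fun n => (fun m : N => ψ ⟨(m : G), hNT m.2⟩) (e n) := rfl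
  have hinner : classInner (fun n : N' => ψ n) ϑ' = classInner (fun n : N => χ n) ϑ := by
    rw [hres, ← hψm]
    exact classInner_comp_equiv e (fun m : N => ψ ⟨(m : G), hNT m.2⟩) ϑ
  obtain ⟨k, hk, hkdvd⟩ := ratio_dvd_index_invariant hN' hψ hϑ' hinv' (by rw [hinner]; exact hcon)
  have h1 := clifford_degree hN hχ hϑ hcon
  rw [← hinner, hk, hc, hd] at h1
  have h2 : c = k * T.index * d := by exact_mod_cast h1
  have hd0 : 0 < d := by
    obtain ⟨d', hd0', hd'⟩ := irr_one_eq_nat hϑ
    rw [hd] at hd'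
    have : d = d' := by exact_mod_cast hd'
    omega
  refine ⟨⟨k * T.index, by rw [h2]; ring⟩, ?_⟩
  rw [h2, Nat.mul_div_cancel _ hd0]
  have h3 : N.index = N'.index * T.index := (Subgroup.relIndex_mul_index hNT).symm
  rw [h3]
  exact Nat.mul_dvd_mul hkdvd dvd_rfl

end

end Cfsg.Agent.H3
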