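import Cfsg.Agent.H3.CohA

/-!
# Coherence: Bessel, pivots, adding characters (helper3)
-/

set_option autoImplicit false
set_option linter.style.haveILetI false
set_option linter.unusedSimpArgs false
set_option linter.unusedSectionVars false
set_option linter.unusedVariables false
open Cfsg
open scoped ComplexConjugate

namespace Cfsg.Agent.H3

universe u v w

section bessel

variable {G : Type u} [Group G] [Fintype G]

theorem classInner_self_eq (f : G → ℂ) :
    classInner f f = (((Nat.card G : ℝ)⁻¹ * ∑ g : G, ‖f g‖ ^ 2 : ℝ) : ℂ) := by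
  unfold classInner
  push_cast
  congr 1
  refine Finset.sum_congr rfl fun g _ => ?_
  rw [Complex.mul_conj, Complex.normSq_eq_norm_sq]; push_cast; rfl

theorem classInner_self_re_nonneg (f : G → ℂ) : 0 ≤ (classInner f f).re := by
  rw [classInner_self_eq, Complex.ofReal_re]
  positivity

theorem classInner_self_ofReal (f : G → ℂ) : classInner f f = ((classInner f f).re : ℂ) := by
  rw [classInner_self_eq, Complex.ofReal_re]

theorem eq_zero_of_norm {f : G → ℂ} (h : (classInner f f).re = 0) : f = 0 := by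
  rw [classInner_self_eq, Complex.ofReal_re] at h
  have hG : (Nat.card G : ℝ)⁻¹ ≠ 0 := inv_ne_zero (by exact_mod_cast Nat.card_pos.ne')
  have h1 := (mul_eq_zero.1 h).resolve_left hG
  have h2 := (Finset.sum_eq_zero_iff_of_nonneg (fun g _ => by positivity)).1 h1
  ext g
  have h3 := h2 g (Finset.mem_univ g)
  simpa using h3

theorem eq_zero_of_norm' {f : G → ℂ} (h : classInner f f = 0) : f = 0 :=
  eq_zero_of_norm (by rw [h]; simp)

/-- Bessel's identity -/
theorem bessel_eq {ι : Type w} [DecidableEq ι] (s : Finset ι) (e : ι → G → ℂ) (n : ι → ℝ)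
    (hn : ∀ i ∈ s, n i ≠ 0)
    (he : ∀ i ∈ s, ∀ j ∈ s, classInner (e i) (e j) = if i = j then (n i : ℂ) else 0)
    (f : G → ℂ) :
    classInner (f - ∑ i ∈ s, (classInner f (e i) / n i) • e i)
      (f - ∑ i ∈ s, (classInner f (e i) / n i) • e i) =
      classInner f f - ((∑ i ∈ s, ‖classInner f (e i)‖ ^ 2 / n i : ℝ) : ℂ) := by
  have h1 : ∀ i ∈ s, ∀ c : ι → ℂ, classInner (e i) (∑ j ∈ s, c j • e j) = conj (c i) * n i := by
    intro i hi c
    rw [classInner_sum_right, Finset.sum_eq_single i]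
    · rw [classInner_smul_right, he i hi i hi, if_pos rfl]
    · intro j hj hji
      rw [classInner_smul_right, he i hi j hj, if_neg (fun h => hji h.symm), mul_zero]
    · intro h; exact absurd hi h
  set P : G → ℂ := ∑ i ∈ s, (classInner f (e i) / n i) • e i with hP
  have h2 : classInner P P = ((∑ i ∈ s, ‖classInner f (e i)‖ ^ 2 / n i : ℝ) : ℂ) := by
    conv_lhs => rw [hP]
    rw [classInner_sum_left]
    push_cast
    refine Finset.sum_congr rfl fun i hi => ?_
    have h3 : (n i : ℂ) ≠ 0 := by exact_mod_cast hn i hi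
    rw [classInner_smul_left, h1 i hi, map_div₀, Complex.conj_ofReal]
    have h4 : ((‖classInner f (e i)‖ ^ 2 : ℝ) : ℂ) = classInner f (e i) * conj (classInner f (e i)) := by
      rw [Complex.mul_conj, Complex.normSq_eq_norm_sq]
    push_cast at h4
    rw [h4]
    field_simp
  have h3 : classInner f P = ((∑ i ∈ s, ‖classInner f (e i)‖ ^ 2 / n i : ℝ) : ℂ) := by
    rw [hP, classInner_sum_right]
    push_cast
    refine Finset.sum_congr rfl fun i hi => ?_
    rw [classInner_smul_right, map_div₀, Complex.conj_ofReal]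
    have h4 : ((‖classInner f (e i)‖ ^ 2 : ℝ) : ℂ) = classInner f (e i) * conj (classInner f (e i)) := by
      rw [Complex.mul_conj, Complex.normSq_eq_norm_sq]
    push_cast at h4
    rw [h4]; ring
  have h4 : classInner P f = ((∑ i ∈ s, ‖classInner f (e i)‖ ^ 2 / n i : ℝ) : ℂ) := by
    rw [← classInner_conj_symm, h3, Complex.conj_ofReal]
  rw [classInner_sub_left, classInner_sub_right, classInner_sub_right, h2, h3, h4]
  ring

theorem bessel_le {ι : Type w} [DecidableEq ι] (s : Finset ι) (e : ι → G → ℂ) (n : ι → ℝ)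
    (hn : ∀ i ∈ s, n i ≠ 0)
    (he : ∀ i ∈ s, ∀ j ∈ s, classInner (e i) (e j) = if i = j then (n i : ℂ) else 0)
    (f : G → ℂ) : ∑ i ∈ s, ‖classInner f (e i)‖ ^ 2 / n i ≤ (classInner f f).re := by
  have h := bessel_eq s e n hn he f
  have h1 := classInner_self_re_nonneg (f - ∑ i ∈ s, (classInner f (e i) / n i) • e i)
  rw [h, Complex.sub_re, Complex.ofReal_re] at h1
  linarith

theorem bessel_eq_case {ι : Type w} [DecidableEq ι] (s : Finset ι) (e : ι → G → ℂ) (n : ι → ℝ)
    (hn : ∀ i ∈ s, n i ≠ 0)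
    (he : ∀ i ∈ s, ∀ j ∈ s, classInner (e i) (e j) = if i = j then (n i : ℂ) else 0)
    (f : G → ℂ) (h : ∑ i ∈ s, ‖classInner f (e i)‖ ^ 2 / n i = (classInner f f).re) :
    f = ∑ i ∈ s, (classInner f (e i) / n i) • e i := by
  have h1 := bessel_eq s e n hn he f
  rw [h, ← classInner_self_ofReal, sub_self] at h1
  exact sub_eq_zero.1 (eq_zero_of_norm' h1)

/-- norm of a generalized character is a natural number -/
theorem gen_norm_nat {χ : G → ℂ} (h : IsGeneralizedCharacter G χ) :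
    ∃ n : ℕ, classInner χ χ = n := by
  obtain ⟨m, hm⟩ := classInner_gen_int h h
  have h1 := classInner_self_re_nonneg χ
  rw [hm, Complex.intCast_re] at h1
  have h2 : 0 ≤ m := by exact_mod_cast h1
  lift m to ℕ using h2
  exact ⟨m, by rw [hm]; simp⟩

end bessel

section pivot

variable {L : Type u} [Group L] [Fintype L] {G : Type v} [Group G] [Fintype G]

/-- coherence from a pivot -/
theorem cohMap_pivot {S : Set (L → ℂ)} {τ : (L → ℂ) → (G → ℂ)}
    (hτ : IsLinearIsometryOn (zspanOn S ({1}ᶜ : Set L)) τ) {χ₁ : L → ℂ} (hχ₁ : χ₁ ∈ S)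
    (hχ₁0 : χ₁ 1 ≠ 0) (hdeg : ∀ φ ∈ S, ∃ a : ℤ, φ 1 = a * χ₁ 1) {X : G → ℂ}
    (hXgen : IsGeneralizedCharacter G X) (hXn : classInner X X = classInner χ₁ χ₁)
    (hX : ∀ φ ∈ S, ∀ a : ℤ, φ 1 = a * χ₁ 1 →
      classInner X (τ (φ - a • χ₁)) = classInner χ₁ (φ - a • χ₁)) :
    ∃ τ₁, CohMap S τ τ₁ ∧ τ₁ χ₁ = X := by
  classical
  have hτ' : IsLinearIsometryOn (zOn S ({1}ᶜ : Set L) : Set (L → ℂ)) τ := hτ
  have hχz := zspan_mem hχ₁
  -- the degree of an element of the span
  have hdegz : ∀ α ∈ zspan S, ∃ a : ℤ, α 1 = a * χ₁ 1 := by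
    intro α hα
    refine zspan_induction (P := fun α => ∃ a : ℤ, α 1 = a * χ₁ 1) hdeg ⟨0, by simp⟩ ?_ ?_ hα
    · rintro α β - - ⟨a, ha⟩ ⟨b, hb⟩
      exact ⟨a + b, by rw [Pi.add_apply, ha, hb]; push_cast; ring⟩
    · rintro n α - ⟨a, ha⟩
      exact ⟨n * a, by rw [zsmul_eq_smul, Pi.smul_apply, smul_eq_mul, ha]; push_cast; ring⟩
  have hsub : ∀ α ∈ zspan S, ∀ a : ℤ, α 1 = a * χ₁ 1 →
      α - a • χ₁ ∈ zspanOn S ({1}ᶜ : Set L) := by
    intro α hα a ha
    rw [zspanOn_one]
    refine ⟨zspan_sub hα (zspan_smul a hχz), ?_⟩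
    rw [Pi.sub_apply, zsmul_eq_smul, Pi.smul_apply, ha, smul_eq_mul, sub_self]
  have hXz : ∀ γ ∈ zspanOn S ({1}ᶜ : Set L), classInner X (τ γ) = classInner χ₁ γ := by
    have key : ∀ α ∈ zspan S, ∀ a : ℤ, α 1 = a * χ₁ 1 →
        classInner X (τ (α - a • χ₁)) = classInner χ₁ (α - a • χ₁) := by
      intro α hα
      refine zspan_induction (P := fun α => ∀ a : ℤ, α 1 = a * χ₁ 1 →
        classInner X (τ (α - a • χ₁)) = classInner χ₁ (α - a • χ₁)) hX ?_ ?_ ?_ hα
      · intro a ha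
        have h1 : (a : ℂ) = 0 := by
          have h2 : (a : ℂ) * χ₁ 1 = 0 := ha.symm
          exact (mul_eq_zero.1 h2).resolve_right hχ₁0
        have h2 : a = 0 := by exact_mod_cast h1
        subst h2
        simp [iso_zero hτ']
      · intro α β hα hβ h1 h2 c hc
        obtain ⟨a, ha⟩ := hdegz α hα
        obtain ⟨b, hb⟩ := hdegz β hβ
        have h3 : c = a + b := by
          have h4 : (c : ℂ) * χ₁ 1 = ((a + b : ℤ) : ℂ) * χ₁ 1 := by
            rw [← hc, Pi.add_apply, ha, hb]; push_cast; ring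
          exact_mod_cast mul_right_cancel₀ hχ₁0 h4
        subst h3
        have h4 : α + β - (a + b) • χ₁ = (α - a • χ₁) + (β - b • χ₁) := by
          rw [add_smul]; abel
        rw [h4, hτ.1 _ (hsub α hα a ha) _ (hsub β hβ b hb), classInner_add_right,
          classInner_add_right, h1 a ha, h2 b hb]
      · intro n α hα h1 c hc
        obtain ⟨a, ha⟩ := hdegz α hα
        have h3 : c = n * a := by
          have h4 : (c : ℂ) * χ₁ 1 = ((n * a : ℤ) : ℂ) * χ₁ 1 := by
            rw [← hc, zsmul_eq_smul, Pi.smul_apply, smul_eq_mul, ha]; push_cast; ring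
          exact_mod_cast mul_right_cancel₀ hχ₁0 h4
        subst h3
        have h4 : n • α - (n * a) • χ₁ = n • (α - a • χ₁) := by
          rw [smul_sub, smul_smul]
        rw [h4, hτ.2.1 _ (hsub α hα a ha), classInner_zsmul_right, classInner_zsmul_right, h1 a ha]
    intro γ hγ
    have h1 := key γ (zspanOn_one.1 hγ).1 0 (by rw [(zspanOn_one.1 hγ).2]; simp)
    simpa using h1
  let n : (L → ℂ) → ℂ := fun α => α 1 / χ₁ 1
  let τ₁ : (L → ℂ) → (G → ℂ) := fun α => n α • X + τ (α - n α • χ₁)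
  have hval : ∀ α ∈ zspan S, ∀ a : ℤ, α 1 = a * χ₁ 1 → τ₁ α = a • X + τ (α - a • χ₁) := by
    intro α hα a ha
    have h1 : n α = a := by
      show α 1 / χ₁ 1 = a
      rw [ha, mul_div_assoc, div_self hχ₁0, mul_one]
    show n α • X + τ (α - n α • χ₁) = _
    rw [h1, ← zsmul_eq_smul, ← zsmul_eq_smul]
  refine ⟨τ₁, ⟨⟨?_, ?_, ?_, ?_⟩, ?_⟩, ?_⟩
  · intro α hα β hβ
    obtain ⟨a, ha⟩ := hdegz α hα
    obtain ⟨b, hb⟩ := hdegz β hβ
    have h3 : α + β - (a + b) • χ₁ = (α - a • χ₁) + (β - b • χ₁) := by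
      rw [add_smul]; abel
    rw [hval α hα a ha, hval β hβ b hb, hval (α + β) (zspan_add hα hβ) (a + b) (by
      rw [Pi.add_apply, ha, hb]; push_cast; ring), h3,
      hτ.1 _ (hsub α hα a ha) _ (hsub β hβ b hb), add_smul]
    abel
  · intro α hα m
    obtain ⟨a, ha⟩ := hdegz α hα
    have h3 : m • α - (m * a) • χ₁ = m • (α - a • χ₁) := by
      rw [smul_sub, smul_smul]
    rw [hval α hα a ha, hval (m • α) (zspan_smul m hα) (m * a) (by
      rw [zsmul_eq_smul, Pi.smul_apply, smul_eq_mul, ha]; push_cast; ring), h3,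
      hτ.2.1 _ (hsub α hα a ha), smul_add, smul_smul]
  · intro α hα β hβ
    obtain ⟨a, ha⟩ := hdegz α hα
    obtain ⟨b, hb⟩ := hdegz β hβ
    have hA := hsub α hα a ha
    have hB := hsub β hβ b hb
    have h1 : classInner (τ (α - a • χ₁)) X = classInner (α - a • χ₁) χ₁ := by
      rw [← classInner_conj_symm, hXz _ hA, classInner_conj_symm]
    rw [hval α hα a ha, hval β hβ b hb]
    simp only [classInner_add_left, classInner_add_right, classInner_zsmul_left,
      classInner_zsmul_right, h1, hXz _ hB, hXn, hτ.2.2.1 _ hA _ hB]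
    simp only [classInner_sub_left, classInner_sub_right, classInner_zsmul_left,
      classInner_zsmul_right]
    ring
  · intro α hα
    obtain ⟨a, ha⟩ := hdegz α hα
    rw [hval α hα a ha]
    exact isGen_add (isGen_zsmul a hXgen) (hτ.2.2.2 _ (hsub α hα a ha))
  · intro α hα
    have h1 := zspanOn_one.1 hα
    rw [hval α h1.1 0 (by rw [h1.2]; simp)]
    simp
  · rw [hval χ₁ hχz 1 (by simp)]
    simp [iso_zero hτ']

end pivot

end Cfsg.Agent.H3
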