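import Mathlib.GroupTheory.Nilpotent
import Mathlib.GroupTheory.SpecificGroups.Cyclic
import Mathlib.GroupTheory.PGroup
import Mathlib.GroupTheory.Abelianization.Defs

/-!
# Nilpotent sections (helper3)
-/

set_option autoImplicit false
set_option linter.style.haveILetI false
set_option linter.unusedSimpArgs false
set_option linter.unusedSectionVars false
set_option linter.unusedVariables false
open scoped commutatorElement

namespace Cfsg.Agent.H3

universe u v w

variable {L : Type u} [Group L]

theorem nil_lcs {M H : Subgroup L} [(M.subgroupOf H).Normal]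
    (hnil : Group.IsNilpotent (↥H ⧸ M.subgroupOf H)) : ∃ n, H.lowerCentralSeries n ≤ M := by
  obtain ⟨n, hn⟩ := Subgroup.nilpotent_iff_lowerCentralSeries.1 hnil
  refine ⟨n, ?_⟩
  have h1 := Subgroup.map_lowerCentralSeries (⊤ : Subgroup H)
    (QuotientGroup.mk' (M.subgroupOf H)) n
  rw [Subgroup.map_top_of_surjective _ (QuotientGroup.mk'_surjective _), hn,
    Subgroup.map_eq_bot_iff, QuotientGroup.ker_mk'] at h1
  rw [← Subgroup.top_subtype_lowerCentralSeries]
  refine (Subgroup.map_mono h1).trans ?_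
  rintro _ ⟨x, hx, rfl⟩
  exact hx

theorem nil_step' {M H : Subgroup L} (hn : ∃ n, H.lowerCentralSeries n ≤ M) {A B : Subgroup L}
    (hAH : A ≤ H) (hMB : M ≤ B) (hB : B.Normal) (hH : H.Normal) (h : A ≤ ⁅A, H⁆ ⊔ B) : A ≤ B := by
  obtain ⟨n, hn⟩ := hn
  have key : ∀ n, A ≤ H.lowerCentralSeries n ⊔ B := by
    intro n
    induction n with
    | zero => exact hAH.trans le_sup_left
    | succ n ih =>
      refine h.trans (sup_le ?_ le_sup_right)
      rw [Subgroup.lowerCentralSeries_succ]
      haveI := hB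
      haveI := hH
      have h1 : ⁅A, H⁆ ≤ ⁅H.lowerCentralSeries n ⊔ B, H⁆ := Subgroup.commutator_mono ih le_rfl
      refine h1.trans ?_
      rw [Subgroup.commutator_le]
      intro g hg x hx
      obtain ⟨a, ha, b, hb, rfl⟩ := Subgroup.mem_sup_of_normal_right.1 hg
      have e1 : ⁅a * b, x⁆ = a * ⁅b, x⁆ * a⁻¹ * ⁅a, x⁆ := by
        simp only [commutatorElement_def]; group
      rw [e1]
      refine Subgroup.mul_mem _ (Subgroup.mem_sup_right (hB.conj_mem _ ?_ _))
        (Subgroup.mem_sup_left (Subgroup.commutator_mem_commutator ha hx))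
      rw [commutatorElement_def]
      have : b * x * b⁻¹ * x⁻¹ = b * (x * b⁻¹ * x⁻¹) := by group
      rw [this]
      exact B.mul_mem hb (hB.conj_mem _ (B.inv_mem hb) _)
  exact (key n).trans (sup_le (hn.trans hMB) le_rfl)

/-- if `H/M` is nilpotent and `A ≤ [A,H]B` then `A ≤ B` -/
theorem nil_step {M H : Subgroup L} (hH : H.Normal) [(M.subgroupOf H).Normal]
    (hnil : Group.IsNilpotent (↥H ⧸ M.subgroupOf H)) {A B : Subgroup L}
    (hAH : A ≤ H) (hMB : M ≤ B) (hB : B.Normal) (h : A ≤ ⁅A, H⁆ ⊔ B) : A ≤ B :=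
  nil_step' (nil_lcs hnil) hAH hMB hB hH h

/-- a maximal normal subgroup below `A` and above `M` -/
theorem exists_chief_below [Finite L] {M A : Subgroup L} (hM : M.Normal) (hMA : M < A) :
    ∃ B : Subgroup L, B.Normal ∧ M ≤ B ∧ B < A ∧
      ∀ N : Subgroup L, N.Normal → B ≤ N → N ≤ A → N = B ∨ N = A := by
  obtain ⟨B, hB⟩ := Set.Finite.exists_maximal (s := {B : Subgroup L | B.Normal ∧ M ≤ B ∧ B < A})
    (Set.toFinite _) ⟨M, hM, le_rfl, hMA⟩
  refine ⟨B, hB.1.1, hB.1.2.1, hB.1.2.2, fun N hN hBN hNA => ?_⟩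
  rcases hNA.eq_or_lt with h | h
  · exact Or.inr h
  · left
    exact le_antisymm (hB.2 ⟨hN, hB.1.2.1.trans hBN, h⟩ hBN) hBN

/-- chief factors in a nilpotent section are central -/
theorem nil_chief_central {M H : Subgroup L} (hH : H.Normal) (hn : ∃ n, H.lowerCentralSeries n ≤ M)
    {A B : Subgroup L} (hA : A.Normal) (hB : B.Normal)
    (hAH : A ≤ H) (hMB : M ≤ B) (hBA : B < A)
    (hch : ∀ N : Subgroup L, N.Normal → B ≤ N → N ≤ A → N = B ∨ N = A) : ⁅A, H⁆ ≤ B := by
  haveI := hA
  haveI := hB
  haveI := hH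
  rcases hch (⁅A, H⁆ ⊔ B) inferInstance le_sup_right
    (sup_le (Subgroup.commutator_le_left A H) hBA.le) with h | h
  · exact le_sup_left.trans h.le
  · exact absurd (nil_step' hn hAH hMB hB hH h.ge) (not_le_of_gt hBA)

/-- a nilpotent group with cyclic abelianization is commutative -/
theorem comm_of_cyclic_ab {Q : Type u} [Group Q] [Group.IsNilpotent Q]
    (h : IsCyclic (Abelianization Q)) : ∀ a b : Q, a * b = b * a := by
  revert h
  refine Group.nilpotent_center_quotient_ind
    (P := fun Q _ _ => IsCyclic (Abelianization Q) → ∀ a b : Q, a * b = b * a) Q ?_ ?_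
  · intro G _ _ _ a b
    exact Subsingleton.elim _ _
  · intro G _ _ ih hcyc
    have h1 : IsCyclic (Abelianization (G ⧸ Subgroup.center G)) := by
      haveI := hcyc
      refine isCyclic_of_surjective (Abelianization.map (QuotientGroup.mk' (Subgroup.center G))) ?_
      intro a
      obtain ⟨b, rfl⟩ := QuotientGroup.mk_surjective a
      obtain ⟨c, rfl⟩ := QuotientGroup.mk'_surjective _ b
      exact ⟨Abelianization.of c, rfl⟩
    have h2 := ih h1
    -- `G' ≤ Z(G)`
    have h3 : commutator G ≤ Subgroup.center G := by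
      rw [commutator_def, Subgroup.commutator_le]
      intro a _ b _
      rw [← QuotientGroup.eq_one_iff, commutatorElement_def, QuotientGroup.mk_mul,
        QuotientGroup.mk_mul, QuotientGroup.mk_mul, QuotientGroup.mk_inv, QuotientGroup.mk_inv,
        h2 (a : G ⧸ Subgroup.center G) b]
      group
    haveI := hcyc
    have h4 := MonoidHom.isMulCommutative_of_isCyclic_of_ker_le_center
      (Abelianization.of (G := G)) (by rw [Abelianization.ker_of]; exact h3)
    exact fun a b => h4.is_comm.comm a b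

/-- the primes dividing a nilpotent group divide its abelianization -/
theorem prime_dvd_ab {Q : Type u} [Group Q] [Finite Q] (hnil : Group.IsNilpotent Q) {q : ℕ}
    (hq : q.Prime) (hdvd : q ∣ Nat.card Q) : q ∣ (commutator Q).index := by
  haveI : Fact q.Prime := ⟨hq⟩
  obtain ⟨e⟩ := ((Group.isNilpotent_of_finite_tfae (G := Q)).out 0 4).1 hnil
  have hqm : q ∈ (Nat.card Q).primeFactors := Nat.mem_primeFactors.2 ⟨hq, hdvd, Nat.card_pos.ne'⟩
  obtain ⟨P⟩ : Nonempty (Sylow q Q) := inferInstance
  let f : Q →* P := ((Pi.evalMonoidHom _ P).comp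
    (Pi.evalMonoidHom (fun p : (Nat.card Q).primeFactors => ∀ P : Sylow p Q, (P : Subgroup Q))
      ⟨q, hqm⟩)).comp e.symm.toMonoidHom
  have hf : Function.Surjective f := by
    intro y
    classical
    refine ⟨e (fun p => if hp : p = ⟨q, hqm⟩ then hp ▸ (Function.update 1 P y) else 1), ?_⟩
    simp [f]
  have hP : Nontrivial P := by
    have h1 := P.dvd_card_of_dvd_card hdvd
    rw [← Finite.one_lt_card_iff_nontrivial]
    exact lt_of_lt_of_le hq.one_lt (Nat.le_of_dvd Nat.card_pos h1)
  haveI := P.2.isNilpotent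
  have h2 : commutator P < ⊤ := Group.IsSolvable.commutator_lt_top_of_nontrivial _
  have h3 : q ∣ (commutator P).index := by
    obtain ⟨k, hk⟩ := P.2.index (commutator P)
    rcases k with _ | k
    · exfalso
      rw [pow_zero] at hk
      exact h2.ne (Subgroup.index_eq_one.1 hk)
    · rw [hk, pow_succ]
      exact Dvd.intro_left _ rfl
  rw [← Subgroup.index_comap_of_surjective (commutator P) hf] at h3
  refine h3.trans (Subgroup.index_dvd_of_le ?_)
  rw [← Subgroup.map_le_iff_le_comap, commutator_def, Subgroup.map_commutator, commutator_def]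
  exact Subgroup.commutator_mono le_top le_top

end Cfsg.Agent.H3
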