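import Cfsg.Agent.H3.DetExt
import Cfsg.Agent.H3.DegRatio
import Cfsg.Agent.H3.IndSum
import Cfsg.Agent.H3.Basic2

/-!
# Thompson's theorem on character degrees (helper3)
-/

set_option autoImplicit false
set_option linter.style.haveILetI false
set_option linter.unusedSimpArgs false
set_option linter.unusedSectionVars false
set_option linter.unusedVariables false
open Cfsg
open scoped ComplexConjugate commutatorElement

namespace Cfsg.Agent.H3

universe u v w

/-- sums of invariant functions modulo `p` -/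
theorem sum_modEq_fixed {P : Type u} [Group P] [Finite P] {X : Type v} [MulAction P X] [Fintype X]
    {p : ℕ} (hp : p.Prime) (hP : IsPGroup p P) (f : X → ℤ) (hf : ∀ (g : P) (x : X), f (g • x) = f x)
    [DecidablePred (· ∈ MulAction.fixedPoints P X)] :
    (p : ℤ) ∣ ∑ x, f x - ∑ x with x ∈ MulAction.fixedPoints P X, f x := by
  classical
  have : Fintype (Quotient (MulAction.orbitRel P X)) := Fintype.ofFinite _
  have hfo : ∀ x : X, Fintype (MulAction.orbit P x) := fun x => Fintype.ofFinite _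
  have hsum : ∀ F : X → ℤ, (∀ (g : P) (x : X), F (g • x) = F x) →
      ∑ x, F x = ∑ ω : Quotient (MulAction.orbitRel P X),
      (Nat.card (MulAction.orbit P ω.out) : ℤ) * F ω.out := by
    intro F hF
    rw [← (MulAction.selfEquivSigmaOrbits P X).symm.sum_comp F, Fintype.sum_sigma]
    refine Finset.sum_congr rfl fun ω _ => ?_
    have h2 : ∀ a : MulAction.orbit P ω.out,
        F ((MulAction.selfEquivSigmaOrbits P X).symm ⟨ω, a⟩) = F ω.out := by
      rintro ⟨_, u, rfl⟩
      exact hF u ω.out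
    rw [Finset.sum_congr rfl (fun a _ => h2 a), Finset.sum_const, Finset.card_univ,
      nsmul_eq_mul, Nat.card_eq_fintype_card]
  rw [Finset.sum_filter, ← Finset.sum_sub_distrib, hsum]
  · refine Finset.dvd_sum fun ω _ => ?_
    by_cases h : ω.out ∈ MulAction.fixedPoints P X
    · rw [if_pos h, sub_self, mul_zero]; exact dvd_zero _
    · rw [if_neg h, sub_zero]
      apply Dvd.dvd.mul_right
      have h1 : Nat.card (MulAction.orbit P ω.out) ∣ Nat.card P := by
        rw [← Nat.card_congr (MulAction.orbitProdStabilizerEquivGroup P ω.out), Nat.card_prod]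
        exact Dvd.intro _ rfl
      obtain ⟨n, hn⟩ := (@IsPGroup.iff_card p P _ ⟨hp⟩ _).1 hP
      rw [hn] at h1
      obtain ⟨j, -, hj⟩ := (Nat.dvd_prime_pow hp).1 h1
      have hj0 : j ≠ 0 := by
        rintro rfl
        apply h
        rw [pow_zero, Nat.card_eq_one_iff_unique] at hj
        intro g
        have := hj.1
        exact congrArg Subtype.val (Subsingleton.elim
          (⟨g • ω.out, MulAction.mem_orbit _ g⟩ : MulAction.orbit P ω.out)
          ⟨ω.out, MulAction.mem_orbit_self _⟩)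
      rw [hj]
      exact_mod_cast dvd_pow_self p hj0
  · intro g x
    rw [hf g x]
    congr 1
    have : g • x ∈ MulAction.fixedPoints P X ↔ x ∈ MulAction.fixedPoints P X := by
      constructor
      · intro h y
        have h1 : g • x = x := by
          have h2 := h g⁻¹
          rw [inv_smul_smul] at h2
          exact h2.symm
        rw [h1] at h
        exact h y
      · intro h y
        rw [h g]
        exact h y
    simp only [this]

section main

variable {G : Type u} [Group G]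

/-- the action on irreducible characters of a normal subgroup -/
@[reducible] def irrAction {M : Subgroup G} (hM : M.Normal) : MulAction G (IrrCharacter M) where
  smul g ψ := ⟨cj hM g⁻¹ ψ, isIrr_cj hM ψ.2 _⟩
  one_smul ψ := Subtype.ext (by
    show cj hM (1 : G)⁻¹ (ψ : M → ℂ) = ψ
    rw [inv_one, cj_one])
  mul_smul g h ψ := Subtype.ext (by
    show cj hM (g * h)⁻¹ (ψ : M → ℂ) = cj hM g⁻¹ (cj hM h⁻¹ (ψ : M → ℂ))
    rw [mul_inv_rev, cj_mul])

/-- extension of invariant characters with coprimality conditions -/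
theorem exists_extension [Finite G] {N : Subgroup G} (hN : N.Normal) {ϑ : N → ℂ}
    (hϑ : IsIrrCharacter N ϑ) (hinv : ∀ g : G, cj hN g ϑ = ϑ) {d : ℕ} (hd : ϑ 1 = d)
    (hcop : Nat.Coprime N.index d)
    (hdet : ∀ lam : N →* ℂˣ, Nat.Coprime N.index (orderOf lam)) :
    ∃ χ : G → ℂ, IsIrrCharacter G χ ∧ ∀ n : N, χ n = ϑ n := by
  rw [det_extends_iff hN hϑ hinv hd hcop]
  obtain ⟨lam, hlam⟩ := exists_hf_det (irr_isChar hϑ)
  obtain ⟨μ, hμ, -⟩ := lin_extends hN lam (fun g => by
    rw [← hlam, ← detChar_invariant hN (irr_isChar hϑ), hinv g]) (hdet lam)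
  exact ⟨μ, fun n => by rw [hμ n, hlam]⟩

/-- all degrees powers of `p` -/
theorem degrees_ppower [Finite G] {p : ℕ} (hp : p.Prime)
    (h : ∀ χ : IrrCharacter G, ∃ k : ℕ, (χ : G → ℂ) 1 = (p : ℂ) ^ k) :
    ∃ A : Subgroup G, A.Normal ∧ (∀ a ∈ A, ∀ b ∈ A, a * b = b * a) ∧
      Nat.Coprime (Nat.card A) p ∧ ∃ k : ℕ, A.index = p ^ k := by
  classical
  haveI : Fact p.Prime := ⟨hp⟩
  haveI := Fintype.ofFinite G
  obtain ⟨M, hMmin⟩ := Set.Finite.exists_minimal
    (s := {A : Subgroup G | A.Normal ∧ ∃ k : ℕ, A.index = p ^ k}) (Set.toFinite _)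
    ⟨⊤, inferInstance, 0, by simp⟩
  obtain ⟨⟨hM, k₀, hk₀⟩, hmin⟩ := hMmin
  haveI := hM
  haveI := Fintype.ofFinite M
  haveI := Fintype.ofFinite (IrrCharacter M)
  -- linear characters have order prime to `p`
  have hlin : ∀ lam : M →* ℂˣ, ¬ p ∣ orderOf lam := by
    intro lam hdvd
    let M₀ : Subgroup G := {
      carrier := {x | ∃ hx : x ∈ M, ∀ μ : M →* ℂˣ, μ ^ p = 1 → μ ⟨x, hx⟩ = 1}
      one_mem' := ⟨M.one_mem, fun μ _ => map_one μ⟩
      mul_mem' := by
        rintro a b ⟨ha, ha'⟩ ⟨hb, hb'⟩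
        refine ⟨M.mul_mem ha hb, fun μ hμ => ?_⟩
        have : (⟨a * b, M.mul_mem ha hb⟩ : M) = ⟨a, ha⟩ * ⟨b, hb⟩ := rfl
        rw [this, map_mul, ha' μ hμ, hb' μ hμ, one_mul]
      inv_mem' := by
        rintro a ⟨ha, ha'⟩
        refine ⟨M.inv_mem ha, fun μ hμ => ?_⟩
        have : (⟨a⁻¹, M.inv_mem ha⟩ : M) = ⟨a, ha⟩⁻¹ := rfl
        rw [this, map_inv, ha' μ hμ, inv_one] }
    have hM₀n : M₀.Normal := by
      constructor
      rintro x ⟨hx, hx'⟩ g
      refine ⟨hM.conj_mem x hx g, fun μ hμ => ?_⟩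
      exact hx' (μ.comp (cjEquiv hM g).toMonoidHom) (by
        ext y
        have h1 := DFunLike.congr_fun hμ (cjEquiv hM g y)
        exact congrArg Units.val h1)
    have hM₀M : M₀ ≤ M := fun x hx => hx.1
    have hidx : ∃ j : ℕ, M₀.index = p ^ j := by
      haveI : (M₀.subgroupOf M).Normal := inferInstance
      have h1 : IsPGroup p (M ⧸ M₀.subgroupOf M) := by
        intro q
        obtain ⟨x, rfl⟩ := QuotientGroup.mk_surjective q
        refine ⟨1, ?_⟩
        rw [pow_one, ← QuotientGroup.mk_pow, QuotientGroup.eq_one_iff, Subgroup.mem_subgroupOf]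
        refine ⟨(x ^ p).2, fun μ hμ => ?_⟩
        have : (⟨((x ^ p : M) : G), (x ^ p).2⟩ : M) = x ^ p := rfl
        rw [this, map_pow]
        exact DFunLike.congr_fun hμ x
      obtain ⟨j, hj⟩ := IsPGroup.iff_card.1 h1
      have h2 : M₀.relIndex M = p ^ j := hj
      refine ⟨j + k₀, ?_⟩
      rw [← Subgroup.relIndex_mul_index hM₀M, h2, hk₀, pow_add]
    have hle := hmin ⟨hM₀n, hidx⟩ hM₀M
    -- a character of order `p`
    obtain ⟨c, hc⟩ := hdvd
    have hc0 : c ≠ 0 := by
      rintro rfl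
      rw [mul_zero] at hc
      exact (orderOf_pos lam).ne' hc
    have h1 : (lam ^ c) ^ p = 1 := by
      rw [← pow_mul lam, mul_comm, ← hc, pow_orderOf_eq_one]
    have h3 : orderOf lam ∣ c := by
      apply orderOf_dvd_of_pow_eq_one
      ext x
      exact congrArg Units.val ((hle x.2).2 _ h1)
    rw [hc] at h3
    have h4 := Nat.le_of_dvd (Nat.pos_of_ne_zero hc0) h3
    have h5 := hp.two_le
    have h6 : c * 1 < p * c := by nlinarith [Nat.pos_of_ne_zero hc0]
    omega
  have hcopind : ∀ n : ℕ, ¬ p ∣ n → Nat.Coprime M.index n := by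
    intro n hn
    rw [hk₀]
    exact ((Nat.Prime.coprime_iff_not_dvd hp).2 hn).pow_left _
  -- invariant characters
  have hinvlin : ∀ ψ : IrrCharacter M, (∀ g : G, cj hM g (ψ : M → ℂ) = ψ) →
      ¬ p ∣ dg (ψ : M → ℂ) → dg (ψ : M → ℂ) = 1 := by
    intro ψ hψ hpd
    obtain ⟨χ, hχ, hres⟩ := exists_extension hM ψ.2 hψ (dg_eq (irr_isChar ψ.2)) (hcopind _ hpd)
      (fun lam => hcopind _ (hlin lam))
    obtain ⟨k, hk⟩ := h ⟨χ, hχ⟩
    have h1 : ((dg (ψ : M → ℂ) : ℕ) : ℂ) = ((p ^ k : ℕ) : ℂ) := by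
      rw [← dg_eq (irr_isChar ψ.2), ← hres 1]
      push_cast
      exact hk
    have h2 : dg (ψ : M → ℂ) = p ^ k := by exact_mod_cast h1
    rcases Nat.eq_zero_or_pos k with h3 | h3
    · rw [h2, h3, pow_zero]
    · exact absurd (h2 ▸ dvd_pow_self p h3.ne') hpd
  -- the action of a Sylow subgroup
  obtain ⟨P⟩ : Nonempty (Sylow p G) := inferInstance
  letI := irrAction hM
  letI : MulAction P (IrrCharacter M) := MulAction.compHom _ (P : Subgroup G).subtype
  have hMP : M ⊔ P = ⊤ := by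
    rw [← Subgroup.index_eq_one]
    have h1 : (M ⊔ P).index ∣ p ^ k₀ := by
      rw [← hk₀]; exact Subgroup.index_dvd_of_le le_sup_left
    have h2 : (M ⊔ P).index ∣ (P : Subgroup G).index := Subgroup.index_dvd_of_le le_sup_right
    obtain ⟨j, -, hj⟩ := (Nat.dvd_prime_pow hp).1 h1
    rcases Nat.eq_zero_or_pos j with h3 | h3
    · rw [hj, h3, pow_zero]
    · exact absurd ((dvd_pow_self p h3.ne').trans (hj ▸ h2)) P.not_dvd_index
  have hfix : ∀ ψ : IrrCharacter M, ψ ∈ MulAction.fixedPoints P (IrrCharacter M) ↔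
      ∀ g : G, cj hM g (ψ : M → ℂ) = ψ := by
    intro ψ
    constructor
    · intro h1 g
      have h2 : M ⊔ P ≤ inertia hM (ψ : M → ℂ) := by
        refine sup_le (le_inertia hM (irr_classFun ψ.2)) ?_
        intro x hx
        have h3 := h1 (⟨x, hx⟩⁻¹ : P)
        have h4 : cj hM (x⁻¹)⁻¹ (ψ : M → ℂ) = ψ := congrArg Subtype.val h3
        rw [inv_inv] at h4
        exact h4
      rw [hMP] at h2
      exact h2 (Subgroup.mem_top g)
    · intro h1 g
      exact Subtype.ext (h1 (g : G)⁻¹)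
  have hsum := sum_modEq_fixed (P := P) (X := IrrCharacter M) hp P.isPGroup'
    (fun ψ => (dg (ψ : M → ℂ) : ℤ) ^ 2) (by
      intro g ψ
      show (dg (cj hM (g : G)⁻¹ (ψ : M → ℂ)) : ℤ) ^ 2 = _
      congr 2
      rw [dg, dg, cj_one_apply])
  have htot : ∑ ψ : IrrCharacter M, (dg (ψ : M → ℂ) : ℤ) ^ 2 = Nat.card M := by
    have h1 := sum_degree_mul (G := M) 1
    rw [if_pos rfl] at h1
    have h2 : ((∑ ψ : IrrCharacter M, (dg (ψ : M → ℂ) : ℤ) ^ 2 : ℤ) : ℂ) = ((Nat.card M : ℤ) : ℂ) := by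
      push_cast
      rw [← h1]
      refine Finset.sum_congr rfl fun ψ _ => ?_
      rw [dg_eq (irr_isChar ψ.2)]; ring
    exact_mod_cast h2
  rw [htot] at hsum
  -- the group of invariant linear characters
  let Λ : Subgroup (M →* ℂˣ) := {
    carrier := {lam | ∀ (g : G) (x : M), lam (cjEquiv hM g x) = lam x}
    one_mem' := fun _ _ => rfl
    mul_mem' := by
      intro a b ha hb g x
      rw [MonoidHom.mul_apply, MonoidHom.mul_apply, ha g x, hb g x]
    inv_mem' := by
      intro a ha g x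
      rw [MonoidHom.inv_apply, MonoidHom.inv_apply, ha g x] }
  haveI : Finite (M →* ℂˣ) := by
    apply Nat.finite_of_card_ne_zero
    rw [card_hom_units]
    exact Subgroup.index_ne_zero_of_finite
  have hΛ : ¬ p ∣ Nat.card Λ := by
    intro hd
    obtain ⟨lam, hl⟩ := exists_prime_orderOf_dvd_card' p hd
    apply hlin lam.1
    rw [Subgroup.orderOf_coe, hl]
  have hcount : ∑ ψ with ψ ∈ MulAction.fixedPoints P (IrrCharacter M),
      (dg (ψ : M → ℂ) : ℤ) ^ 2 ≡ Nat.card Λ [ZMOD p] := by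
    have h1 : ∀ ψ ∈ (Finset.univ : Finset (IrrCharacter M)).filter
        (fun ψ => ψ ∈ MulAction.fixedPoints P (IrrCharacter M)),
        (dg (ψ : M → ℂ) : ℤ) ^ 2 ≡ (if dg (ψ : M → ℂ) = 1 then 1 else 0) [ZMOD p] := by
      intro ψ hψ
      rw [Finset.mem_filter] at hψ
      by_cases h2 : dg (ψ : M → ℂ) = 1
      · rw [if_pos h2, h2]; exact Int.ModEq.refl _
      · rw [if_neg h2]
        have h3 : p ∣ dg (ψ : M → ℂ) := by
          by_contra h3
          exact h2 (hinvlin ψ ((hfix ψ).1 hψ.2) h3)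
        rw [Int.modEq_zero_iff_dvd]
        have h4 : (p : ℤ) ∣ (dg (ψ : M → ℂ) : ℤ) := by exact_mod_cast h3
        exact h4.trans (dvd_pow_self _ two_ne_zero)
    refine (Int.ModEq.sum h1).trans ?_
    rw [← Finset.sum_filter, Finset.sum_const, nsmul_eq_mul, mul_one, Finset.filter_filter]
    have h2 : ((Finset.univ : Finset (IrrCharacter M)).filter
        (fun ψ => ψ ∈ MulAction.fixedPoints P (IrrCharacter M) ∧ dg (ψ : M → ℂ) = 1)).card =
        Nat.card Λ := by
      rw [← Fintype.card_subtype, ← Nat.card_eq_fintype_card]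
      symm
      refine Nat.card_congr (Equiv.ofBijective (fun lam : Λ => ⟨⟨hf lam.1, isIrr_hf lam.1⟩,
        (hfix _).2 (fun g => funext fun x => by
          have := lam.2 g x
          exact congrArg Units.val this), dg_of_eq (by show hf lam.1 1 = _; rw [hf_at_one]; simp)⟩) ⟨?_, ?_⟩)
      · intro a b hab
        have h3 := congrArg (fun z : {ψ : IrrCharacter M //
          ψ ∈ MulAction.fixedPoints P (IrrCharacter M) ∧ dg (ψ : M → ℂ) = 1} =>
            ((z.1 : IrrCharacter M) : M → ℂ)) hab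
        exact Subtype.ext (hf_injective h3)
      · rintro ⟨ψ, hψ, hψ1⟩
        obtain ⟨μ, hμ⟩ := exists_hf (irr_isChar ψ.2) (by rw [dg_eq (irr_isChar ψ.2), hψ1]; simp)
        refine ⟨⟨μ, fun g x => Units.ext ?_⟩, Subtype.ext (Subtype.ext hμ.symm)⟩
        have h3 := congrFun ((hfix ψ).1 hψ g) x
        rw [hμ] at h3
        exact h3
    rw [h2]
  have hpM : ¬ p ∣ Nat.card M := by
    intro hd
    apply hΛ
    have h1 : (p : ℤ) ∣ (Nat.card M : ℤ) := by exact_mod_cast hd
    have h2 : (p : ℤ) ∣ ∑ ψ with ψ ∈ MulAction.fixedPoints P (IrrCharacter M),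
        (dg (ψ : M → ℂ) : ℤ) ^ 2 := by
      have := dvd_sub h1 hsum
      rwa [sub_sub_cancel] at this
    have h3 := (Int.modEq_zero_iff_dvd.2 h2).symm.trans hcount
    exact_mod_cast Int.modEq_zero_iff_dvd.1 h3.symm
  refine ⟨M, hM, ?_, (Nat.coprime_comm.1 ((Nat.Prime.coprime_iff_not_dvd hp).2 hpM)), k₀, hk₀⟩
  -- `M` is abelian
  have hcomm : ∀ a b : M, a * b = b * a := by
    rw [comm_iff_all_linear]
    intro ψ
    -- an irreducible constituent of the induced character
    have hne : indFun M (ψ : M → ℂ) ≠ 0 := by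
      intro h0
      have h1 := congrFun h0 1
      rw [indFun_one_apply] at h1
      have h2 : (M.index : ℂ) ≠ 0 := by exact_mod_cast Subgroup.index_ne_zero_of_finite
      exact mul_ne_zero h2 (irr_one_ne_zero ψ.2) h1
    obtain ⟨χ, hχ⟩ := exists_constituent (isChar_ind M (irr_isChar ψ.2)) hne
    obtain ⟨k, hk⟩ := h χ
    rw [frobenius_reciprocity M _ (irr_classFun χ.2)] at hχ
    obtain ⟨h1, -⟩ := ratio_dvd_index hM χ.2 ψ.2 (classInner_ne_zero_symm hχ) (p ^ k)
      (dg (ψ : M → ℂ)) (by rw [hk]; push_cast; rfl) (dg_eq (irr_isChar ψ.2))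
    have h2 : dg (ψ : M → ℂ) ∣ Nat.card M :=
      irr_degree_dvd_card ψ.2 (dg_eq (irr_isChar ψ.2))
    have h3 : dg (ψ : M → ℂ) = 1 :=
      Nat.eq_one_of_dvd_coprimes (((Nat.Prime.coprime_iff_not_dvd hp).2 hpM).pow_left k) h1 h2
    rw [dg_eq (irr_isChar ψ.2), h3]; simp
  intro a ha b hb
  exact congrArg Subtype.val (hcomm ⟨a, ha⟩ ⟨b, hb⟩)

end main

end Cfsg.Agent.H3
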