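import Cfsg.Agent.H3.Basic2
import Cfsg.Agent.H3.Isometry
import Cfsg.Prelude.Def_OddOrderChar

/-!
# Coherence: virtual characters of norm one, integer spans, extension of isometries (helper3)
-/

set_option autoImplicit false
set_option linter.style.haveILetI false
set_option linter.unusedSimpArgs false
set_option linter.unusedSectionVars false
set_option linter.unusedVariables false
open Cfsg
open scoped ComplexConjugate

namespace Cfsg.Agent.H3

universe u v w

section signed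

variable {G : Type u} [Group G] [Fintype G]

/-- `±` an irreducible character -/
def SIrr (α : G → ℂ) : Prop := IsIrrCharacter G α ∨ IsIrrCharacter G (-α)

theorem SIrr.exists_sign {α : G → ℂ} (h : SIrr α) :
    ∃ (s : ℤ) (χ : IrrCharacter G), (s = 1 ∨ s = -1) ∧ α = (s : ℂ) • (χ : G → ℂ) := by
  rcases h with h | h
  · exact ⟨1, ⟨α, h⟩, Or.inl rfl, by simp⟩
  · exact ⟨-1, ⟨-α, h⟩, Or.inr rfl, by simp⟩

theorem SIrr.one_ne_zero {α : G → ℂ} (h : SIrr α) : α 1 ≠ 0 := by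
  rcases h with h | h
  · exact irr_one_ne_zero h
  · have := irr_one_ne_zero h
    simpa using this

theorem SIrr.neg {α : G → ℂ} (h : SIrr α) : SIrr (-α) := by
  rcases h with h | h
  · right; rwa [neg_neg]
  · left; exact h

theorem SIrr.isGen {α : G → ℂ} (h : SIrr α) : IsGeneralizedCharacter G α := by
  rcases h with h | h
  · exact isGen_of_irr h
  · have := isGen_neg (isGen_of_irr h)
    rwa [neg_neg] at this

theorem SIrr.norm {α : G → ℂ} (h : SIrr α) : classInner α α = 1 := by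
  rcases h with h | h
  · exact classInner_self_of_irr h
  · have := classInner_self_of_irr h
    rwa [classInner_neg_left, classInner_neg_right, neg_neg] at this

theorem sIrr_of_norm {α : G → ℂ} (h : IsGeneralizedCharacter G α) (h1 : classInner α α = 1) :
    SIrr α := gen_norm_one h h1

/-- two signed irreducible characters are orthogonal or equal up to sign -/
theorem SIrr.dichotomy {α β : G → ℂ} (hα : SIrr α) (hβ : SIrr β) :
    classInner α β = 0 ∨ ∃ s : ℤ, (s = 1 ∨ s = -1) ∧ α = (s : ℂ) • β := by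
  classical
  obtain ⟨a, χ, ha, rfl⟩ := hα.exists_sign
  obtain ⟨b, ψ, hb, rfl⟩ := hβ.exists_sign
  by_cases h : χ = ψ
  · subst h
    right
    refine ⟨a * b, ?_, ?_⟩
    · rcases ha with rfl | rfl <;> rcases hb with rfl | rfl <;> simp
    · rw [smul_smul]
      congr 1
      rcases ha with rfl | rfl <;> rcases hb with rfl | rfl <;> simp
  · left
    rw [classInner_smul_left, classInner_smul_right, classInner_irr', if_neg h]
    simp

end signed

section zspan

theorem zsmul_eq_smul {X : Type u} (n : ℤ) (α : X → ℂ) : n • α = (n : ℂ) • α := by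
  ext x; simp

theorem classInner_zsmul_left {G : Type u} [Group G] [Fintype G] (n : ℤ) (a b : G → ℂ) :
    classInner (n • a) b = n * classInner a b := by
  rw [zsmul_eq_smul, classInner_smul_left]

theorem classInner_zsmul_right {G : Type u} [Group G] [Fintype G] (n : ℤ) (a b : G → ℂ) :
    classInner a (n • b) = n * classInner a b := by
  rw [zsmul_eq_smul, classInner_smul_right]; simp

variable {X : Type u} {S T : Set (X → ℂ)}

theorem zspan_mem {α : X → ℂ} (h : α ∈ S) : α ∈ zspan S := Submodule.subset_span h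

theorem zspan_add {α β : X → ℂ} (h : α ∈ zspan S) (h' : β ∈ zspan S) : α + β ∈ zspan S :=
  (Submodule.span ℤ S).add_mem h h'

theorem zspan_sub {α β : X → ℂ} (h : α ∈ zspan S) (h' : β ∈ zspan S) : α - β ∈ zspan S :=
  (Submodule.span ℤ S).sub_mem h h'

theorem zspan_neg {α : X → ℂ} (h : α ∈ zspan S) : -α ∈ zspan S :=
  (Submodule.span ℤ S).neg_mem h

theorem zspan_smul {α : X → ℂ} (n : ℤ) (h : α ∈ zspan S) : n • α ∈ zspan S :=
  (Submodule.span ℤ S).smul_mem n h

theorem zspan_zero : (0 : X → ℂ) ∈ zspan S := (Submodule.span ℤ S).zero_mem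

theorem zspan_mono (h : S ⊆ T) {α : X → ℂ} (hα : α ∈ zspan S) : α ∈ zspan T :=
  Submodule.span_mono h hα

theorem zspan_induction {P : (X → ℂ) → Prop} (hmem : ∀ α ∈ S, P α) (h0 : P 0)
    (hadd : ∀ α β, α ∈ zspan S → β ∈ zspan S → P α → P β → P (α + β))
    (hsmul : ∀ (n : ℤ) (α), α ∈ zspan S → P α → P (n • α)) {α : X → ℂ} (h : α ∈ zspan S) : P α :=
  Submodule.span_induction (p := fun x _ => P x) hmem h0 (fun x y hx hy => hadd x y hx hy)
    (fun n x hx => hsmul n x hx) h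

/-- the submodule of integer combinations vanishing off `A` -/
def zOn (S : Set (X → ℂ)) (A : Set X) : Submodule ℤ (X → ℂ) where
  carrier := zspanOn S A
  add_mem' {a b} ha hb := ⟨zspan_add ha.1 hb.1, fun x hx => by
    rw [Pi.add_apply, ha.2 x hx, hb.2 x hx, add_zero]⟩
  zero_mem' := ⟨zspan_zero, fun x _ => rfl⟩
  smul_mem' n a ha := ⟨zspan_smul n ha.1, fun x hx => by
    rw [Pi.smul_apply, ha.2 x hx, smul_zero]⟩

theorem mem_zOn {S : Set (X → ℂ)} {A : Set X} {α : X → ℂ} : α ∈ zOn S A ↔ α ∈ zspanOn S A :=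
  Iff.rfl

theorem zspanOn_mono (h : S ⊆ T) {A : Set X} {α : X → ℂ} (hα : α ∈ zspanOn S A) :
    α ∈ zspanOn T A := ⟨zspan_mono h hα.1, hα.2⟩

theorem zspanOn_one {G : Type u} [Group G] {S : Set (G → ℂ)} {α : G → ℂ} :
    α ∈ zspanOn S ({1}ᶜ : Set G) ↔ α ∈ zspan S ∧ α 1 = 0 := by
  constructor
  · intro h
    exact ⟨h.1, h.2 1 (by simp)⟩
  · intro h
    refine ⟨h.1, fun x hx => ?_⟩
    have : x = 1 := by simpa using hx
    rw [this]; exact h.2

/-- elements of the span of `insert χ S` -/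
theorem zspan_insert {χ α : X → ℂ} (h : α ∈ zspan (insert χ S)) :
    ∃ n : ℤ, ∃ β ∈ zspan S, α = n • χ + β := by
  obtain ⟨n, β, hβ, h⟩ := Submodule.mem_span_insert.1 h
  exact ⟨n, β, hβ, h⟩

end zspan

section iso

variable {L : Type u} [Group L] [Fintype L] {G : Type v} [Group G] [Fintype G]
variable {E : Submodule ℤ (L → ℂ)} {τ : (L → ℂ) → (G → ℂ)}

theorem iso_zero (h : IsLinearIsometryOn (E : Set (L → ℂ)) τ) : τ 0 = 0 := by
  have := h.2.1 0 E.zero_mem 0
  simpa using this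

theorem iso_neg (h : IsLinearIsometryOn (E : Set (L → ℂ)) τ) {α : L → ℂ} (hα : α ∈ E) :
    τ (-α) = -τ α := by
  have := h.2.1 α hα (-1)
  simpa using this

theorem iso_sub (h : IsLinearIsometryOn (E : Set (L → ℂ)) τ) {α β : L → ℂ} (hα : α ∈ E)
    (hβ : β ∈ E) : τ (α - β) = τ α - τ β := by
  rw [sub_eq_add_neg, h.1 α hα _ (E.neg_mem hβ), iso_neg h hβ, sub_eq_add_neg]

theorem iso_mono {E' : Set (L → ℂ)} {E : Set (L → ℂ)} (h : IsLinearIsometryOn E τ)
    (hE : E' ⊆ E) : IsLinearIsometryOn E' τ :=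
  ⟨fun α hα β hβ => h.1 α (hE hα) β (hE hβ), fun α hα n => h.2.1 α (hE hα) n,
    fun α hα β hβ => h.2.2.1 α (hE hα) β (hE hβ), fun α hα => h.2.2.2 α (hE hα)⟩

theorem iso_congr {E : Submodule ℤ (L → ℂ)} {τ' : (L → ℂ) → (G → ℂ)}
    (h : IsLinearIsometryOn (E : Set (L → ℂ)) τ) (hE : ∀ α ∈ E, τ' α = τ α) :
    IsLinearIsometryOn (E : Set (L → ℂ)) τ' := by
  refine ⟨fun α hα β hβ => ?_, fun α hα n => ?_, fun α hα β hβ => ?_, fun α hα => ?_⟩
  · rw [hE α hα, hE β hβ, hE _ (E.add_mem hα hβ), h.1 α hα β hβ]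
  · rw [hE α hα, hE _ (E.smul_mem n hα), h.2.1 α hα n]
  · rw [hE α hα, hE β hβ, h.2.2.1 α hα β hβ]
  · rw [hE α hα]; exact h.2.2.2 α hα

/-- `τ₁` is an isometry of the integer span of `S` extending `τ` -/
def CohMap (S : Set (L → ℂ)) (τ τ₁ : (L → ℂ) → (G → ℂ)) : Prop :=
  IsLinearIsometryOn (zspan S) τ₁ ∧ ∀ α ∈ zspanOn S ({1}ᶜ : Set L), τ₁ α = τ α

theorem CohMap.mono {S T : Set (L → ℂ)} {τ τ₁ : (L → ℂ) → (G → ℂ)} (h : CohMap T τ τ₁)
    (hST : S ⊆ T) : CohMap S τ τ₁ :=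
  ⟨iso_mono h.1 (fun _ hα => zspan_mono hST hα), fun α hα => h.2 α (zspanOn_mono hST hα)⟩

theorem CohMap.add {S : Set (L → ℂ)} {τ τ₁ : (L → ℂ) → (G → ℂ)} (h : CohMap S τ τ₁)
    {α β : L → ℂ} (hα : α ∈ zspan S) (hβ : β ∈ zspan S) : τ₁ (α + β) = τ₁ α + τ₁ β :=
  h.1.1 α hα β hβ

theorem CohMap.smul {S : Set (L → ℂ)} {τ τ₁ : (L → ℂ) → (G → ℂ)} (h : CohMap S τ τ₁)
    {α : L → ℂ} (n : ℤ) (hα : α ∈ zspan S) : τ₁ (n • α) = n • τ₁ α :=
  h.1.2.1 α hα n

theorem CohMap.sub {S : Set (L → ℂ)} {τ τ₁ : (L → ℂ) → (G → ℂ)} (h : CohMap S τ τ₁)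
    {α β : L → ℂ} (hα : α ∈ zspan S) (hβ : β ∈ zspan S) : τ₁ (α - β) = τ₁ α - τ₁ β :=
  iso_sub (E := Submodule.span ℤ S) h.1 hα hβ

theorem CohMap.inner {S : Set (L → ℂ)} {τ τ₁ : (L → ℂ) → (G → ℂ)} (h : CohMap S τ τ₁)
    {α β : L → ℂ} (hα : α ∈ zspan S) (hβ : β ∈ zspan S) :
    classInner (τ₁ α) (τ₁ β) = classInner α β :=
  h.1.2.2.1 α hα β hβ

theorem CohMap.gen {S : Set (L → ℂ)} {τ τ₁ : (L → ℂ) → (G → ℂ)} (h : CohMap S τ τ₁)
    {α : L → ℂ} (hα : α ∈ zspan S) : IsGeneralizedCharacter G (τ₁ α) :=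
  h.1.2.2.2 α hα

/-- **Adding one character** to a coherent set. -/
theorem CohMap.insert {S : Set (L → ℂ)} {τ τ₁ : (L → ℂ) → (G → ℂ)} (h : CohMap S τ τ₁)
    {χ χ₁ : L → ℂ} (hτ : IsLinearIsometryOn (zspanOn (Insert.insert χ S) ({1}ᶜ : Set L)) τ)
    (hχ : ∀ φ ∈ S, classInner χ φ = 0) (hχ0 : classInner χ χ ≠ 0) (hχ₁ : χ₁ ∈ S)
    {a : ℤ} (ha : χ 1 = a * χ₁ 1) {X : G → ℂ} (hX : X = τ (χ - a • χ₁) + a • τ₁ χ₁)
    (hXS : ∀ φ ∈ S, classInner X (τ₁ φ) = 0) (hXn : classInner X X = classInner χ χ) :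
    ∃ τ₂, CohMap (Insert.insert χ S) τ τ₂ ∧ (∀ α ∈ zspan S, τ₂ α = τ₁ α) ∧ τ₂ χ = X := by
  classical
  let T : Set (L → ℂ) := Insert.insert χ S
  have hST : S ⊆ T := Set.subset_insert χ S
  have hχT : χ ∈ T := Set.mem_insert χ S
  have hmem : χ - a • χ₁ ∈ zspanOn T ({1}ᶜ : Set L) := by
    rw [zspanOn_one]
    refine ⟨zspan_sub (zspan_mem hχT) (zspan_smul a (zspan_mem (hST hχ₁))), ?_⟩
    rw [Pi.sub_apply, zsmul_eq_smul, Pi.smul_apply, ha, smul_eq_mul, sub_self]
  have hXgen : IsGeneralizedCharacter G X := by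
    rw [hX]
    exact isGen_add (hτ.2.2.2 _ hmem) (isGen_zsmul a (h.gen (zspan_mem hχ₁)))
  have hχz : ∀ β ∈ zspan S, classInner χ β = 0 := by
    intro β hβ
    refine zspan_induction (P := fun β => classInner χ β = 0) hχ (by simp) ?_ ?_ hβ
    · intro α β hα hβ h1 h2
      rw [classInner_add_right, h1, h2, add_zero]
    · intro n α hα h1
      rw [classInner_zsmul_right, h1, mul_zero]
  have hXz : ∀ β ∈ zspan S, classInner X (τ₁ β) = 0 := by
    intro β hβ
    refine zspan_induction (P := fun β => classInner X (τ₁ β) = 0) hXS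
      (by rw [iso_zero (E := Submodule.span ℤ S) h.1]; simp) ?_ ?_ hβ
    · intro α β hα hβ h1 h2
      rw [h.add hα hβ, classInner_add_right, h1, h2, add_zero]
    · intro n α hα h1
      rw [h.smul n hα, classInner_zsmul_right, h1, mul_zero]
  let c : (L → ℂ) → ℂ := fun α => classInner α χ / classInner χ χ
  let τ₂ : (L → ℂ) → (G → ℂ) := fun α => τ₁ (α - c α • χ) + c α • X
  have hc : ∀ (n : ℤ) (β : L → ℂ), β ∈ zspan S → c (n • χ + β) = n := by
    intro n β hβ
    have h1 : classInner β χ = 0 := by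
      rw [← classInner_conj_symm, hχz β hβ, map_zero]
    show classInner (n • χ + β) χ / classInner χ χ = n
    rw [classInner_add_left, classInner_zsmul_left, h1, add_zero, mul_div_assoc, div_self hχ0,
      mul_one]
  have hval : ∀ (n : ℤ) (β : L → ℂ), β ∈ zspan S → τ₂ (n • χ + β) = τ₁ β + n • X := by
    intro n β hβ
    show τ₁ (n • χ + β - c (n • χ + β) • χ) + c (n • χ + β) • X = _
    rw [hc n β hβ, ← zsmul_eq_smul, ← zsmul_eq_smul, add_sub_cancel_left]
  have hS2 : ∀ α ∈ zspan S, τ₂ α = τ₁ α := by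
    intro α hα
    have := hval 0 α hα
    simpa using this
  have hχ2 : τ₂ χ = X := by
    have := hval 1 0 zspan_zero
    rw [iso_zero (E := Submodule.span ℤ S) h.1] at this
    simpa using this
  have hlin1 : ∀ α ∈ zspan T, ∀ β ∈ zspan T, τ₂ (α + β) = τ₂ α + τ₂ β := by
    intro α hα β hβ
    obtain ⟨n, α', hα', rfl⟩ := zspan_insert hα
    obtain ⟨m, β', hβ', rfl⟩ := zspan_insert hβ
    rw [hval n α' hα', hval m β' hβ']
    have h1 : n • χ + α' + (m • χ + β') = (n + m) • χ + (α' + β') := by rw [add_smul]; abel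
    rw [h1, hval _ _ (zspan_add hα' hβ'), h.add hα' hβ', add_smul]; abel
  have hlin2 : ∀ α ∈ zspan T, ∀ n : ℤ, τ₂ (n • α) = n • τ₂ α := by
    intro α hα n
    obtain ⟨m, α', hα', rfl⟩ := zspan_insert hα
    have h1 : n • (m • χ + α') = (n * m) • χ + n • α' := by rw [smul_add, smul_smul]
    rw [h1, hval _ _ (zspan_smul n hα'), hval _ _ hα', h.smul n hα', smul_add, smul_smul]
  refine ⟨τ₂, ⟨⟨hlin1, hlin2, ?_, ?_⟩, ?_⟩, hS2, hχ2⟩
  · intro α hα β hβ
    obtain ⟨n, α', hα', rfl⟩ := zspan_insert hα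
    obtain ⟨m, β', hβ', rfl⟩ := zspan_insert hβ
    rw [hval n α' hα', hval m β' hβ']
    have h1 : classInner (τ₁ α') X = 0 := by
      rw [← classInner_conj_symm, hXz α' hα', map_zero]
    have h2 : classInner α' χ = 0 := by
      rw [← classInner_conj_symm, hχz α' hα', map_zero]
    simp only [classInner_add_left, classInner_add_right, classInner_zsmul_left,
      classInner_zsmul_right, h1, h2, hXz β' hβ', hχz β' hβ', hXn, h.inner hα' hβ']
    ring
  · intro α hα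
    obtain ⟨n, α', hα', rfl⟩ := zspan_insert hα
    rw [hval n α' hα']
    exact isGen_add (h.gen hα') (isGen_zsmul n hXgen)
  · intro α hα
    rw [zspanOn_one] at hα
    obtain ⟨hα1, hα0⟩ := hα
    obtain ⟨n, α', hα', rfl⟩ := zspan_insert hα1
    -- `α = n (χ - a χ₁) + (α' + n a χ₁)`
    have h1 : n • χ + α' = n • (χ - a • χ₁) + (α' + (n * a) • χ₁) := by
      rw [smul_sub, smul_smul]; abel
    have h2 : α' + (n * a) • χ₁ ∈ zspanOn S ({1}ᶜ : Set L) := by
      rw [zspanOn_one]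
      refine ⟨zspan_add hα' (zspan_smul _ (zspan_mem hχ₁)), ?_⟩
      have h3 := hα0
      simp only [Pi.add_apply, zsmul_eq_smul, Pi.smul_apply, smul_eq_mul] at h3 ⊢
      rw [ha] at h3
      push_cast
      linear_combination h3
    rw [hval n α' hα']
    have h3 : τ (n • χ + α') = n • τ (χ - a • χ₁) + τ (α' + (n * a) • χ₁) := by
      rw [h1, hτ.1 _ ((zOn T ({1}ᶜ : Set L)).smul_mem n hmem) _ (zspanOn_mono hST h2),
        hτ.2.1 _ hmem n]
    rw [h3, ← h.2 _ h2, h.add hα' (zspan_smul _ (zspan_mem hχ₁)), h.smul _ (zspan_mem hχ₁), hX,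
      smul_add, smul_smul]
    abel

end iso

end Cfsg.Agent.H3
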