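import Cfsg.Agent.H3.CohB

/-!
# Coherence: the extension theorems (PF 5.5, 5.6, 5.7, Feit) (helper3)
-/

set_option autoImplicit false
set_option linter.style.haveILetI false
set_option linter.unusedSimpArgs false
set_option linter.unusedSectionVars false
set_option linter.unusedVariables false
open Cfsg
open scoped ComplexConjugate

namespace Cfsg.Agent.H3

universe u v w

variable {L : Type u} [Group L] [Fintype L] {G : Type v} [Group G] [Fintype G]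

section system

variable {S : Set (L → ℂ)} {τ : (L → ℂ) → (G → ℂ)} {R : (L → ℂ) → Finset (G → ℂ)}

theorem conjFun_conjFun {X : Type u} (χ : X → ℂ) : conjFun (conjFun χ) = χ := by
  ext x; simp [conjFun]

theorem classInner_conjFun (a b : L → ℂ) :
    classInner (conjFun a) (conjFun b) = conj (classInner a b) := classInner_conj_conj a b

theorem sys_conj_sub_mem (hS : IsCoherenceSystem S τ R) {χ : L → ℂ} (hχ : χ ∈ S) :
    χ - conjFun χ ∈ zspanOn S ({1}ᶜ : Set L) := by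
  rw [zspanOn_one]
  refine ⟨zspan_sub (zspan_mem hχ) (zspan_mem (hS.conj_mem χ hχ)), ?_⟩
  obtain ⟨n, hn⟩ := char_one_eq_nat (hS.isCharacter χ hχ)
  show χ 1 - conj (χ 1) = 0
  rw [hn]; simp

theorem sys_orth_conj (hS : IsCoherenceSystem S τ R) {χ : L → ℂ} (hχ : χ ∈ S) :
    classInner χ (conjFun χ) = 0 :=
  hS.orthogonal χ hχ _ (hS.conj_mem χ hχ) (hS.conj_ne χ hχ).symm

theorem sys_ne_zero (hS : IsCoherenceSystem S τ R) {χ : L → ℂ} (hχ : χ ∈ S) : χ ≠ 0 := by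
  intro h
  apply hS.conj_ne χ hχ
  rw [h]; ext x; simp [conjFun]

theorem sys_norm (hS : IsCoherenceSystem S τ R) {χ : L → ℂ} (hχ : χ ∈ S) :
    ∃ n : ℕ, 0 < n ∧ classInner χ χ = n ∧ classInner (conjFun χ) (conjFun χ) = n := by
  obtain ⟨n, hn⟩ := classInner_char_nat (hS.isCharacter χ hχ) (hS.isCharacter χ hχ)
  refine ⟨n, Nat.pos_of_ne_zero ?_, hn, ?_⟩
  · rintro rfl
    exact sys_ne_zero hS hχ (eq_zero_of_norm' (by rw [hn]; simp))
  · rw [classInner_conjFun, hn]; simp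

/-- if `β` has inner product `‖χ‖²` with `τ (χ - conj χ)` then its projection on `R χ` is at
least as long as `χ`. -/
theorem sys_proj (hS : IsCoherenceSystem S τ R) {χ : L → ℂ} (hχ : χ ∈ S) {n : ℕ}
    (hn : classInner χ χ = n) {β : G → ℂ} (hβ : IsGeneralizedCharacter G β)
    (h : classInner β (τ (χ - conjFun χ)) = n) :
    ∃ k : (G → ℂ) → ℤ, (∀ α ∈ R χ, classInner β α = k α) ∧ (n : ℤ) ≤ ∑ α ∈ R χ, k α ^ 2 ∧
      ∑ α ∈ R χ, k α = n := by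
  classical
  have key : ∀ α, ∃ m : ℤ, α ∈ R χ → classInner β α = m := by
    intro α
    by_cases hα : α ∈ R χ
    · obtain ⟨m, hm⟩ := classInner_gen_int hβ (hS.virtual χ hχ α hα)
      exact ⟨m, fun _ => hm⟩
    · exact ⟨0, fun h => absurd h hα⟩
  choose k hk using key
  have hsum : ∑ α ∈ R χ, k α = n := by
    have h1 : ((∑ α ∈ R χ, k α : ℤ) : ℂ) = n := by
      rw [← h, hS.sum_eq χ hχ, classInner_sum_right]
      push_cast
      exact Finset.sum_congr rfl fun α hα => (hk α hα).symm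
    exact_mod_cast h1
  refine ⟨k, hk, ?_, hsum⟩
  rw [← hsum]
  refine Finset.sum_le_sum fun α _ => ?_
  nlinarith [Int.le_self_sq (k α)]

/-- PF 5.5 -/
theorem pf55 (hS : IsCoherenceSystem S τ R) {χ : L → ℂ} (hχ : χ ∈ S) {ψ : L → ℂ}
    (h1 : classInner χ ψ = 0) (h2 : classInner (conjFun χ) ψ = 0) {n : ℕ}
    (hn : classInner χ χ = n) {β : G → ℂ} (hβ : IsGeneralizedCharacter G β)
    (h : classInner β (τ (χ - conjFun χ)) = n)
    (hnorm : classInner β β = classInner χ χ + classInner ψ ψ) :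
    (classInner χ χ).re ≤ ∑ α ∈ R χ, ‖classInner β α‖ ^ 2 ∧
    ((classInner ψ ψ).re ≤ (classInner β β).re - ∑ α ∈ R χ, ‖classInner β α‖ ^ 2 →
      (∑ α ∈ R χ, ‖classInner β α‖ ^ 2 = (classInner χ χ).re ∧
        ∀ α ∈ R χ, classInner β α = 0 ∨ classInner β α = 1)) := by
  obtain ⟨k, hk, hle, hsum⟩ := sys_proj hS hχ hn hβ h
  have hsq : ∑ α ∈ R χ, ‖classInner β α‖ ^ 2 = ((∑ α ∈ R χ, k α ^ 2 : ℤ) : ℝ) := by
    push_cast
    refine Finset.sum_congr rfl fun α hα => ?_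
    rw [hk α hα, Complex.norm_intCast, sq_abs]
  rw [hsq, hn, Complex.natCast_re]
  refine ⟨by exact_mod_cast hle, fun h3 => ?_⟩
  rw [hnorm, Complex.add_re, hn, Complex.natCast_re] at h3
  have h4 : ((∑ α ∈ R χ, k α ^ 2 : ℤ) : ℝ) ≤ n := by linarith
  have h5 : ∑ α ∈ R χ, k α ^ 2 ≤ (n : ℤ) := by exact_mod_cast h4
  have h6 : ∑ α ∈ R χ, k α ^ 2 = (n : ℤ) := le_antisymm h5 hle
  refine ⟨by rw [h6]; simp, ?_⟩
  have h7 : ∑ α ∈ R χ, (k α ^ 2 - k α) = 0 := by rw [Finset.sum_sub_distrib, h6, hsum, sub_self]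
  have h8 := (Finset.sum_eq_zero_iff_of_nonneg (fun α _ => by
    have := Int.le_self_sq (k α); omega)).1 h7
  intro α hα
  have h9 := h8 α hα
  have h10 : k α * (k α - 1) = 0 := by rw [← h9]; ring
  rw [hk α hα]
  rcases mul_eq_zero.1 h10 with h | h
  · left; rw [h]; simp
  · right
    have : k α = 1 := by omega
    rw [this]; simp

theorem sys_R_card_bessel (hS : IsCoherenceSystem S τ R) {χ : L → ℂ} (hχ : χ ∈ S) (β : G → ℂ) :
    ∑ α ∈ R χ, ‖classInner β α‖ ^ 2 ≤ (classInner β β).re := by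
  classical
  have := bessel_le (R χ) (fun α => α) (fun _ => (1 : ℝ)) (fun _ _ => one_ne_zero)
    (fun α hα α' hα' => by rw [hS.orthonormal χ hχ α hα α' hα']; simp) β
  simpa using this

theorem sys_R_eq (hS : IsCoherenceSystem S τ R) {χ : L → ℂ} (hχ : χ ∈ S) {β : G → ℂ}
    (h : ∑ α ∈ R χ, ‖classInner β α‖ ^ 2 = (classInner β β).re) :
    β = ∑ α ∈ R χ, classInner β α • α := by
  classical
  have := bessel_eq_case (R χ) (fun α => α) (fun _ => (1 : ℝ)) (fun _ _ => one_ne_zero)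
    (fun α hα α' hα' => by rw [hS.orthonormal χ hχ α hα α' hα']; simp) β (by simpa using h)
  conv_lhs => rw [this]
  simp

/-- the image of `φ` under a coherent extension lies in the span of `R φ` -/
theorem coh_mem_span (hS : IsCoherenceSystem S τ R) {S₁ : Set (L → ℂ)} (hS₁ : S₁ ⊆ S)
    {τ₁ : (L → ℂ) → (G → ℂ)} (h₁ : CohMap S₁ τ τ₁) {φ : L → ℂ} (hφ : φ ∈ S₁)
    (hφc : conjFun φ ∈ S₁) : τ₁ φ = ∑ α ∈ R φ, classInner (τ₁ φ) α • α := by
  have hφS := hS₁ hφ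
  obtain ⟨n, hn0, hn, hn'⟩ := sys_norm hS hφS
  have hmem : φ - conjFun φ ∈ zspanOn S₁ ({1}ᶜ : Set L) := by
    rw [zspanOn_one]
    refine ⟨zspan_sub (zspan_mem hφ) (zspan_mem hφc), ?_⟩
    exact (zspanOn_one.1 (sys_conj_sub_mem hS hφS)).2
  have h1 : classInner (τ₁ φ) (τ (φ - conjFun φ)) = n := by
    rw [← h₁.2 _ hmem, h₁.inner (zspan_mem hφ) hmem.1, classInner_sub_right,
      sys_orth_conj hS hφS, hn, sub_zero]
  obtain ⟨k, hk, hle, hsum⟩ := sys_proj hS hφS hn (h₁.gen (zspan_mem hφ)) h1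
  apply sys_R_eq hS hφS
  apply le_antisymm (sys_R_card_bessel hS hφS _)
  rw [h₁.inner (zspan_mem hφ) (zspan_mem hφ), hn, Complex.natCast_re]
  have h2 : ∑ α ∈ R φ, ‖classInner (τ₁ φ) α‖ ^ 2 = ((∑ α ∈ R φ, k α ^ 2 : ℤ) : ℝ) := by
    push_cast
    refine Finset.sum_congr rfl fun α hα => ?_
    rw [hk α hα, Complex.norm_intCast, sq_abs]
  rw [h2]
  exact_mod_cast hle

theorem coh_orth (hS : IsCoherenceSystem S τ R) {S₁ : Set (L → ℂ)} (hS₁ : S₁ ⊆ S)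
    {τ₁ : (L → ℂ) → (G → ℂ)} (h₁ : CohMap S₁ τ τ₁) {φ : L → ℂ} (hφ : φ ∈ S₁)
    (hφc : conjFun φ ∈ S₁) {χ : L → ℂ} (hχ : χ ∈ S) (hχ1 : χ ≠ φ) (hχ2 : conjFun χ ≠ φ) :
    ∀ α ∈ R χ, classInner (τ₁ φ) α = 0 := by
  intro α hα
  have h1 : classInner φ χ = 0 := hS.orthogonal φ (hS₁ hφ) χ hχ hχ1.symm
  have h2 : classInner φ (conjFun χ) = 0 :=
    hS.orthogonal φ (hS₁ hφ) _ (hS.conj_mem χ hχ) hχ2.symm
  rw [coh_mem_span hS hS₁ h₁ hφ hφc, classInner_sum_left]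
  refine Finset.sum_eq_zero fun β hβ => ?_
  rw [classInner_smul_left, hS.disjoint χ hχ φ (hS₁ hφ) h1 h2 β hβ α hα, mul_zero]

end system

section extension

variable {τ : (L → ℂ) → (G → ℂ)}

/-- the key computation of inner products -/
theorem ext_inner {S₁ : Set (L → ℂ)} {τ₁ : (L → ℂ) → (G → ℂ)} (h₁ : CohMap S₁ τ τ₁)
    {χ χ₁ : L → ℂ} (hτ : IsLinearIsometryOn (zspanOn (Insert.insert χ S₁) ({1}ᶜ : Set L)) τ)
    (hχ : ∀ φ ∈ S₁, classInner χ φ = 0) (hχ₁ : χ₁ ∈ S₁)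
    (horth : ∀ φ ∈ S₁, φ ≠ χ₁ → classInner χ₁ φ = 0) {a : ℕ} {d : (L → ℂ) → ℕ}
    (hd : ∀ φ ∈ S₁, φ 1 = d φ) (ha : χ 1 = a * χ₁ 1) {n₁ : ℕ} (hn₁ : classInner χ₁ χ₁ = n₁)
    {b : ℤ} (hb : classInner (τ (χ - (a : ℤ) • χ₁)) (τ₁ χ₁) = b - a * n₁) {φ : L → ℂ}
    (hφ : φ ∈ S₁) (hne : φ ≠ χ₁) :
    (d χ₁ : ℂ) * classInner (τ (χ - (a : ℤ) • χ₁)) (τ₁ φ) = d φ * b := by
  have hsub : S₁ ⊆ Insert.insert χ S₁ := Set.subset_insert χ S₁
  have hmem : χ - (a : ℤ) • χ₁ ∈ zspanOn (Insert.insert χ S₁) ({1}ᶜ : Set L) := by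
    rw [zspanOn_one]
    refine ⟨zspan_sub (zspan_mem (Set.mem_insert χ S₁)) (zspan_smul _ (zspan_mem (hsub hχ₁))), ?_⟩
    rw [Pi.sub_apply, zsmul_eq_smul, Pi.smul_apply, ha, smul_eq_mul]; simp
  have hmem' : (d χ₁ : ℤ) • φ - (d φ : ℤ) • χ₁ ∈ zspanOn S₁ ({1}ᶜ : Set L) := by
    rw [zspanOn_one]
    refine ⟨zspan_sub (zspan_smul _ (zspan_mem hφ)) (zspan_smul _ (zspan_mem hχ₁)), ?_⟩
    rw [Pi.sub_apply, zsmul_eq_smul, zsmul_eq_smul, Pi.smul_apply, Pi.smul_apply, hd φ hφ,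
      hd χ₁ hχ₁]
    simp [mul_comm]
  have h1 := hτ.2.2.1 _ hmem _ (zspanOn_mono hsub hmem')
  rw [← h₁.2 _ hmem', h₁.sub (zspan_smul _ (zspan_mem hφ)) (zspan_smul _ (zspan_mem hχ₁)),
    h₁.smul _ (zspan_mem hφ), h₁.smul _ (zspan_mem hχ₁), classInner_sub_right,
    classInner_zsmul_right, classInner_zsmul_right, hb] at h1
  have h2 : classInner (χ - (a : ℤ) • χ₁) ((d χ₁ : ℤ) • φ - (d φ : ℤ) • χ₁) =
      (a : ℂ) * d φ * n₁ := by
    simp only [classInner_sub_left, classInner_sub_right, classInner_zsmul_left,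
      classInner_zsmul_right, hχ φ hφ, hχ χ₁ hχ₁, horth φ hφ hne, hn₁]
    push_cast; ring
  rw [h2] at h1
  push_cast at h1
  linear_combination h1

end extension

end Cfsg.Agent.H3
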