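import Cfsg.Agent.H3.CohC

/-!
# Coherence: adding characters (PF 5.6 and Feit's version) (helper3)
-/

set_option autoImplicit false
set_option linter.style.haveILetI false
set_option linter.unusedSimpArgs false
set_option linter.unusedSectionVars false
set_option linter.unusedVariables false
open Cfsg
open scoped ComplexConjugate

namespace Cfsg.Agent.H3

universe u v w

variable {L : Type u} [Group L] [Fintype L] {G : Type v} [Group G] [Fintype G]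
variable {τ : (L → ℂ) → (G → ℂ)}

/-- the sum of the squares of the normalised inner products -/
theorem ext_sum [DecidableEq (L → ℂ)] {S₁ : Finset (L → ℂ)} {τ₁ : (L → ℂ) → (G → ℂ)} {χ₁ : L → ℂ}
    (hχ₁ : χ₁ ∈ S₁) {d n : (L → ℂ) → ℕ} (hn0 : ∀ φ ∈ S₁, n φ ≠ 0) (hd0 : d χ₁ ≠ 0) {a : ℕ}
    {b : ℤ} {β : G → ℂ} (hb : classInner β (τ₁ χ₁) = b - a * n χ₁)
    (h : ∀ φ ∈ S₁, φ ≠ χ₁ → (d χ₁ : ℂ) * classInner β (τ₁ φ) = d φ * b) :
    ∑ φ ∈ S₁, ‖classInner β (τ₁ φ)‖ ^ 2 / (n φ : ℝ) =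
      (b : ℝ) ^ 2 * (∑ φ ∈ S₁, (d φ : ℝ) ^ 2 / n φ) / (d χ₁ : ℝ) ^ 2 - 2 * a * b +
        (a : ℝ) ^ 2 * n χ₁ := by
  have hd0' : (d χ₁ : ℝ) ≠ 0 := by exact_mod_cast hd0
  have hd0'' : (d χ₁ : ℂ) ≠ 0 := by exact_mod_cast hd0
  have hn1 : (n χ₁ : ℝ) ≠ 0 := by exact_mod_cast hn0 χ₁ hχ₁
  rw [← Finset.add_sum_erase _ _ hχ₁, ← Finset.add_sum_erase _ (fun φ => (d φ : ℝ) ^ 2 / n φ) hχ₁]
  have h1 : ‖classInner β (τ₁ χ₁)‖ ^ 2 = ((b : ℝ) - a * n χ₁) ^ 2 := by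
    rw [hb]
    have : ((b : ℂ) - a * n χ₁) = (((b : ℝ) - a * n χ₁ : ℝ) : ℂ) := by push_cast; ring
    rw [this, Complex.norm_real, Real.norm_eq_abs, sq_abs]
  have h2 : ∑ φ ∈ S₁.erase χ₁, ‖classInner β (τ₁ φ)‖ ^ 2 / (n φ : ℝ) =
      (b : ℝ) ^ 2 * (∑ φ ∈ S₁.erase χ₁, (d φ : ℝ) ^ 2 / n φ) / (d χ₁ : ℝ) ^ 2 := by
    rw [Finset.mul_sum, Finset.sum_div]
    refine Finset.sum_congr rfl fun φ hφ => ?_
    obtain ⟨hne, hφ⟩ := Finset.mem_erase.1 hφ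
    have h3 := h φ hφ hne
    have h4 : classInner β (τ₁ φ) = (((d φ : ℝ) * b / d χ₁ : ℝ) : ℂ) := by
      push_cast
      rw [eq_div_iff hd0'', mul_comm, h3]
    have h5 : (n φ : ℝ) ≠ 0 := by exact_mod_cast hn0 φ hφ
    rw [h4, Complex.norm_real, Real.norm_eq_abs, sq_abs]
    field_simp
  rw [h1, h2]
  field_simp
  ring

/-- **PF 5.6** -/
theorem pf56 {S : Set (L → ℂ)} {R : (L → ℂ) → Finset (G → ℂ)} (hS : IsCoherenceSystem S τ R)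
    {d n : (L → ℂ) → ℕ} (hd : ∀ φ ∈ S, φ 1 = (d φ : ℂ))
    (hn : ∀ φ ∈ S, classInner φ φ = (n φ : ℂ)) (S₁ : Finset (L → ℂ))
    (hS₁ : (↑S₁ : Set (L → ℂ)) ⊆ S) (hS₁c : ∀ φ ∈ S₁, conjFun φ ∈ S₁)
    {τ₁ : (L → ℂ) → (G → ℂ)} (h₁ : CohMap (↑S₁ : Set (L → ℂ)) τ τ₁) {χ : L → ℂ} (hχ : χ ∈ S)
    (hχ₁ : χ ∉ S₁) (hχ₂ : conjFun χ ∉ S₁) {χ₁ : L → ℂ} (hχ₁S : χ₁ ∈ S₁)
    (hdvd : d χ₁ ∣ d χ)
    (hineq : (2 * d χ * d χ₁ : ℝ) < ∑ φ ∈ S₁, ((d φ : ℝ) ^ 2 / (n φ : ℝ))) :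
    ∃ τ₂, CohMap (↑S₁ ∪ {χ, conjFun χ} : Set (L → ℂ)) τ τ₂ ∧ ∀ α ∈ zspan (↑S₁ : Set (L → ℂ)),
      τ₂ α = τ₁ α := by
  classical
  obtain ⟨a, ha⟩ := hdvd
  have hn0 : ∀ φ ∈ S, n φ ≠ 0 := by
    intro φ hφ h0
    obtain ⟨m, hm0, hm, -⟩ := sys_norm hS hφ
    rw [hn φ hφ, h0] at hm
    have : m = 0 := by exact_mod_cast hm.symm
    omega
  have hd0 : ∀ φ ∈ S, d φ ≠ 0 := by
    intro φ hφ h0
    obtain ⟨m, hm, hm1⟩ := char_ne_zero_pos (hS.isCharacter φ hφ) (sys_ne_zero hS hφ)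
    rw [hd φ hφ, h0] at hm1
    have : m = 0 := by exact_mod_cast hm1.symm
    omega
  have hχ₁' : χ₁ ∈ S := hS₁ hχ₁S
  have ha1 : χ 1 = a * χ₁ 1 := by
    rw [hd χ hχ, hd χ₁ hχ₁', ha]; push_cast; ring
  have hne : ∀ φ ∈ S₁, χ ≠ φ := fun φ hφ h => hχ₁ (h ▸ hφ)
  have hne' : ∀ φ ∈ S₁, conjFun χ ≠ φ := fun φ hφ h => hχ₂ (h ▸ hφ)
  have hχS₁ : ∀ φ ∈ (↑S₁ : Set (L → ℂ)), classInner χ φ = 0 := fun φ hφ =>
    hS.orthogonal χ hχ φ (hS₁ hφ) (hne φ hφ)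
  have hτS : ∀ T : Set (L → ℂ), T ⊆ S → IsLinearIsometryOn (zspanOn T ({1}ᶜ : Set L)) τ :=
    fun T hT => iso_mono hS.isometry (fun α hα => zspanOn_mono hT hα)
  have hins : Insert.insert χ (↑S₁ : Set (L → ℂ)) ⊆ S := Set.insert_subset hχ hS₁
  have hmem : χ - (a : ℤ) • χ₁ ∈ zspanOn S ({1}ᶜ : Set L) := by
    rw [zspanOn_one]
    refine ⟨zspan_sub (zspan_mem hχ) (zspan_smul _ (zspan_mem hχ₁')), ?_⟩
    rw [Pi.sub_apply, zsmul_eq_smul, Pi.smul_apply, ha1, smul_eq_mul]; simp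
  set β : G → ℂ := τ (χ - (a : ℤ) • χ₁) with hβ
  have hβgen : IsGeneralizedCharacter G β := hS.isometry.2.2.2 _ hmem
  have hβn : classInner β β = n χ + (a : ℂ) ^ 2 * n χ₁ := by
    rw [hβ, hS.isometry.2.2.1 _ hmem _ hmem]
    have h1 : classInner χ₁ χ = 0 := by
      rw [← classInner_conj_symm, hχS₁ χ₁ hχ₁S, map_zero]
    simp only [classInner_sub_left, classInner_sub_right, classInner_zsmul_left,
      classInner_zsmul_right, hχS₁ χ₁ hχ₁S, h1, hn χ hχ, hn χ₁ hχ₁']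
    push_cast; ring
  -- the projection on `R χ`
  have hcsub := sys_conj_sub_mem hS hχ
  have hβc : classInner β (τ (χ - conjFun χ)) = n χ := by
    rw [hβ, hS.isometry.2.2.1 _ hmem _ hcsub]
    have h1 : classInner χ₁ χ = 0 := by
      rw [← classInner_conj_symm, hχS₁ χ₁ hχ₁S, map_zero]
    have h2 : classInner χ₁ (conjFun χ) = 0 :=
      hS.orthogonal χ₁ hχ₁' _ (hS.conj_mem χ hχ) (hne' χ₁ hχ₁S).symm
    simp only [classInner_sub_left, classInner_sub_right, classInner_zsmul_left,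
      classInner_zsmul_right, h1, h2, hn χ hχ, sys_orth_conj hS hχ]
    ring
  obtain ⟨k, hk, hkle, hksum⟩ := sys_proj hS hχ (hn χ hχ) hβgen hβc
  -- `τ₁ φ` is orthogonal to `R χ`
  have horthR : ∀ φ ∈ S₁, ∀ α ∈ R χ, classInner (τ₁ φ) α = 0 := fun φ hφ α hα =>
    coh_orth hS hS₁ h₁ hφ (hS₁c φ hφ) hχ (hne φ hφ) (hne' φ hφ) α hα
  -- the number `b`
  obtain ⟨m₁, hm₁⟩ := classInner_gen_int hβgen (h₁.gen (zspan_mem hχ₁S))
  have hb : classInner β (τ₁ χ₁) = ((m₁ + a * n χ₁ : ℤ) : ℂ) - a * n χ₁ := by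
    rw [hm₁]; push_cast; ring
  set b : ℤ := m₁ + a * n χ₁ with hbdef
  have hinner : ∀ φ ∈ S₁, φ ≠ χ₁ → (d χ₁ : ℂ) * classInner β (τ₁ φ) = d φ * b := by
    intro φ hφ hφne
    exact ext_inner h₁ (hτS _ hins) hχS₁ hχ₁S (fun ψ hψ hψne =>
      hS.orthogonal χ₁ hχ₁' ψ (hS₁ hψ) hψne.symm) (fun ψ hψ => hd ψ (hS₁ hψ)) ha1 (hn χ₁ hχ₁') hb
      hφ hφne
  have hsum := ext_sum (τ₁ := τ₁) hχ₁S (fun φ hφ => hn0 φ (hS₁ hφ)) (hd0 χ₁ hχ₁') hb hinner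
  -- Bessel
  let P : G → ℂ := ∑ α ∈ R χ, (classInner β α / ((1 : ℝ) : ℂ)) • α
  have hP1 : classInner (β - P) (β - P) =
      classInner β β - ((∑ α ∈ R χ, ‖classInner β α‖ ^ 2 / 1 : ℝ) : ℂ) :=
    bessel_eq (R χ) (fun α => α) (fun _ => (1 : ℝ)) (fun _ _ => one_ne_zero)
      (fun α hα α' hα' => by rw [hS.orthonormal χ hχ α hα α' hα']; simp) β
  have hP2 : ∀ φ ∈ S₁, classInner (β - P) (τ₁ φ) = classInner β (τ₁ φ) := by
    intro φ hφ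
    rw [classInner_sub_left, classInner_sum_left, Finset.sum_eq_zero, sub_zero]
    intro α hα
    rw [classInner_smul_left, ← classInner_conj_symm (τ₁ φ) α, horthR φ hφ α hα]; simp
  have hbes := bessel_le S₁ τ₁ (fun φ => (n φ : ℝ)) (fun φ hφ => by
    exact_mod_cast hn0 φ (hS₁ hφ)) (fun φ hφ ψ hψ => by
      rw [h₁.inner (zspan_mem hφ) (zspan_mem hψ)]
      by_cases h : φ = ψ
      · subst h
        rw [if_pos rfl, hn φ (hS₁ hφ)]; simp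
      · rw [if_neg h, hS.orthogonal φ (hS₁ hφ) ψ (hS₁ hψ) h]) (β - P)
  rw [Finset.sum_congr rfl (fun φ hφ => by rw [hP2 φ hφ]), hsum, hP1, hβn] at hbes
  have hksq : ∑ α ∈ R χ, ‖classInner β α‖ ^ 2 / (1 : ℝ) = ((∑ α ∈ R χ, k α ^ 2 : ℤ) : ℝ) := by
    push_cast
    refine Finset.sum_congr rfl fun α hα => ?_
    rw [hk α hα, Complex.norm_intCast, sq_abs, div_one]
  have hre : ((n χ : ℂ) + (a : ℂ) ^ 2 * n χ₁ -
      ((∑ α ∈ R χ, ‖classInner β α‖ ^ 2 / (1 : ℝ) : ℝ) : ℂ)).re =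
      n χ + (a : ℝ) ^ 2 * n χ₁ - ((∑ α ∈ R χ, k α ^ 2 : ℤ) : ℝ) := by
    rw [hksq]
    have : ((n χ : ℂ) + (a : ℂ) ^ 2 * n χ₁ - (((∑ α ∈ R χ, k α ^ 2 : ℤ) : ℝ) : ℂ)) =
        ((n χ + (a : ℝ) ^ 2 * n χ₁ - ((∑ α ∈ R χ, k α ^ 2 : ℤ) : ℝ) : ℝ) : ℂ) := by
      push_cast; ring
    rw [this, Complex.ofReal_re]
  rw [hre] at hbes
  have hkle' : (n χ : ℝ) ≤ ((∑ α ∈ R χ, k α ^ 2 : ℤ) : ℝ) := by exact_mod_cast hkle
  set N : ℝ := ∑ φ ∈ S₁, (d φ : ℝ) ^ 2 / n φ with hN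
  have hd1 : (0 : ℝ) < d χ₁ := by exact_mod_cast Nat.pos_of_ne_zero (hd0 χ₁ hχ₁')
  have hineq' : 2 * (a : ℝ) * (d χ₁ : ℝ) ^ 2 < N := by
    have : (d χ : ℝ) = d χ₁ * a := by rw [ha]; push_cast; rfl
    rw [this] at hineq
    linarith [hineq]
  have hb0 : b = 0 := by
    by_contra hbne
    have h1 : (b : ℝ) ^ 2 * N / (d χ₁ : ℝ) ^ 2 - 2 * a * b ≤ 0 := by linarith
    have h2 : (b : ℝ) ^ 2 * (2 * a) < (b : ℝ) ^ 2 * N / (d χ₁ : ℝ) ^ 2 := by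
      rw [lt_div_iff₀ (by positivity), mul_assoc]
      have hbsq : (0 : ℝ) < (b : ℝ) ^ 2 := by
        have : (b : ℝ) ≠ 0 := by exact_mod_cast hbne
        positivity
      exact mul_lt_mul_of_pos_left hineq' hbsq
    have h3 : (b : ℝ) ≤ (b : ℝ) ^ 2 := by exact_mod_cast Int.le_self_sq b
    have h4 : (0 : ℝ) ≤ 2 * a := by positivity
    have h5 := mul_le_mul_of_nonneg_left h3 h4
    linarith
  -- first extension
  have hβ1 : classInner β (τ₁ χ₁) = -(a * n χ₁ : ℂ) := by rw [hb, hb0]; push_cast; ring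
  have hβ1' : classInner (τ₁ χ₁) β = -(a * n χ₁ : ℂ) := by
    rw [← classInner_conj_symm, hβ1]; simp
  have hβφ : ∀ φ ∈ S₁, φ ≠ χ₁ → classInner β (τ₁ φ) = 0 := by
    intro φ hφ hφne
    have h1 := hinner φ hφ hφne
    rw [hb0, Int.cast_zero, mul_zero] at h1
    exact (mul_eq_zero.1 h1).resolve_left (by exact_mod_cast hd0 χ₁ hχ₁')
  have hτ₁n : classInner (τ₁ χ₁) (τ₁ χ₁) = n χ₁ := by
    rw [h₁.inner (zspan_mem hχ₁S) (zspan_mem hχ₁S), hn χ₁ hχ₁']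
  set X : G → ℂ := β + (a : ℤ) • τ₁ χ₁ with hX
  have hXS : ∀ φ ∈ (↑S₁ : Set (L → ℂ)), classInner X (τ₁ φ) = 0 := by
    intro φ hφ
    rw [hX, classInner_add_left, classInner_zsmul_left]
    by_cases h : φ = χ₁
    · subst h
      rw [hβ1, hτ₁n]; push_cast; ring
    · rw [hβφ φ hφ h, h₁.inner (zspan_mem hχ₁S) (zspan_mem hφ),
        hS.orthogonal χ₁ hχ₁' φ (hS₁ hφ) (fun h' => h h'.symm)]
      simp
  have hXn : classInner X X = classInner χ χ := by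
    rw [hX]
    simp only [classInner_add_left, classInner_add_right, classInner_zsmul_left,
      classInner_zsmul_right, hβn, hβ1, hβ1', hτ₁n, hn χ hχ]
    push_cast; ring
  obtain ⟨τ₂, h₂, h21, h2χ⟩ := h₁.insert (hτS _ hins) hχS₁ (by
    rw [hn χ hχ]; exact_mod_cast hn0 χ hχ) hχ₁S (a := (a : ℤ)) (by rw [ha1]; simp) (X := X) hX
    hXS hXn
  -- second extension
  set χc := conjFun χ with hχc
  have hχcS : χc ∈ S := hS.conj_mem χ hχ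
  let S₂ : Set (L → ℂ) := Insert.insert χ (↑S₁ : Set (L → ℂ))
  have hins2 : Insert.insert χc S₂ ⊆ S := Set.insert_subset hχcS hins
  have hχcS₂ : ∀ φ ∈ S₂, classInner χc φ = 0 := by
    intro φ hφ
    apply hS.orthogonal χc hχcS φ (hins hφ)
    rcases hφ with rfl | hφ
    · exact hS.conj_ne φ hχ
    · exact hne' φ hφ
  have hχcn : classInner χc χc = n χ := by
    rw [hχc, classInner_conjFun, hn χ hχ]; simp
  have hχc1 : χc 1 = ((a : ℤ) : ℂ) * χ₁ 1 := by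
    show conj (χ 1) = _
    rw [hd χ hχ, hd χ₁ hχ₁', ha]; simp [mul_comm]
  have hmemc : χc - (a : ℤ) • χ₁ ∈ zspanOn S ({1}ᶜ : Set L) := by
    rw [zspanOn_one]
    refine ⟨zspan_sub (zspan_mem hχcS) (zspan_smul _ (zspan_mem hχ₁')), ?_⟩
    rw [Pi.sub_apply, zsmul_eq_smul, Pi.smul_apply, hχc1, smul_eq_mul]; simp
  have hτc : τ (χc - (a : ℤ) • χ₁) = β - τ (χ - χc) := by
    have h1 : χc - (a : ℤ) • χ₁ = (χ - (a : ℤ) • χ₁) - (χ - χc) := by abel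
    rw [h1, iso_sub (E := zOn S ({1}ᶜ : Set L)) hS.isometry hmem hcsub]
  set X' : G → ℂ := τ (χc - (a : ℤ) • χ₁) + (a : ℤ) • τ₂ χ₁ with hX'
  have hX'X : X' = X - τ (χ - χc) := by
    rw [hX', hτc, h21 χ₁ (zspan_mem hχ₁S), hX]; abel
  have hDφ : ∀ φ ∈ S₁, classInner (τ (χ - χc)) (τ₁ φ) = 0 := by
    intro φ hφ
    rw [hS.sum_eq χ hχ, classInner_sum_left]
    refine Finset.sum_eq_zero fun α hα => ?_
    rw [← classInner_conj_symm, horthR φ hφ α hα, map_zero]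
  have hXD : classInner X (τ (χ - χc)) = n χ := by
    rw [hX, classInner_add_left, hβc, classInner_zsmul_left, ← classInner_conj_symm
      (τ (χ - χc)) (τ₁ χ₁), hDφ χ₁ hχ₁S]; simp
  have hDX : classInner (τ (χ - χc)) X = n χ := by
    rw [← classInner_conj_symm, hXD]; simp
  have hDD : classInner (τ (χ - χc)) (τ (χ - χc)) = 2 * n χ := by
    rw [hS.isometry.2.2.1 _ hcsub _ hcsub]
    have h1 : classInner χ χc = 0 := sys_orth_conj hS hχ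
    have h2 : classInner χc χ = 0 := by rw [← classInner_conj_symm, h1, map_zero]
    simp only [classInner_sub_left, classInner_sub_right, h1, h2, hn χ hχ, hχcn]
    ring
  obtain ⟨τ₃, h₃, h32, -⟩ := h₂.insert (χ := χc) (χ₁ := χ₁) (hτS _ hins2) hχcS₂ (by
    rw [hχcn]; exact_mod_cast hn0 χ hχ) (Set.mem_insert_of_mem _ hχ₁S) (a := (a : ℤ)) hχc1
    (X := X') hX' (by
      intro φ hφ
      rw [hX'X, classInner_sub_left]
      rcases hφ with rfl | hφ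
      · rw [h2χ, hXn, hDX, hn φ hχ, sub_self]
      · rw [h21 φ (zspan_mem hφ), hXS φ hφ, hDφ φ hφ, sub_zero]) (by
      rw [hX'X]
      simp only [classInner_sub_left, classInner_sub_right, hXn, hXD, hDX, hDD, hχcn, hn χ hχ]
      ring)
  refine ⟨τ₃, h₃.mono ?_, ?_⟩
  · rintro φ (hφ | hφ | hφ)
    · exact Set.mem_insert_of_mem _ (Set.mem_insert_of_mem _ hφ)
    · rw [hφ]; exact Set.mem_insert_of_mem _ (Set.mem_insert _ _)
    · rw [hφ]; exact Set.mem_insert _ _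
  · intro α hα
    rw [h32 α (zspan_mono (Set.subset_insert _ _) hα), h21 α hα]

end Cfsg.Agent.H3
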