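import Cfsg.Agent.H3.CohD

/-!
# Coherence: equal degrees, Feit's extension, gluing (helper3)
-/

set_option autoImplicit false
set_option linter.style.haveILetI false
set_option linter.unusedSimpArgs false
set_option linter.unusedSectionVars false
set_option linter.unusedVariables false
open Cfsg
open scoped ComplexConjugate

namespace Cfsg.Agent.H3

universe u v w

variable {L : Type u} [Group L] [Fintype L] {G : Type v} [Group G] [Fintype G]
variable {τ : (L → ℂ) → (G → ℂ)}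

theorem CohMap.isCoherent {S : Set (L → ℂ)} {τ₁ : (L → ℂ) → (G → ℂ)} (h : CohMap S τ τ₁)
    (hne : ∃ α ∈ zspanOn S ({1}ᶜ : Set L), α ≠ 0) : IsCoherent S ({1}ᶜ : Set L) τ :=
  ⟨hne, τ₁, h.1, h.2⟩

theorem isCoherent_cohMap {S : Set (L → ℂ)} (h : IsCoherent S ({1}ᶜ : Set L) τ) :
    ∃ τ₁, CohMap S τ τ₁ := by
  obtain ⟨-, τ₁, h1, h2⟩ := h
  exact ⟨τ₁, h1, h2⟩

theorem sys_nonzero {S T : Set (L → ℂ)} {R : (L → ℂ) → Finset (G → ℂ)}
    (hS : IsCoherenceSystem S τ R) (hTS : T ⊆ S) {χ : L → ℂ} (hχ : χ ∈ T)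
    (hχc : conjFun χ ∈ T) : ∃ α ∈ zspanOn T ({1}ᶜ : Set L), α ≠ 0 := by
  refine ⟨χ - conjFun χ, ?_, ?_⟩
  · rw [zspanOn_one]
    exact ⟨zspan_sub (zspan_mem hχ) (zspan_mem hχc),
      (zspanOn_one.1 (sys_conj_sub_mem hS (hTS hχ))).2⟩
  · intro h
    exact hS.conj_ne χ (hTS hχ) (sub_eq_zero.1 h).symm

/-- virtual characters of norm one which have proportional values at `1` have the same sign -/
theorem coh_sign {S : Set (L → ℂ)} (hirr : ∀ χ ∈ S, IsIrrCharacter L χ)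
    (htwo : ∃ χ ∈ S, ∃ ψ ∈ S, χ ≠ ψ) {τ₁ : (L → ℂ) → (G → ℂ)}
    (hτ₁ : IsLinearIsometryOn (zspan S) τ₁) (h0 : ∀ α ∈ zspan S, α 1 = 0 → τ₁ α 1 = 0) :
    ∃ ε : ℂ, (ε = 1 ∨ ε = -1) ∧ (∀ χ ∈ S, IsIrrCharacter G (ε • τ₁ χ)) ∧
      (∀ χ ∈ S, ∀ ψ ∈ S, τ₁ χ = τ₁ ψ → χ = ψ) := by
  have hτ' : IsLinearIsometryOn ((Submodule.span ℤ S : Submodule ℤ (L → ℂ)) : Set (L → ℂ)) τ₁ :=
    hτ₁
  have hs : ∀ χ ∈ S, SIrr (τ₁ χ) := fun χ hχ =>
    sIrr_of_norm (hτ₁.2.2.2 χ (zspan_mem hχ)) (by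
      rw [hτ₁.2.2.1 χ (zspan_mem hχ) χ (zspan_mem hχ), classInner_self_of_irr (hirr χ hχ)])
  have hdeg : ∀ χ ∈ S, ∀ ψ ∈ S, ψ 1 * τ₁ χ 1 = χ 1 * τ₁ ψ 1 := by
    intro χ hχ ψ hψ
    obtain ⟨n, hn⟩ := char_one_eq_nat (irr_isChar (hirr χ hχ))
    obtain ⟨m, hm⟩ := char_one_eq_nat (irr_isChar (hirr ψ hψ))
    have h1 := h0 ((m : ℤ) • χ - (n : ℤ) • ψ)
      (zspan_sub (zspan_smul _ (zspan_mem hχ)) (zspan_smul _ (zspan_mem hψ))) (by
        rw [Pi.sub_apply, zsmul_eq_smul, zsmul_eq_smul, Pi.smul_apply, Pi.smul_apply, hn, hm]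
        simp [mul_comm])
    rw [iso_sub hτ' ((Submodule.span ℤ S).smul_mem _ (zspan_mem hχ))
      ((Submodule.span ℤ S).smul_mem _ (zspan_mem hψ)), hτ₁.2.1 χ (zspan_mem hχ),
      hτ₁.2.1 ψ (zspan_mem hψ), Pi.sub_apply, zsmul_eq_smul, zsmul_eq_smul, Pi.smul_apply,
      Pi.smul_apply, smul_eq_mul, smul_eq_mul] at h1
    rw [hn, hm]
    push_cast at h1
    linear_combination h1
  obtain ⟨χ₀, hχ₀, ψ₀, hψ₀, hne₀⟩ := htwo
  have hinj : ∀ χ ∈ S, ∀ ψ ∈ S, τ₁ χ = τ₁ ψ → χ = ψ := by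
    intro χ hχ ψ hψ h
    by_contra hne
    have h1 := hτ₁.2.2.1 χ (zspan_mem hχ) ψ (zspan_mem hψ)
    rw [← h, (hs χ hχ).norm, classInner_of_irr_ne (hirr χ hχ) (hirr ψ hψ) hne] at h1
    exact one_ne_zero h1
  -- all signs agree
  have hsign : ∀ ε : ℂ, (ε = 1 ∨ ε = -1) → IsIrrCharacter G (ε • τ₁ χ₀) →
      ∀ χ ∈ S, IsIrrCharacter G (ε • τ₁ χ) := by
    intro ε hε h χ hχ
    have h1 : SIrr (ε • τ₁ χ) := by
      rcases hε with rfl | rfl
      · rw [one_smul]; exact hs χ hχ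
      · rw [neg_one_smul]; exact (hs χ hχ).neg
    rcases h1 with h1 | h1
    · exact h1
    · exfalso
      obtain ⟨n, hn0, hn⟩ := irr_one_eq_nat (hirr χ hχ)
      obtain ⟨m, hm0, hm⟩ := irr_one_eq_nat (hirr χ₀ hχ₀)
      obtain ⟨a, ha0, ha⟩ := irr_one_eq_nat h
      obtain ⟨c, hc0, hc⟩ := irr_one_eq_nat h1
      have h2 := hdeg χ hχ χ₀ hχ₀
      rw [hn, hm] at h2
      rw [Pi.smul_apply, smul_eq_mul] at ha
      rw [Pi.neg_apply, Pi.smul_apply, smul_eq_mul] at hc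
      have h3 : (m : ℂ) * -c = n * a := by
        rw [← ha, ← hc]; linear_combination ε * h2
      have h4 : (((m * c + n * a : ℕ)) : ℂ) = 0 := by push_cast; linear_combination -h3
      have h5 : m * c + n * a = 0 := by exact_mod_cast h4
      have h6 : 0 < m * c := Nat.mul_pos hm0 hc0
      omega
  rcases hs χ₀ hχ₀ with h | h
  · exact ⟨1, Or.inl rfl, hsign 1 (Or.inl rfl) (by rwa [one_smul]), hinj⟩
  · exact ⟨-1, Or.inr rfl, hsign (-1) (Or.inr rfl) (by rwa [neg_one_smul]), hinj⟩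

/-- arithmetic of signed irreducible characters -/
theorem signed_orth {α β γ δ : G → ℂ} (hα : SIrr α) (hβ : SIrr β) (hγ : SIrr γ) (hδ : SIrr δ)
    {u v : ℝ} (hu : u ≠ 0) (hv : v ≠ 0) (hab : classInner α β = 0) (hcd : classInner γ δ = 0)
    (hmix : classInner (α - β) ((u : ℂ) • γ - (v : ℂ) • δ) = 0) (h1 : α 1 = β 1)
    (h2 : (u : ℂ) * γ 1 = (v : ℂ) * δ 1) : classInner α γ = 0 := by
  have hu' : (u : ℂ) ≠ 0 := by exact_mod_cast hu
  have hv' : (v : ℂ) ≠ 0 := by exact_mod_cast hv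
  rcases hα.dichotomy hγ with h | ⟨s, hs, rfl⟩
  · exact h
  · exfalso
    have hs2 : (s : ℂ) * s = 1 := by rcases hs with rfl | rfl <;> simp
    have hsne : (s : ℂ) ≠ 0 := fun h => by rw [h] at hs2; simp at hs2
    rw [classInner_smul_left] at hab
    have hγβ : classInner γ β = 0 := (mul_eq_zero.1 hab).resolve_left hsne
    have hβγ : classInner β γ = 0 := by rw [← classInner_conj_symm, hγβ, map_zero]
    simp only [classInner_sub_left, classInner_sub_right, classInner_smul_left,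
      classInner_smul_right, Complex.conj_ofReal, hγ.norm, hcd, hβγ] at hmix
    rcases hβ.dichotomy hδ with h | ⟨t, ht, rfl⟩
    · rw [h] at hmix
      have : (u : ℂ) * s = 0 := by linear_combination hmix
      exact mul_ne_zero hu' hsne this
    · have ht2 : (t : ℂ) * t = 1 := by rcases ht with rfl | rfl <;> simp
      rw [classInner_smul_left, hδ.norm] at hmix
      -- `u s + v t = 0` and `u γ 1 = v δ 1`, `s γ 1 = t δ 1`
      have h3 : (u : ℂ) * s + v * t = 0 := by linear_combination hmix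
      simp only [Pi.smul_apply, smul_eq_mul] at h1
      have hγ1 := hγ.one_ne_zero
      have h7 : δ 1 = t * s * γ 1 := by
        calc δ 1 = (t * t : ℂ) * δ 1 := by rw [ht2, one_mul]
          _ = t * (t * δ 1) := by ring
          _ = t * s * γ 1 := by rw [← h1]; ring
      have h8 : (u : ℂ) = v * (t * s) := by
        apply mul_right_cancel₀ hγ1
        rw [h2, h7]; ring
      have h9 : (v : ℂ) * t * (s * s + 1) = 0 := by
        rw [h8] at h3
        linear_combination h3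
      rw [hs2] at h9
      have htne : (t : ℂ) ≠ 0 := fun h => by rw [h] at ht2; simp at ht2
      have h10 := mul_ne_zero (mul_ne_zero hv' htne) (by norm_num : (1 + 1 : ℂ) ≠ 0)
      exact h10 h9

end Cfsg.Agent.H3
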