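import Cfsg.Agent.H3.CohE

/-!
# Coherence: Feit's extension (helper3)
-/

set_option autoImplicit false
set_option linter.style.haveILetI false
set_option linter.unusedSimpArgs false
set_option linter.unusedSectionVars false
set_option linter.unusedVariables false
open Cfsg
open scoped ComplexConjugate

namespace Cfsg.Agent.H3

universe u v w

variable {L : Type u} [Group L] [Fintype L] {G : Type v} [Group G] [Fintype G]
variable {τ : (L → ℂ) → (G → ℂ)}

/-- **Feit's extension** of a coherent set of irreducible characters by one character -/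
theorem feit_ext {S₀ : Finset (L → ℂ)} {χ : L → ℂ} (hirr : ∀ ξ ∈ S₀, IsIrrCharacter L ξ)
    (hχ : IsIrrCharacter L χ) (hχS : χ ∉ S₀) {d : (L → ℂ) → ℕ} (hdχ : χ 1 = d χ)
    (hd : ∀ ξ ∈ S₀, ξ 1 = (d ξ : ℂ))
    (hτ : IsLinearIsometryOn (zspanOn (Insert.insert χ (↑S₀ : Set (L → ℂ))) ({1}ᶜ : Set L)) τ)
    (hτ1 : ∀ α ∈ zspanOn (Insert.insert χ (↑S₀ : Set (L → ℂ))) ({1}ᶜ : Set L), τ α 1 = 0)
    {τ₁ : (L → ℂ) → (G → ℂ)} (h₁ : CohMap (↑S₀ : Set (L → ℂ)) τ τ₁) {ψ : L → ℂ}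
    (hψ : ψ ∈ S₀) (hdvd : d ψ ∣ d χ) (hlt : 2 * d ψ * d χ < ∑ ξ ∈ S₀, d ξ ^ 2) :
    ∃ τ₂, CohMap (Insert.insert χ (↑S₀ : Set (L → ℂ))) τ τ₂ ∧
      ∀ α ∈ zspan (↑S₀ : Set (L → ℂ)), τ₂ α = τ₁ α := by
  classical
  obtain ⟨a, ha⟩ := hdvd
  have hd0 : ∀ φ ∈ S₀, d φ ≠ 0 := by
    intro φ hφ h0
    have := irr_one_ne_zero (hirr φ hφ)
    rw [hd φ hφ, h0] at this
    simp at this
  have hdχ0 : d χ ≠ 0 := by
    intro h0
    have := irr_one_ne_zero hχ
    rw [hdχ, h0] at this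
    simp at this
  have ha0 : 1 ≤ a := by
    rcases Nat.eq_zero_or_pos a with h | h
    · rw [h, mul_zero] at ha; exact absurd ha hdχ0
    · exact h
  have ha1 : χ 1 = a * ψ 1 := by
    rw [hdχ, hd ψ hψ, ha]; push_cast; ring
  have hsub : (↑S₀ : Set (L → ℂ)) ⊆ Insert.insert χ (↑S₀ : Set (L → ℂ)) := Set.subset_insert _ _
  have hχS₁ : ∀ φ ∈ (↑S₀ : Set (L → ℂ)), classInner χ φ = 0 := fun φ hφ =>
    classInner_of_irr_ne hχ (hirr φ hφ) (fun h => hχS (h ▸ hφ))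
  have hψn : classInner ψ ψ = 1 := classInner_self_of_irr (hirr ψ hψ)
  have hmem : χ - (a : ℤ) • ψ ∈ zspanOn (Insert.insert χ (↑S₀ : Set (L → ℂ))) ({1}ᶜ : Set L) := by
    rw [zspanOn_one]
    refine ⟨zspan_sub (zspan_mem (Set.mem_insert _ _)) (zspan_smul _ (zspan_mem (hsub hψ))), ?_⟩
    rw [Pi.sub_apply, zsmul_eq_smul, Pi.smul_apply, ha1, smul_eq_mul]; simp
  set β : G → ℂ := τ (χ - (a : ℤ) • ψ) with hβ
  have hβgen : IsGeneralizedCharacter G β := hτ.2.2.2 _ hmem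
  have hβ0 : β 1 = 0 := hτ1 _ hmem
  have hβn : classInner β β = 1 + (a : ℂ) ^ 2 := by
    rw [hβ, hτ.2.2.1 _ hmem _ hmem]
    have h1 : classInner ψ χ = 0 := by
      rw [← classInner_conj_symm, hχS₁ ψ hψ, map_zero]
    simp only [classInner_sub_left, classInner_sub_right, classInner_zsmul_left,
      classInner_zsmul_right, hχS₁ ψ hψ, h1, hψn, classInner_self_of_irr hχ]
    push_cast; ring
  obtain ⟨m₁, hm₁⟩ := classInner_gen_int hβgen (h₁.gen (zspan_mem hψ))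
  let n : (L → ℂ) → ℕ := fun _ => 1
  have hb : classInner β (τ₁ ψ) = ((m₁ + a : ℤ) : ℂ) - a * n ψ := by
    rw [hm₁]; push_cast; ring
  set b : ℤ := m₁ + a with hbdef
  have hinner : ∀ φ ∈ S₀, φ ≠ ψ → (d ψ : ℂ) * classInner β (τ₁ φ) = d φ * b := by
    intro φ hφ hφne
    exact ext_inner (n₁ := 1) h₁ hτ hχS₁ hψ (fun ξ hξ hξne =>
      classInner_of_irr_ne (hirr ψ hψ) (hirr ξ hξ) hξne.symm) hd ha1 (by rw [hψn]; simp) hb
      hφ hφne
  have hsum := ext_sum (τ₁ := τ₁) (n := n) hψ (fun φ hφ => one_ne_zero) (hd0 ψ hψ) hb hinner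
  have horth : ∀ φ ∈ S₀, ∀ ξ ∈ S₀, classInner (τ₁ φ) (τ₁ ξ) = if φ = ξ then ((1 : ℝ) : ℂ) else 0 := by
    intro φ hφ ξ hξ
    rw [h₁.inner (zspan_mem hφ) (zspan_mem hξ)]
    by_cases h : φ = ξ
    · subst h
      rw [if_pos rfl, classInner_self_of_irr (hirr φ hφ)]; simp
    · rw [if_neg h, classInner_of_irr_ne (hirr φ hφ) (hirr ξ hξ) h]
  have hbes := bessel_le S₀ τ₁ (fun φ => (1 : ℝ)) (fun φ hφ => one_ne_zero) horth β
  have hsum' : ∑ φ ∈ S₀, ‖classInner β (τ₁ φ)‖ ^ 2 / (1 : ℝ) =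
      (b : ℝ) ^ 2 * (∑ φ ∈ S₀, (d φ : ℝ) ^ 2) / (d ψ : ℝ) ^ 2 - 2 * a * b + (a : ℝ) ^ 2 := by
    simpa [n] using hsum
  have hβre : (classInner β β).re = 1 + (a : ℝ) ^ 2 := by
    rw [hβn]
    have : (1 + (a : ℂ) ^ 2) = ((1 + (a : ℝ) ^ 2 : ℝ) : ℂ) := by push_cast; ring
    rw [this, Complex.ofReal_re]
  rw [hsum', hβre] at hbes
  have hdψ : (0 : ℝ) < d ψ := by exact_mod_cast Nat.pos_of_ne_zero (hd0 ψ hψ)
  set N : ℝ := ∑ φ ∈ S₀, (d φ : ℝ) ^ 2 with hN
  have hNlt : 2 * (a : ℝ) * (d ψ : ℝ) ^ 2 < N := by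
    have h1 : ((2 * d ψ * d χ : ℕ) : ℝ) < ((∑ ξ ∈ S₀, d ξ ^ 2 : ℕ) : ℝ) := by exact_mod_cast hlt
    rw [ha] at h1
    push_cast at h1
    rw [hN]
    linarith [h1]
  set s : ℝ := N / (d ψ : ℝ) ^ 2 with hs
  have hs2 : 2 * (a : ℝ) < s := by
    rw [hs, lt_div_iff₀ (by positivity)]
    exact hNlt
  have hbes' : (b : ℝ) ^ 2 * s - 2 * a * b ≤ 1 := by
    rw [hs, ← mul_div_assoc]; linarith
  have ha0' : (1 : ℝ) ≤ a := by exact_mod_cast ha0
  have hτ₁n : classInner (τ₁ ψ) (τ₁ ψ) = 1 := by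
    rw [h₁.inner (zspan_mem hψ) (zspan_mem hψ), hψn]
  have hb01 : b = 0 ∨ b = 1 := by
    by_contra hcon
    push Not at hcon
    obtain ⟨hc0, hc1⟩ := hcon
    have hbz : b ≤ -1 ∨ 2 ≤ b := by omega
    have hb2 : (b : ℝ) ^ 2 * (2 * a) ≤ (b : ℝ) ^ 2 * s :=
      mul_le_mul_of_nonneg_left hs2.le (sq_nonneg _)
    rcases hbz with h | h
    · have h1 : (b : ℝ) ≤ -1 := by exact_mod_cast h
      have h2 : (0 : ℝ) ≤ (b : ℝ) ^ 2 * (2 * a) := by positivity
      nlinarith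
    · have h1 : (2 : ℝ) ≤ b := by exact_mod_cast h
      have h2 : 2 * (a : ℝ) * (b * (b - 1)) ≤ 1 := by nlinarith
      have h3 : (2 : ℝ) ≤ b * (b - 1) := by nlinarith
      nlinarith
  have hb0 : b = 0 := by
    rcases hb01 with h | h
    · exact h
    · exfalso
      rw [h] at hbes' hinner hb
      simp only [Int.cast_one] at hbes' hinner hb
      have hle : s ≤ 1 + 2 * a := by linarith
      -- all degrees are divisible by `d ψ`
      have hdv : ∀ φ ∈ S₀, d ψ ∣ d φ := by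
        intro φ hφ
        by_cases hne : φ = ψ
        · rw [hne]
        · obtain ⟨m, hm⟩ := classInner_gen_int hβgen (h₁.gen (zspan_mem hφ))
          have h1 := hinner φ hφ hne
          rw [hm, mul_one] at h1
          have h2 : (d ψ : ℤ) * m = d φ := by exact_mod_cast h1
          exact Int.natCast_dvd_natCast.1 ⟨m, h2.symm⟩
      choose! q hq using hdv
      have hsq : s = ((∑ φ ∈ S₀, q φ ^ 2 : ℕ) : ℝ) := by
        rw [hs, hN, Finset.sum_div]
        push_cast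
        refine Finset.sum_congr rfl fun φ hφ => ?_
        rw [hq φ hφ]
        push_cast
        field_simp
      have hqs : ∑ φ ∈ S₀, q φ ^ 2 = 2 * a + 1 := by
        rw [hsq] at hle hs2
        have h1 : ∑ φ ∈ S₀, q φ ^ 2 ≤ 1 + 2 * a := by exact_mod_cast hle
        have h2 : 2 * a < ∑ φ ∈ S₀, q φ ^ 2 := by exact_mod_cast hs2
        omega
      have hcase := bessel_eq_case S₀ τ₁ (fun φ => (1 : ℝ)) (fun φ hφ => one_ne_zero) horth β (by
        rw [hsum', hβre, h]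
        have : (∑ φ ∈ S₀, (d φ : ℝ) ^ 2) / (d ψ : ℝ) ^ 2 = 2 * a + 1 := by
          show s = _
          rw [hsq, hqs]; push_cast; ring
        rw [mul_div_assoc, this]
        push_cast; ring)
      -- evaluate at `1`
      have hval : ∀ φ ∈ S₀, τ₁ φ 1 = q φ * τ₁ ψ 1 := by
        intro φ hφ
        have h1 : φ - (q φ : ℤ) • ψ ∈ zspanOn (↑S₀ : Set (L → ℂ)) ({1}ᶜ : Set L) := by
          rw [zspanOn_one]
          refine ⟨zspan_sub (zspan_mem hφ) (zspan_smul _ (zspan_mem hψ)), ?_⟩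
          rw [Pi.sub_apply, zsmul_eq_smul, Pi.smul_apply, hd φ hφ, hd ψ hψ, hq φ hφ]
          simp [mul_comm]
        have h2 := hτ1 _ (zspanOn_mono hsub h1)
        rw [← h₁.2 _ h1, h₁.sub (zspan_mem hφ) (zspan_smul _ (zspan_mem hψ)),
          h₁.smul _ (zspan_mem hψ), Pi.sub_apply, zsmul_eq_smul, Pi.smul_apply, smul_eq_mul] at h2
        rw [sub_eq_zero.1 h2]; simp
      have hcoef : ∀ φ ∈ S₀, classInner β (τ₁ φ) = q φ - if φ = ψ then (a : ℂ) else 0 := by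
        intro φ hφ
        have hdψC : (d ψ : ℂ) ≠ 0 := by exact_mod_cast hd0 ψ hψ
        by_cases hne : φ = ψ
        · subst hne
          have h1 : q φ = 1 := by
            have h2 := hq φ hφ
            have h3 : d φ * 1 = d φ * q φ := by rw [mul_one]; exact h2
            exact (Nat.eq_of_mul_eq_mul_left (Nat.pos_of_ne_zero (hd0 φ hφ)) h3).symm
          rw [hb, if_pos rfl, h1]; simp [n]
        · rw [if_neg hne, sub_zero]
          have h1 := hinner φ hφ hne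
          rw [mul_one] at h1
          have h2 : (d φ : ℂ) = d ψ * q φ := by rw [hq φ hφ]; push_cast; ring
          rw [h2] at h1
          exact mul_left_cancel₀ hdψC h1
      have h1 : β 1 = ∑ φ ∈ S₀, classInner β (τ₁ φ) * τ₁ φ 1 := by
        have := congrFun hcase 1
        rw [Finset.sum_apply] at this
        rw [this]
        refine Finset.sum_congr rfl fun φ _ => ?_
        rw [Pi.smul_apply, smul_eq_mul]; simp
      rw [hβ0] at h1
      have h2 : ∑ φ ∈ S₀, classInner β (τ₁ φ) * τ₁ φ 1 =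
          (((∑ φ ∈ S₀, q φ ^ 2 : ℕ) : ℂ) - a * q ψ) * τ₁ ψ 1 := by
        have h3 : ∀ φ ∈ S₀, classInner β (τ₁ φ) * τ₁ φ 1 =
            (q φ : ℂ) ^ 2 * τ₁ ψ 1 - (if φ = ψ then (a : ℂ) * q ψ * τ₁ ψ 1 else 0) := by
          intro φ hφ
          rw [hcoef φ hφ, hval φ hφ]
          by_cases hne : φ = ψ
          · subst hne; rw [if_pos rfl, if_pos rfl]; ring
          · rw [if_neg hne, if_neg hne]; ring
        rw [Finset.sum_congr rfl h3, Finset.sum_sub_distrib, Finset.sum_ite_eq' S₀ ψ, if_pos hψ,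
          ← Finset.sum_mul]
        push_cast; ring
      have hqψ : q ψ = 1 := by
        have h2 := hq ψ hψ
        have h3 : d ψ * 1 = d ψ * q ψ := by rw [mul_one]; exact h2
        exact (Nat.eq_of_mul_eq_mul_left (Nat.pos_of_ne_zero (hd0 ψ hψ)) h3).symm
      rw [h2, hqs, hqψ] at h1
      have h3 : SIrr (τ₁ ψ) := sIrr_of_norm (h₁.gen (zspan_mem hψ)) hτ₁n
      have h4 : ((a + 1 : ℕ) : ℂ) * τ₁ ψ 1 = 0 := by
        rw [h1]; push_cast; ring
      rcases mul_eq_zero.1 h4 with h5 | h5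
      · have : a + 1 = 0 := by exact_mod_cast h5
        omega
      · exact h3.one_ne_zero h5
  -- the extension
  have hβ1 : classInner β (τ₁ ψ) = -(a : ℂ) := by rw [hb, hb0]; simp [n]
  have hβ1' : classInner (τ₁ ψ) β = -(a : ℂ) := by
    rw [← classInner_conj_symm, hβ1]; simp
  have hβφ : ∀ φ ∈ S₀, φ ≠ ψ → classInner β (τ₁ φ) = 0 := by
    intro φ hφ hφne
    have h1 := hinner φ hφ hφne
    rw [hb0, Int.cast_zero, mul_zero] at h1
    exact (mul_eq_zero.1 h1).resolve_left (by exact_mod_cast hd0 ψ hψ)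
  set X : G → ℂ := β + (a : ℤ) • τ₁ ψ with hX
  have hXS : ∀ φ ∈ (↑S₀ : Set (L → ℂ)), classInner X (τ₁ φ) = 0 := by
    intro φ hφ
    rw [hX, classInner_add_left, classInner_zsmul_left]
    by_cases h : φ = ψ
    · subst h
      rw [hβ1, hτ₁n]; push_cast; ring
    · rw [hβφ φ hφ h, h₁.inner (zspan_mem hψ) (zspan_mem hφ),
        classInner_of_irr_ne (hirr ψ hψ) (hirr φ hφ) (fun h' => h h'.symm)]
      simp
  have hXn : classInner X X = classInner χ χ := by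
    rw [hX]
    simp only [classInner_add_left, classInner_add_right, classInner_zsmul_left,
      classInner_zsmul_right, hβn, hβ1, hβ1', hτ₁n, classInner_self_of_irr hχ]
    push_cast; ring
  obtain ⟨τ₂, h₂, h21, -⟩ := h₁.insert hτ hχS₁ (by
    rw [classInner_self_of_irr hχ]; exact one_ne_zero) hψ (a := (a : ℤ)) (by rw [ha1]; simp)
    (X := X) hX hXS hXn
  exact ⟨τ₂, h₂, h21⟩

end Cfsg.Agent.H3
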