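import Cfsg.Agent.H3.CohF

/-!
# Coherence: gluing and equal degrees (helper3)
-/

set_option autoImplicit false
set_option linter.style.haveILetI false
set_option linter.unusedSimpArgs false
set_option linter.unusedSectionVars false
set_option linter.unusedVariables false
open Cfsg
open scoped ComplexConjugate

namespace Cfsg.Agent.H3

universe u v w

variable {L : Type u} [Group L] [Fintype L] {G : Type v} [Group G] [Fintype G]
variable {τ : (L → ℂ) → (G → ℂ)}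

theorem zspan_union {X : Type u} {S T : Set (X → ℂ)} {α : X → ℂ} (h : α ∈ zspan (S ∪ T)) :
    ∃ β ∈ zspan S, ∃ γ ∈ zspan T, α = β + γ := by
  have h1 : α ∈ Submodule.span ℤ (S ∪ T) := h
  rw [Submodule.span_union, Submodule.mem_sup] at h1
  obtain ⟨β, hβ, γ, hγ, h⟩ := h1
  exact ⟨β, hβ, γ, hγ, h.symm⟩

theorem zspan_orth {S T : Set (L → ℂ)} (h : ∀ φ ∈ S, ∀ ψ ∈ T, classInner φ ψ = 0) {α β : L → ℂ}
    (hα : α ∈ zspan S) (hβ : β ∈ zspan T) : classInner α β = 0 := by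
  refine zspan_induction (P := fun α => classInner α β = 0) ?_ (by simp) ?_ ?_ hα
  · intro φ hφ
    refine zspan_induction (P := fun β => classInner φ β = 0) (h φ hφ) (by simp) ?_ ?_ hβ
    · intro a b _ _ h1 h2; rw [classInner_add_right, h1, h2, add_zero]
    · intro n a _ h1; rw [classInner_zsmul_right, h1, mul_zero]
  · intro a b _ _ h1 h2; rw [classInner_add_left, h1, h2, add_zero]
  · intro n a _ h1; rw [classInner_zsmul_left, h1, mul_zero]

/-- gluing two isometries with orthogonal domains and orthogonal images -/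
theorem iso_glue {X Y : Set (L → ℂ)} {σ ρ : (L → ℂ) → (G → ℂ)}
    (hσ : IsLinearIsometryOn (zspan X) σ) (hρ : IsLinearIsometryOn (zspan Y) ρ)
    (horth : ∀ φ ∈ X, ∀ ψ ∈ Y, classInner φ ψ = 0)
    (horth' : ∀ φ ∈ X, ∀ ψ ∈ Y, classInner (σ φ) (ρ ψ) = 0) :
    ∃ μ : (L → ℂ) → (G → ℂ), IsLinearIsometryOn (zspan (X ∪ Y)) μ ∧
      ∀ α ∈ zspan X, ∀ β ∈ zspan Y, μ (α + β) = σ α + ρ β := by
  classical
  have hσ' : IsLinearIsometryOn ((Submodule.span ℤ X : Submodule ℤ (L → ℂ)) : Set (L → ℂ)) σ := hσ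
  have hρ' : IsLinearIsometryOn ((Submodule.span ℤ Y : Submodule ℤ (L → ℂ)) : Set (L → ℂ)) ρ := hρ
  -- the decomposition is unique
  have huniq : ∀ α ∈ zspan X, ∀ β ∈ zspan Y, ∀ α' ∈ zspan X, ∀ β' ∈ zspan Y,
      α + β = α' + β' → α = α' ∧ β = β' := by
    intro α hα β hβ α' hα' β' hβ' h
    have h1 : α - α' = β' - β := by
      rw [sub_eq_sub_iff_add_eq_add, h]; abel
    have h2 : classInner (α - α') (α - α') = 0 := by
      conv_lhs => enter [2]; rw [h1]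
      exact zspan_orth horth (zspan_sub hα hα') (zspan_sub hβ' hβ)
    have h3 := eq_zero_of_norm' h2
    exact ⟨sub_eq_zero.1 h3, by rw [h1] at h3; exact (sub_eq_zero.1 h3).symm⟩
  let μ : (L → ℂ) → (G → ℂ) := fun γ =>
    if h : ∃ α β, α ∈ zspan X ∧ β ∈ zspan Y ∧ γ = α + β then
      σ (Classical.choose h) + ρ (Classical.choose (Classical.choose_spec h)) else 0
  have hval : ∀ α ∈ zspan X, ∀ β ∈ zspan Y, μ (α + β) = σ α + ρ β := by
    intro α hα β hβ
    have h : ∃ α' β', α' ∈ zspan X ∧ β' ∈ zspan Y ∧ α + β = α' + β' := ⟨α, β, hα, hβ, rfl⟩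
    have hμ : μ (α + β) = σ (Classical.choose h) + ρ (Classical.choose (Classical.choose_spec h)) :=
      dif_pos h
    obtain ⟨h1, h2, h3⟩ := Classical.choose_spec (Classical.choose_spec h)
    obtain ⟨h4, h5⟩ := huniq α hα β hβ _ h1 _ h2 h3
    rw [hμ]
    exact (congrArg₂ (fun a b => a + b) (congrArg σ h4) (congrArg ρ h5)).symm
  have horthz : ∀ α ∈ zspan X, ∀ β ∈ zspan Y, classInner (σ α) (ρ β) = 0 := by
    intro α hα β hβ
    refine zspan_induction (P := fun α => classInner (σ α) (ρ β) = 0) ?_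
      (by rw [iso_zero hσ']; simp) ?_ ?_ hα
    · intro φ hφ
      refine zspan_induction (P := fun β => classInner (σ φ) (ρ β) = 0) (horth' φ hφ)
        (by rw [iso_zero hρ']; simp) ?_ ?_ hβ
      · intro a b ha hb h1 h2
        rw [hρ.1 a ha b hb, classInner_add_right, h1, h2, add_zero]
      · intro n a ha h1
        rw [hρ.2.1 a ha n, classInner_zsmul_right, h1, mul_zero]
    · intro a b ha hb h1 h2
      rw [hσ.1 a ha b hb, classInner_add_left, h1, h2, add_zero]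
    · intro n a ha h1
      rw [hσ.2.1 a ha n, classInner_zsmul_left, h1, mul_zero]
  have horthz' : ∀ α ∈ zspan X, ∀ β ∈ zspan Y, classInner (ρ β) (σ α) = 0 := by
    intro α hα β hβ
    rw [← classInner_conj_symm, horthz α hα β hβ, map_zero]
  refine ⟨μ, ⟨?_, ?_, ?_, ?_⟩, hval⟩
  · intro γ hγ δ hδ
    obtain ⟨α, hα, β, hβ, rfl⟩ := zspan_union hγ
    obtain ⟨α', hα', β', hβ', rfl⟩ := zspan_union hδ
    rw [show α + β + (α' + β') = (α + α') + (β + β') by abel,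
      hval _ (zspan_add hα hα') _ (zspan_add hβ hβ'), hval _ hα _ hβ, hval _ hα' _ hβ',
      hσ.1 α hα α' hα', hρ.1 β hβ β' hβ']
    abel
  · intro γ hγ n
    obtain ⟨α, hα, β, hβ, rfl⟩ := zspan_union hγ
    rw [smul_add, hval _ (zspan_smul n hα) _ (zspan_smul n hβ), hval _ hα _ hβ,
      hσ.2.1 α hα n, hρ.2.1 β hβ n, smul_add]
  · intro γ hγ δ hδ
    obtain ⟨α, hα, β, hβ, rfl⟩ := zspan_union hγ
    obtain ⟨α', hα', β', hβ', rfl⟩ := zspan_union hδ
    have h1 : classInner α β' = 0 := zspan_orth horth hα hβ'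
    have h2 : classInner β α' = 0 := by
      rw [← classInner_conj_symm, zspan_orth horth hα' hβ, map_zero]
    rw [hval _ hα _ hβ, hval _ hα' _ hβ']
    simp only [classInner_add_left, classInner_add_right, horthz α hα β' hβ',
      horthz' α' hα' β hβ, hσ.2.2.1 α hα α' hα', hρ.2.2.1 β hβ β' hβ', h1, h2]
  · intro γ hγ
    obtain ⟨α, hα, β, hβ, rfl⟩ := zspan_union hγ
    rw [hval _ hα _ hβ]
    exact isGen_add (hσ.2.2.2 α hα) (hρ.2.2.2 β hβ)

/-- gluing two coherent sets -/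
theorem coh_glue {X Y : Set (L → ℂ)} {σ ρ : (L → ℂ) → (G → ℂ)}
    (hτ : IsLinearIsometryOn (zspanOn (X ∪ Y) ({1}ᶜ : Set L)) τ)
    (hσ : CohMap X τ σ) (hρ : CohMap Y τ ρ)
    (horth : ∀ φ ∈ X, ∀ ψ ∈ Y, classInner φ ψ = 0)
    (horth' : ∀ φ ∈ X, ∀ ψ ∈ Y, classInner (σ φ) (ρ ψ) = 0)
    (hdX : ∀ φ ∈ X, ∃ n : ℤ, φ 1 = n)
    {χ₀ η₀ : L → ℂ} (hχ₀ : χ₀ ∈ X) (hη₀ : η₀ ∈ Y) {c e : ℤ} (hc : χ₀ 1 = c) (he : η₀ 1 = e)
    (hc0 : c ≠ 0) (he0 : e ≠ 0)
    (h : τ (c • η₀ - e • χ₀) = c • ρ η₀ - e • σ χ₀) :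
    ∃ μ, CohMap (X ∪ Y) τ μ ∧ (∀ α ∈ zspan X, μ α = σ α) ∧ (∀ α ∈ zspan Y, μ α = ρ α) := by
  obtain ⟨μ, hμ, hval⟩ := iso_glue hσ.1 hρ.1 horth horth'
  have hσ0 : σ 0 = 0 := iso_zero (E := Submodule.span ℤ X) hσ.1
  have hρ0 : ρ 0 = 0 := iso_zero (E := Submodule.span ℤ Y) hρ.1
  refine ⟨μ, ⟨hμ, ?_⟩, ?_, ?_⟩
  · intro γ hγ
    obtain ⟨hγ1, hγ0⟩ := zspanOn_one.1 hγ
    obtain ⟨α, hα, β, hβ, rfl⟩ := zspan_union hγ1
    -- `α 1 = m`, `β 1 = -m`
    obtain ⟨m, hm⟩ : ∃ m : ℤ, α 1 = m := by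
      refine zspan_induction (P := fun α => ∃ m : ℤ, α 1 = m) hdX ⟨0, by simp⟩ ?_ ?_ hα
      · rintro a b - - ⟨m, hm⟩ ⟨k, hk⟩
        exact ⟨m + k, by rw [Pi.add_apply, hm, hk]; push_cast; ring⟩
      · rintro n a - ⟨m, hm⟩
        exact ⟨n * m, by rw [zsmul_eq_smul, Pi.smul_apply, hm, smul_eq_mul]; push_cast; ring⟩
    have hβ1 : β 1 = -m := by
      rw [Pi.add_apply, hm] at hγ0
      linear_combination hγ0
    have hA : c • α - m • χ₀ ∈ zspanOn X ({1}ᶜ : Set L) := by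
      rw [zspanOn_one]
      refine ⟨zspan_sub (zspan_smul _ hα) (zspan_smul _ (zspan_mem hχ₀)), ?_⟩
      rw [Pi.sub_apply, zsmul_eq_smul, zsmul_eq_smul, Pi.smul_apply, Pi.smul_apply, hm, hc,
        smul_eq_mul, smul_eq_mul]; ring
    have hB : e • β + m • η₀ ∈ zspanOn Y ({1}ᶜ : Set L) := by
      rw [zspanOn_one]
      refine ⟨zspan_add (zspan_smul _ hβ) (zspan_smul _ (zspan_mem hη₀)), ?_⟩
      rw [Pi.add_apply, zsmul_eq_smul, zsmul_eq_smul, Pi.smul_apply, Pi.smul_apply, hβ1, he,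
        smul_eq_mul, smul_eq_mul]; ring
    have hC : c • η₀ - e • χ₀ ∈ zspanOn (X ∪ Y) ({1}ᶜ : Set L) := by
      rw [zspanOn_one]
      refine ⟨zspan_sub (zspan_smul _ (zspan_mem (Or.inr hη₀)))
        (zspan_smul _ (zspan_mem (Or.inl hχ₀))), ?_⟩
      rw [Pi.sub_apply, zsmul_eq_smul, zsmul_eq_smul, Pi.smul_apply, Pi.smul_apply, hc, he,
        smul_eq_mul, smul_eq_mul]; ring
    have hA' := zspanOn_mono (Set.subset_union_left (s := X) (t := Y)) hA
    have hB' := zspanOn_mono (Set.subset_union_right (s := X) (t := Y)) hB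
    let E := zOn (X ∪ Y) ({1}ᶜ : Set L)
    have hτE : IsLinearIsometryOn (E : Set (L → ℂ)) τ := hτ
    have h1 : (c * e) • (α + β) = e • (c • α - m • χ₀) + (c • (e • β + m • η₀) -
        m • (c • η₀ - e • χ₀)) := by
      simp only [smul_add, smul_sub, smul_smul]
      rw [mul_comm c e, mul_comm e m, mul_comm c m]
      abel
    have h2 : (c * e) • τ (α + β) = (c * e) • μ (α + β) := by
      rw [← hτ.2.1 _ hγ, h1, hτ.1 _ (E.smul_mem _ hA') _ (E.sub_mem (E.smul_mem _ hB')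
        (E.smul_mem _ hC)), iso_sub hτE (E.smul_mem _ hB') (E.smul_mem _ hC), hτ.2.1 _ hA',
        hτ.2.1 _ hB', hτ.2.1 _ hC, ← hσ.2 _ hA, ← hρ.2 _ hB, h,
        hσ.sub (zspan_smul _ hα) (zspan_smul _ (zspan_mem hχ₀)), hσ.smul _ hα,
        hσ.smul _ (zspan_mem hχ₀), hρ.add (zspan_smul _ hβ) (zspan_smul _ (zspan_mem hη₀)),
        hρ.smul _ hβ, hρ.smul _ (zspan_mem hη₀), hval α hα β hβ]
      simp only [smul_add, smul_sub, smul_smul]
      rw [mul_comm c e, mul_comm e m, mul_comm c m]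
      abel
    have h3 : c * e ≠ 0 := mul_ne_zero hc0 he0
    exact (smul_right_injective _ h3 h2).symm
  · intro α hα
    have := hval α hα 0 zspan_zero
    rw [add_zero, hρ0, add_zero] at this
    exact this
  · intro α hα
    have := hval 0 zspan_zero α hα
    rw [zero_add, hσ0, zero_add] at this
    exact this

end Cfsg.Agent.H3
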