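import Cfsg.Agent.H3.CohG

/-!
# Coherence: orthogonality of coherent images, equal degrees (PF 5.7) (helper3)
-/

set_option autoImplicit false
set_option linter.style.haveILetI false
set_option linter.unusedSimpArgs false
set_option linter.unusedSectionVars false
set_option linter.unusedVariables false
open Cfsg
open scoped ComplexConjugate

namespace Cfsg.Agent.H3

universe u v w

variable {L : Type u} [Group L] [Fintype L] {G : Type v} [Group G] [Fintype G]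
variable {τ : (L → ℂ) → (G → ℂ)}

theorem exists_ne_mem {X : Type u} {S : Set X} (h : ∃ a ∈ S, ∃ b ∈ S, a ≠ b) (x : X) :
    ∃ y ∈ S, y ≠ x := by
  obtain ⟨a, ha, b, hb, hab⟩ := h
  by_cases h : a = x
  · exact ⟨b, hb, fun h' => hab (h.trans h'.symm)⟩
  · exact ⟨a, ha, h⟩

theorem coh_cross_orth {X Y : Set (L → ℂ)} (hX : ∀ ξ ∈ X, IsIrrCharacter L ξ)
    (hY : ∀ ξ ∈ Y, IsIrrCharacter L ξ) (hXY : Disjoint X Y) (hX2 : ∃ a ∈ X, ∃ b ∈ X, a ≠ b)
    (hY2 : ∃ a ∈ Y, ∃ b ∈ Y, a ≠ b)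
    (hτ : IsLinearIsometryOn (zspanOn (X ∪ Y) ({1}ᶜ : Set L)) τ)
    (hτ1 : ∀ θ ∈ zspanOn (X ∪ Y) ({1}ᶜ : Set L), τ θ 1 = 0) {σ ρ : (L → ℂ) → (G → ℂ)}
    (hσ : CohMap X τ σ) (hρ : CohMap Y τ ρ) :
    ∀ χ ∈ X, ∀ η ∈ Y, classInner (σ χ) (ρ η) = 0 := by
  obtain ⟨ε, hε, hεX, hεi⟩ := coh_sign hX hX2 hσ.1 (fun α hα h0 => by
    rw [hσ.2 α (zspanOn_one.2 ⟨hα, h0⟩)]
    exact hτ1 α (zspanOn_mono Set.subset_union_left (zspanOn_one.2 ⟨hα, h0⟩)))
  obtain ⟨δ, hδ, hδY, hδi⟩ := coh_sign hY hY2 hρ.1 (fun α hα h0 => by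
    rw [hρ.2 α (zspanOn_one.2 ⟨hα, h0⟩)]
    exact hτ1 α (zspanOn_mono Set.subset_union_right (zspanOn_one.2 ⟨hα, h0⟩)))
  intro χ hχ η hη
  by_contra hne
  obtain ⟨χ', hχ', hχχ'⟩ := exists_ne_mem hX2 χ
  obtain ⟨η', hη', hηη'⟩ := exists_ne_mem hY2 η
  obtain ⟨a, ha0, ha⟩ := irr_one_eq_nat (hX χ hχ)
  obtain ⟨a', ha'0, ha'⟩ := irr_one_eq_nat (hX χ' hχ')
  obtain ⟨c, hc0, hc⟩ := irr_one_eq_nat (hY η hη)
  obtain ⟨c', hc'0, hc'⟩ := irr_one_eq_nat (hY η' hη')
  have hcross : ∀ ξ ∈ X, ∀ ζ ∈ Y, classInner ξ ζ = 0 := fun ξ hξ ζ hζ =>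
    classInner_of_irr_ne (hX ξ hξ) (hY ζ hζ) (fun h => Set.disjoint_left.1 hXY hξ (h ▸ hζ))
  have hA : (a' : ℤ) • χ - (a : ℤ) • χ' ∈ zspanOn X ({1}ᶜ : Set L) := by
    rw [zspanOn_one]
    refine ⟨zspan_sub (zspan_smul _ (zspan_mem hχ)) (zspan_smul _ (zspan_mem hχ')), ?_⟩
    rw [Pi.sub_apply, zsmul_eq_smul, zsmul_eq_smul, Pi.smul_apply, Pi.smul_apply, ha, ha']
    simp [mul_comm]
  have hB : (c' : ℤ) • η - (c : ℤ) • η' ∈ zspanOn Y ({1}ᶜ : Set L) := by
    rw [zspanOn_one]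
    refine ⟨zspan_sub (zspan_smul _ (zspan_mem hη)) (zspan_smul _ (zspan_mem hη')), ?_⟩
    rw [Pi.sub_apply, zsmul_eq_smul, zsmul_eq_smul, Pi.smul_apply, Pi.smul_apply, hc, hc']
    simp [mul_comm]
  have h1 := hτ.2.2.1 _ (zspanOn_mono Set.subset_union_left hA) _
    (zspanOn_mono Set.subset_union_right hB)
  rw [← hσ.2 _ hA, ← hρ.2 _ hB, hσ.sub (zspan_smul _ (zspan_mem hχ)) (zspan_smul _ (zspan_mem hχ')),
    hρ.sub (zspan_smul _ (zspan_mem hη)) (zspan_smul _ (zspan_mem hη')),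
    hσ.smul _ (zspan_mem hχ), hσ.smul _ (zspan_mem hχ'), hρ.smul _ (zspan_mem hη),
    hρ.smul _ (zspan_mem hη')] at h1
  simp only [classInner_sub_left, classInner_sub_right, classInner_zsmul_left,
    classInner_zsmul_right, hcross χ hχ η hη, hcross χ hχ η' hη', hcross χ' hχ' η hη,
    hcross χ' hχ' η' hη'] at h1
  have hε2 : ε * ε = 1 := by rcases hε with rfl | rfl <;> simp
  have hδ2 : δ * δ = 1 := by rcases hδ with rfl | rfl <;> simp
  have hδc : conj δ = δ := by rcases hδ with rfl | rfl <;> simp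
  have hε0 : ε ≠ 0 := fun h => by rw [h] at hε2; simp at hε2
  have hδ0 : δ ≠ 0 := fun h => by rw [h] at hδ2; simp at hδ2
  have hsc : ∀ f g : G → ℂ, classInner f g = ε * δ * classInner (ε • f) (δ • g) := by
    intro f g
    rw [classInner_smul_left, classInner_smul_right, hδc]
    calc classInner f g = (ε * ε) * (δ * δ) * classInner f g := by rw [hε2, hδ2]; ring
      _ = _ := by ring
  have hp : ε • σ χ = δ • ρ η := by
    by_contra hcon
    apply hne
    rw [hsc, classInner_of_irr_ne (hεX χ hχ) (hδY η hη) hcon, mul_zero]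
  have hq : classInner (ε • σ χ') (δ • ρ η) = 0 := by
    rw [← hp]
    apply classInner_of_irr_ne (hεX χ' hχ') (hεX χ hχ)
    intro h
    exact hχχ' (hεi χ' hχ' χ hχ (smul_right_injective _ hε0 h))
  have hr : classInner (ε • σ χ) (δ • ρ η') = 0 := by
    rw [hp]
    apply classInner_of_irr_ne (hδY η hη) (hδY η' hη')
    intro h
    exact hηη' (hδi η hη η' hη' (smul_right_injective _ hδ0 h)).symm
  obtain ⟨m, hm⟩ := classInner_char_nat (irr_isChar (hεX χ' hχ')) (irr_isChar (hδY η' hη'))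
  rw [hsc (σ χ), hsc (σ χ), hsc (σ χ'), hsc (σ χ'), hq, hr, hm, hp,
    classInner_self_of_irr (hδY η hη)] at h1
  have h2 : ε * δ * (((a' * c' + a * c * m : ℕ)) : ℂ) = 0 := by
    push_cast
    push_cast at h1
    linear_combination h1
  have h3 : ((a' * c' + a * c * m : ℕ) : ℂ) = 0 :=
    (mul_eq_zero.1 h2).resolve_left (mul_ne_zero hε0 hδ0)
  have h4 : a' * c' + a * c * m = 0 := by exact_mod_cast h3
  have h5 : 0 < a' * c' := Nat.mul_pos ha'0 hc'0
  omega

/-- **PF 5.7**: a subcoherent set of characters of the same degree is coherent -/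
theorem pf57 {S : Set (L → ℂ)} {R : (L → ℂ) → Finset (G → ℂ)} (hS : IsCoherenceSystem S τ R)
    (hdeg : ∀ φ ∈ S, ∀ ψ ∈ S, φ 1 = ψ 1) : ∃ τ₁, CohMap S τ τ₁ := by
  classical
  obtain ⟨χ₁, hχ₁⟩ := hS.nonempty
  obtain ⟨n₁, hn₁0, hn₁, -⟩ := sys_norm hS hχ₁
  have hχ₁c := hS.conj_mem χ₁ hχ₁
  set χc := conjFun χ₁ with hχc
  have hχ₁1 : χ₁ 1 ≠ 0 := by
    obtain ⟨m, hm, hm1⟩ := char_ne_zero_pos (hS.isCharacter χ₁ hχ₁) (sys_ne_zero hS hχ₁)
    rw [hm1]; exact_mod_cast hm.ne'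
  have horth : ∀ χ ∈ S, ∀ φ ∈ S, χ ≠ φ → classInner χ φ = 0 := hS.orthogonal
  have hmem : ∀ φ ∈ S, χ₁ - φ ∈ zspanOn S ({1}ᶜ : Set L) := by
    intro φ hφ
    rw [zspanOn_one]
    exact ⟨zspan_sub (zspan_mem hχ₁) (zspan_mem hφ), by
      rw [Pi.sub_apply, hdeg χ₁ hχ₁ φ hφ, sub_self]⟩
  have hsubc := sys_conj_sub_mem hS hχ₁
  have hcc : ∀ φ : L → ℂ, conjFun φ = χ₁ → φ = χc := by
    intro φ h
    rw [hχc, ← h, conjFun_conjFun]
  -- the data for `φ` not in `{χ₁, χc}`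
  have hdata : ∀ φ ∈ S, φ ≠ χ₁ → φ ≠ χc → ∃ k : (G → ℂ) → ℤ,
      (∀ α ∈ R χ₁, classInner (τ (χ₁ - φ)) α = k α) ∧ ∑ α ∈ R χ₁, k α ^ 2 = (n₁ : ℤ) ∧
      ∑ α ∈ R χ₁, k α = n₁ ∧ τ (χ₁ - φ) = ∑ α ∈ R χ₁, (k α : ℂ) • α +
        ∑ α ∈ R φ, classInner (τ (χ₁ - φ)) α • α := by
    intro φ hφ hφ1 hφc
    obtain ⟨n, hn0, hn, -⟩ := sys_norm hS hφ
    have hφφ : conjFun φ ≠ χ₁ := fun h => hφc (hcc φ h)
    have hβgen := hS.isometry.2.2.2 _ (hmem φ hφ)
    set β := τ (χ₁ - φ) with hβ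
    have h1 : classInner χ₁ φ = 0 := horth χ₁ hχ₁ φ hφ hφ1.symm
    have h1' : classInner φ χ₁ = 0 := horth φ hφ χ₁ hχ₁ hφ1
    have h2 : classInner φ χc = 0 := horth φ hφ χc hχ₁c hφc
    have h3 : classInner χ₁ (conjFun φ) = 0 :=
      horth χ₁ hχ₁ _ (hS.conj_mem φ hφ) (fun h => hφφ h.symm)
    have h4 : classInner χ₁ χc = 0 := sys_orth_conj hS hχ₁
    have h5 : classInner φ (conjFun φ) = 0 := sys_orth_conj hS hφ
    obtain ⟨k, hk, hkle, hksum⟩ := sys_proj hS hχ₁ hn₁ hβgen (by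
      rw [hβ, hS.isometry.2.2.1 _ (hmem φ hφ) _ hsubc]
      simp only [classInner_sub_left, classInner_sub_right, h1', h2, ← hχc, h4, hn₁]
      ring)
    obtain ⟨l, hl, hlle, hlsum⟩ := sys_proj hS hφ hn (isGen_neg hβgen) (by
      rw [classInner_neg_left, hβ, hS.isometry.2.2.1 _ (hmem φ hφ) _ (sys_conj_sub_mem hS hφ)]
      simp only [classInner_sub_left, classInner_sub_right, h1, h3, h5, hn]
      ring)
    have hRR : ∀ α ∈ R χ₁, ∀ α' ∈ R φ, classInner α α' = 0 := fun α hα α' hα' =>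
      hS.disjoint φ hφ χ₁ hχ₁ h1 h3 α hα α' hα'
    have hRR' : ∀ α ∈ R φ, ∀ α' ∈ R χ₁, classInner α α' = 0 := fun α hα α' hα' => by
      rw [← classInner_conj_symm, hRR α' hα' α hα, map_zero]
    have hdisj : Disjoint (R χ₁) (R φ) := by
      rw [Finset.disjoint_left]
      intro α hα hα'
      have h6 := hRR α hα α hα'
      rw [hS.orthonormal χ₁ hχ₁ α hα α hα, if_pos rfl] at h6
      exact one_ne_zero h6
    have hon : ∀ α ∈ R χ₁ ∪ R φ, ∀ α' ∈ R χ₁ ∪ R φ,
        classInner α α' = if α = α' then ((1 : ℝ) : ℂ) else 0 := by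
      intro α hα α' hα'
      rw [Complex.ofReal_one]
      rcases Finset.mem_union.1 hα with hα | hα <;> rcases Finset.mem_union.1 hα' with hα' | hα'
      · exact hS.orthonormal χ₁ hχ₁ α hα α' hα'
      · rw [hRR α hα α' hα', if_neg (fun h : α = α' => Finset.disjoint_left.1 hdisj hα (h ▸ hα'))]
      · rw [hRR' α hα α' hα', if_neg (fun h : α = α' => Finset.disjoint_left.1 hdisj hα' (h ▸ hα))]
      · exact hS.orthonormal φ hφ α hα α' hα'
    have hbes := bessel_le (R χ₁ ∪ R φ) (fun α => α) (fun _ => (1 : ℝ)) (fun _ _ => one_ne_zero)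
      hon β
    have hβn : classInner β β = ((n₁ + n : ℕ) : ℂ) := by
      rw [hβ, hS.isometry.2.2.1 _ (hmem φ hφ) _ (hmem φ hφ)]
      simp only [classInner_sub_left, classInner_sub_right, h1, h1', hn, hn₁]
      push_cast; ring
    have hs1 : ∑ α ∈ R χ₁, ‖classInner β α‖ ^ 2 / (1 : ℝ) = ((∑ α ∈ R χ₁, k α ^ 2 : ℤ) : ℝ) := by
      push_cast
      refine Finset.sum_congr rfl fun α hα => ?_
      rw [hk α hα, Complex.norm_intCast, sq_abs, div_one]
    have hs2 : ∑ α ∈ R φ, ‖classInner β α‖ ^ 2 / (1 : ℝ) = ((∑ α ∈ R φ, l α ^ 2 : ℤ) : ℝ) := by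
      push_cast
      refine Finset.sum_congr rfl fun α hα => ?_
      have h6 := hl α hα
      rw [classInner_neg_left] at h6
      have h7 : classInner β α = -(l α : ℂ) := by rw [← h6, neg_neg]
      rw [h7, norm_neg, Complex.norm_intCast, sq_abs, div_one]
    have hsu : ∑ α ∈ R χ₁ ∪ R φ, ‖classInner β α‖ ^ 2 / (1 : ℝ) =
        ((∑ α ∈ R χ₁, k α ^ 2 + ∑ α ∈ R φ, l α ^ 2 : ℤ) : ℝ) := by
      rw [Finset.sum_union hdisj, hs1, hs2]; push_cast; rfl
    rw [hsu, hβn, Complex.natCast_re] at hbes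
    have hbes' : ∑ α ∈ R χ₁, k α ^ 2 + ∑ α ∈ R φ, l α ^ 2 ≤ ((n₁ + n : ℕ) : ℤ) := by
      exact_mod_cast hbes
    push_cast at hbes'
    have hk2 : ∑ α ∈ R χ₁, k α ^ 2 = (n₁ : ℤ) := by linarith
    have hl2 : ∑ α ∈ R φ, l α ^ 2 = (n : ℤ) := by linarith
    have hcase := bessel_eq_case (R χ₁ ∪ R φ) (fun α => α) (fun _ => (1 : ℝ))
      (fun _ _ => one_ne_zero) hon β (by
        rw [hsu, hβn, hk2, hl2]; simp)
    refine ⟨k, hk, hk2, hksum, ?_⟩
    rw [Finset.sum_union hdisj] at hcase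
    conv_lhs => rw [hcase]
    congr 1
    · refine Finset.sum_congr rfl fun α hα => ?_
      rw [hk α hα]; simp
    · refine Finset.sum_congr rfl fun α hα => ?_
      simp
  -- the pivot
  have hpivot : ∃ k : (G → ℂ) → ℤ, ∑ α ∈ R χ₁, k α ^ 2 = (n₁ : ℤ) ∧ ∑ α ∈ R χ₁, k α = n₁ ∧
      ∀ φ ∈ S, φ ≠ χ₁ → φ ≠ χc → ∀ α ∈ R χ₁, classInner (τ (χ₁ - φ)) α = k α := by
    by_cases hex : ∃ φ ∈ S, φ ≠ χ₁ ∧ φ ≠ χc
    · obtain ⟨φ, hφ, hφ1, hφc⟩ := hex
      obtain ⟨k, hk, hk2, hksum, hβ⟩ := hdata φ hφ hφ1 hφc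
      refine ⟨k, hk2, hksum, ?_⟩
      intro φ' hφ' hφ'1 hφ'c α hα
      by_cases h1 : φ' = φ
      · rw [h1]; exact hk α hα
      by_cases h2 : φ' = conjFun φ
      · have h3 : χ₁ - φ' = (χ₁ - φ) + (φ - conjFun φ) := by rw [h2]; abel
        rw [h3, hS.isometry.1 _ (hmem φ hφ) _ (sys_conj_sub_mem hS hφ), classInner_add_left,
          hk α hα, hS.sum_eq φ hφ, classInner_sum_left, Finset.sum_eq_zero, add_zero]
        intro α' hα'
        have h4 : classInner φ χ₁ = 0 := horth φ hφ χ₁ hχ₁ hφ1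
        have h5 : classInner φ χc = 0 := horth φ hφ χc hχ₁c hφc
        exact hS.disjoint χ₁ hχ₁ φ hφ h4 h5 α' hα' α hα
      · obtain ⟨k', hk', hk'2, hk'sum, hβ'⟩ := hdata φ' hφ' hφ'1 hφ'c
        have h3 : classInner (τ (χ₁ - φ)) (τ (χ₁ - φ')) = n₁ := by
          rw [hS.isometry.2.2.1 _ (hmem φ hφ) _ (hmem φ' hφ')]
          simp only [classInner_sub_left, classInner_sub_right, horth φ hφ χ₁ hχ₁ hφ1,
            horth χ₁ hχ₁ φ' hφ' hφ'1.symm, horth φ hφ φ' hφ' (fun h => h1 h.symm), hn₁]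
          ring
        -- inner product with elements of `R φ`
        have h4 : ∀ α ∈ R φ, classInner α (τ (χ₁ - φ')) = 0 := by
          intro α hα
          rw [hβ', classInner_add_right, classInner_sum_right, classInner_sum_right,
            Finset.sum_eq_zero, Finset.sum_eq_zero, add_zero]
          · intro α' hα'
            have h5 : classInner φ φ' = 0 := horth φ hφ φ' hφ' (fun h => h1 h.symm)
            have h6 : classInner φ (conjFun φ') = 0 :=
              horth φ hφ _ (hS.conj_mem φ' hφ') (fun h => h2 (by rw [h, conjFun_conjFun]))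
            rw [classInner_smul_right, hS.disjoint φ' hφ' φ hφ h5 h6 α hα α' hα', mul_zero]
          · intro α' hα'
            have h5 : classInner φ χ₁ = 0 := horth φ hφ χ₁ hχ₁ hφ1
            have h6 : classInner φ χc = 0 := horth φ hφ χc hχ₁c hφc
            rw [classInner_smul_right, hS.disjoint χ₁ hχ₁ φ hφ h5 h6 α hα α' hα', mul_zero]
        have h5 : classInner (τ (χ₁ - φ)) (τ (χ₁ - φ')) =
            ((∑ α ∈ R χ₁, k α * k' α : ℤ) : ℂ) := by
          rw [hβ, classInner_add_left, classInner_sum_left, classInner_sum_left,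
            Finset.sum_eq_zero (s := R φ), add_zero]
          · push_cast
            refine Finset.sum_congr rfl fun α hα => ?_
            rw [classInner_smul_left, ← classInner_conj_symm, hk' α hα]; simp
          · intro α hα
            rw [classInner_smul_left, h4 α hα, mul_zero]
        rw [h3] at h5
        have h6 : ∑ α ∈ R χ₁, k α * k' α = (n₁ : ℤ) := by exact_mod_cast h5.symm
        have h7 : ∑ α ∈ R χ₁, (k α - k' α) ^ 2 = 0 := by
          have h8 : ∀ α, (k α - k' α) ^ 2 = k α ^ 2 + k' α ^ 2 - 2 * (k α * k' α) := fun α => by ring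
          rw [Finset.sum_congr rfl (fun α _ => h8 α), Finset.sum_sub_distrib,
            Finset.sum_add_distrib, ← Finset.mul_sum, hk2, hk'2, h6]
          ring
        have h8 := (Finset.sum_eq_zero_iff_of_nonneg (fun α _ => sq_nonneg (k α - k' α))).1 h7 α hα
        have h9 : k α = k' α := sub_eq_zero.1 (pow_eq_zero_iff (two_ne_zero) |>.1 h8)
        rw [hk' α hα, h9]
    · push Not at hex
      -- choose any subset of size `n₁`
      have hcard : (R χ₁).card = 2 * n₁ := by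
        have h1 : classInner (τ (χ₁ - χc)) (τ (χ₁ - χc)) = ((2 * n₁ : ℕ) : ℂ) := by
          rw [hS.isometry.2.2.1 _ hsubc _ hsubc]
          have h2 : classInner χ₁ χc = 0 := sys_orth_conj hS hχ₁
          have h3 : classInner χc χ₁ = 0 := by rw [← classInner_conj_symm, h2, map_zero]
          have h4 : classInner χc χc = n₁ := by rw [hχc, classInner_conjFun, hn₁]; simp
          simp only [classInner_sub_left, classInner_sub_right, ← hχc, h2, h3, h4, hn₁]
          push_cast; ring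
        rw [hS.sum_eq χ₁ hχ₁, classInner_sum_left] at h1
        have h2 : ∀ α ∈ R χ₁, classInner α (∑ β ∈ R χ₁, β) = 1 := by
          intro α hα
          rw [classInner_sum_right, Finset.sum_eq_single α]
          · rw [hS.orthonormal χ₁ hχ₁ α hα α hα, if_pos rfl]
          · intro β hβ hne
            rw [hS.orthonormal χ₁ hχ₁ α hα β hβ, if_neg (fun h => hne h.symm)]
          · intro h; exact absurd hα h
        rw [Finset.sum_congr rfl h2, Finset.sum_const, nsmul_eq_mul, mul_one] at h1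
        exact_mod_cast h1
      obtain ⟨E, hE, hEc⟩ := Finset.exists_subset_card_eq (s := R χ₁) (n := n₁) (by omega)
      refine ⟨fun α => if α ∈ E then 1 else 0, ?_, ?_, ?_⟩
      · have h1 : ∀ α ∈ R χ₁, (if α ∈ E then (1 : ℤ) else 0) ^ 2 = if α ∈ E then 1 else 0 := by
          intro α _; split_ifs <;> simp
        rw [Finset.sum_congr rfl h1, ← Finset.sum_filter, Finset.sum_const, nsmul_eq_mul, mul_one]
        rw [Finset.filter_mem_eq_inter, Finset.inter_eq_right.2 hE, hEc]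
      · rw [← Finset.sum_filter, Finset.sum_const, nsmul_eq_mul, mul_one]
        rw [Finset.filter_mem_eq_inter, Finset.inter_eq_right.2 hE, hEc]
      · intro φ hφ h1 h2
        exact absurd (hex φ hφ h1) h2
  obtain ⟨k, hk2, hksum, hk⟩ := hpivot
  let X : G → ℂ := ∑ α ∈ R χ₁, k α • α
  have hXα : ∀ α ∈ R χ₁, classInner X α = k α := by
    intro α hα
    rw [classInner_sum_left, Finset.sum_eq_single α]
    · rw [classInner_zsmul_left, hS.orthonormal χ₁ hχ₁ α hα α hα, if_pos rfl, mul_one]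
    · intro β hβ hne
      rw [classInner_zsmul_left, hS.orthonormal χ₁ hχ₁ β hβ α hα, if_neg hne, mul_zero]
    · intro h; exact absurd hα h
  obtain ⟨τ₁, h₁, -⟩ := cohMap_pivot hS.isometry hχ₁ hχ₁1 (fun φ hφ => ⟨1, by
      rw [hdeg φ hφ χ₁ hχ₁]; simp⟩) (X := X)
    (isGen_sum _ _ fun α hα => isGen_zsmul (k α) (hS.virtual χ₁ hχ₁ α hα)) (by
      rw [hn₁]
      show classInner X (∑ α ∈ R χ₁, k α • α) = _
      rw [classInner_sum_right]
      have h1 : ∀ α ∈ R χ₁, classInner X (k α • α) = ((k α ^ 2 : ℤ) : ℂ) := by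
        intro α hα
        rw [classInner_zsmul_right, hXα α hα]; push_cast; ring
      rw [Finset.sum_congr rfl h1, ← Int.cast_sum, hk2]; simp) (by
      intro φ hφ a ha
      have ha1 : a = 1 := by
        rw [hdeg φ hφ χ₁ hχ₁] at ha
        have h1 : (a : ℂ) * χ₁ 1 = 1 * χ₁ 1 := by rw [← ha, one_mul]
        exact_mod_cast mul_right_cancel₀ hχ₁1 h1
      subst ha1
      rw [one_smul]
      have hneg : τ (φ - χ₁) = - τ (χ₁ - φ) := by
        rw [← iso_neg (E := zOn S ({1}ᶜ : Set L)) hS.isometry (hmem φ hφ), neg_sub]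
      rw [hneg, classInner_neg_right]
      by_cases h1 : φ = χ₁
      · subst h1
        rw [sub_self, iso_zero (E := zOn S ({1}ᶜ : Set L)) hS.isometry]; simp
      by_cases h2 : φ = χc
      · rw [h2, hS.sum_eq χ₁ hχ₁, classInner_sum_right, Finset.sum_congr rfl hXα,
          classInner_sub_right, hn₁, hχc, sys_orth_conj hS hχ₁, ← Int.cast_sum, hksum]
        simp
      · have h3 : classInner X (τ (χ₁ - φ)) = n₁ := by
          show classInner (∑ α ∈ R χ₁, k α • α) (τ (χ₁ - φ)) = _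
          rw [classInner_sum_left]
          have h4 : ∀ α ∈ R χ₁, classInner (k α • α) (τ (χ₁ - φ)) = ((k α ^ 2 : ℤ) : ℂ) := by
            intro α hα
            rw [classInner_zsmul_left, ← classInner_conj_symm, hk φ hφ h1 h2 α hα]
            simp [pow_two]
          rw [Finset.sum_congr rfl h4, ← Int.cast_sum, hk2]; simp
        rw [h3, classInner_sub_right, hn₁, horth χ₁ hχ₁ φ hφ (fun h => h1 h.symm), zero_sub])
  exact ⟨τ₁, h₁⟩

end Cfsg.Agent.H3
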