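import Cfsg.Agent.H3.Integral
import Cfsg.Agent.H3.Counting
import Cfsg.Agent.H3.TICoh
import Cfsg.Prelude.Def_OddOrderLocal

/-!
# The congruence of PF (6.8) (helper3)
-/

set_option autoImplicit false
set_option linter.style.haveILetI false
set_option linter.unusedSimpArgs false
set_option linter.unusedSectionVars false
set_option linter.unusedVariables false
open Cfsg
open scoped ComplexConjugate commutatorElement

namespace Cfsg.Agent.H3

universe u v w

theorem sum_free {P : Type u} [Group P] [Finite P] {X : Type v} [MulAction P X] [Fintype X]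
    (F : X → ℂ) (hF : ∀ (u : P) x, F (u • x) = F x) (hint : ∀ x, IsIntegral ℤ (F x))
    (hfree : ∀ x : X, MulAction.stabilizer P x = ⊥) :
    ∃ α : ℂ, IsIntegral ℤ α ∧ ∑ x, F x = Nat.card P * α := by
  classical
  haveI := Fintype.ofFinite (MulAction.orbitRel.Quotient P X)
  refine ⟨∑ ω : MulAction.orbitRel.Quotient P X, F (Quotient.out ω),
    IsIntegral.sum _ fun ω _ => hint _, ?_⟩
  rw [← Equiv.sum_comp (MulAction.selfEquivSigmaOrbits P X).symm F, Finset.mul_sum]
  rw [Fintype.sum_sigma]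
  refine Finset.sum_congr rfl fun ω _ => ?_
  have h1 : ∀ y : MulAction.orbit P (Quotient.out ω),
      F ((MulAction.selfEquivSigmaOrbits P X).symm ⟨ω, y⟩) = F (Quotient.out ω) := by
    intro y
    obtain ⟨u, hu⟩ := y.2
    have h2 : (MulAction.selfEquivSigmaOrbits P X).symm ⟨ω, y⟩ = (y : X) := rfl
    rw [h2, ← hu]
    exact hF u _
  rw [Finset.sum_congr rfl fun y _ => h1 y, Finset.sum_const, Finset.card_univ, nsmul_eq_mul]
  congr 2
  rw [← Nat.card_eq_fintype_card]
  have h3 : Nat.card (MulAction.orbit P (Quotient.out ω)) =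
      (MulAction.stabilizer P (Quotient.out ω)).index := by
    rw [MulAction.index_stabilizer]; rfl
  rw [h3, hfree, Subgroup.index_bot]

theorem congr68 {G : Type u} [Group G] [Finite G] {P : Subgroup G}
    (hTI : IsTISubset (P : Set G)) (hodd : Odd (Nat.card (Subgroup.normalizer (P : Set G))))
    (hpel : ∀ y ∈ Subgroup.normalizer (P : Set G), (∃ g : G, g * y * g⁻¹ ∈ P) → y ∈ P)
    {Z : Subgroup G} (hZP : Z ≤ P) (hZn : ∀ x ∈ Subgroup.normalizer (P : Set G), ∀ z ∈ Z,
      x * z * x⁻¹ ∈ Z) (hZc : ∀ z ∈ Z, ∀ y ∈ P, z * y = y * z) {ψ : G → ℂ}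
    (hψ : IsIrrCharacter G ψ) {z : G} (hz : z ∈ Z) (hz1 : z ≠ 1)
    (hconst : ∀ z' ∈ Z, z' ≠ 1 → ψ z' = ψ z) :
    ∃ n d : ℤ, ψ z = n ∧ ψ 1 = d ∧ (Nat.card P : ℤ) ∣ d - n := by
  classical
  haveI := Fintype.ofFinite G
  haveI := Fintype.ofFinite Z
  obtain ⟨d, hd0, hd⟩ := irr_one_eq_nat hψ
  -- TI consequences
  have hTI' : ∀ g x : G, x ∈ P → x ≠ 1 → g * x * g⁻¹ ∈ P → g ∈ Subgroup.normalizer (P : Set G) := by
    intro g x hx hx1 hgx
    by_contra hg
    exact hx1 (hTI g hg x hx hgx)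
  -- `ψ z` is an integer
  have hn : ∃ n : ℤ, ψ z = n := by
    obtain ⟨k, hk⟩ := classInner_char_nat (isChar_restrict Z (irr_isChar hψ)) isChar_one
    have h1 : ∑ x : Z, ψ x = (Nat.card Z : ℂ) * k := by
      rw [classInner, inv_mul_eq_iff_eq_mul₀ card_ne_zeroC] at hk
      simpa using hk
    have h2 : ∑ x : Z, ψ x = (d : ℂ) + ((Nat.card Z : ℂ) - 1) * ψ z := by
      rw [← Finset.add_sum_erase _ _ (Finset.mem_univ (1 : Z))]
      congr 1
      rw [Finset.sum_congr rfl (g := fun _ => ψ z), Finset.sum_const,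
        Finset.card_erase_of_mem (Finset.mem_univ _), Finset.card_univ, nsmul_eq_mul,
        ← Nat.card_eq_fintype_card, Nat.cast_sub Nat.card_pos]
      · simp
      · intro x hx
        exact hconst x x.2 (fun h => (Finset.mem_erase.1 hx).1 (Subtype.ext h))
    rw [h1] at h2
    have hZ2 : (Nat.card Z : ℂ) - 1 ≠ 0 := by
      haveI : Nontrivial Z := ⟨⟨z, hz⟩, 1, fun h => hz1 (congrArg Subtype.val h)⟩
      have h3 : 1 < Nat.card Z := Finite.one_lt_card
      intro h4
      have h5 : (Nat.card Z : ℂ) = 1 := by linear_combination h4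
      have h6 : Nat.card Z = 1 := by exact_mod_cast h5
      omega
    have h3 : ψ z = (((Nat.card Z * k - d : ℤ) / (Nat.card Z - 1 : ℤ) : ℚ) : ℂ) := by
      push_cast
      rw [eq_div_iff hZ2]
      linear_combination -h2
    have h4 : IsIntegral ℤ (ψ z) := char_isIntegral (irr_isChar hψ) z
    rw [h3] at h4
    obtain ⟨n, hn⟩ := exists_int_of_isIntegral_rat h4
    exact ⟨n, by rw [h3, hn]; simp⟩
  obtain ⟨n, hn⟩ := hn
  refine ⟨n, d, hn, by rw [hd]; simp, ?_⟩
  have hz1' : z⁻¹ ≠ 1 := inv_ne_one.2 hz1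
  -- `z` is not conjugate to its inverse
  have hreal : ¬ IsConj z z⁻¹ := by
    intro h
    obtain ⟨g, hg⟩ := isConj_iff.1 h
    have h1 := hTI' g z (hZP hz) hz1 (by rw [hg]; exact P.inv_mem (hZP hz))
    have h2 : IsConj (⟨z, Subgroup.le_normalizer (hZP hz)⟩ :
        Subgroup.normalizer (P : Set G)) (⟨z, Subgroup.le_normalizer (hZP hz)⟩)⁻¹ := by
      rw [isConj_iff]
      exact ⟨⟨g, h1⟩, Subtype.ext hg⟩
    exact hz1 (congrArg Subtype.val (eq_one_of_isConj_inv_of_odd hodd _ h2))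
  -- the key computation
  have key : ∀ w ∈ Z, w ≠ 1 → ∃ α : ℂ, IsIntegral ℤ α ∧
      ∑ y ∈ Finset.univ.filter (fun y : G => IsConj w y), ψ (y * z) =
        ∑ y ∈ Finset.univ.filter (fun y : G => IsConj w y ∧ y ∈ Z), ψ (y * z) +
          Nat.card P * α := by
    intro w hw hw1
    let X := {y : G // IsConj w y ∧ y ∉ Z}
    letI : MulAction P X := {
      smul u y := ⟨u * y * (u : G)⁻¹, y.2.1.trans (isConj_iff.2 ⟨u, rfl⟩), fun h => y.2.2 (by
        have h1 := hZn (u : G)⁻¹ ((Subgroup.normalizer (P : Set G)).inv_mem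
          (Subgroup.le_normalizer u.2)) _ h
        have h2 : (u : G)⁻¹ * (u * y * (u : G)⁻¹) * (u : G)⁻¹⁻¹ = y := by group
        rwa [h2] at h1)⟩
      one_smul y := Subtype.ext (by change ((1 : P) : G) * y.1 * ((1 : P) : G)⁻¹ = _; simp)
      mul_smul a b y := Subtype.ext (by
        change ((a * b : P) : G) * y.1 * ((a * b : P) : G)⁻¹ =
          (a : G) * ((b : G) * y.1 * (b : G)⁻¹) * (a : G)⁻¹
        push_cast; group) }
    haveI : Fintype X := Fintype.ofFinite X
    obtain ⟨α, hα, hsum⟩ := sum_free (P := P) (X := X) (fun y => ψ (y.1 * z)) (by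
      intro u y
      change ψ ((u : G) * y.1 * (u : G)⁻¹ * z) = ψ (y.1 * z)
      have h1 : (u : G) * y.1 * (u : G)⁻¹ * z = u * (y.1 * z) * (u : G)⁻¹ := by
        have h2 : (u : G)⁻¹ * z = z * (u : G)⁻¹ := (hZc z hz _ (P.inv_mem u.2)).symm
        calc (u : G) * y.1 * (u : G)⁻¹ * z = (u : G) * y.1 * ((u : G)⁻¹ * z) := by group
          _ = (u : G) * y.1 * (z * (u : G)⁻¹) := by rw [h2]
          _ = _ := by group
      rw [h1, irr_classFun hψ]) (fun y => char_isIntegral (irr_isChar hψ) _) (by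
      rintro ⟨y, hy1, hy2⟩
      rw [eq_bot_iff]
      intro u hu
      rw [Subgroup.mem_bot]
      by_contra hu1
      have h1 : (u : G) * y * (u : G)⁻¹ = y := congrArg Subtype.val (MulAction.mem_stabilizer_iff.1 hu)
      have h2 : y * (u : G) * y⁻¹ = u := by
        have h3 : (u : G) * y = y * u := by
          calc (u : G) * y = ((u : G) * y * (u : G)⁻¹) * u := by group
            _ = y * u := by rw [h1]
        rw [← h3]; group
      have h3 := hTI' y u u.2 (fun h => hu1 (Subtype.ext h)) (by rw [h2]; exact u.2)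
      obtain ⟨g, hg⟩ := isConj_iff.1 hy1
      have h4 : g⁻¹ * y * g⁻¹⁻¹ = w := by rw [← hg]; group
      have h5 := hpel y h3 ⟨g⁻¹, by rw [h4]; exact hZP hw⟩
      have h6 := hTI' g w (hZP hw) hw1 (by rw [hg]; exact h5)
      exact hy2 (by rw [← hg]; exact hZn g h6 w hw))
    refine ⟨α, hα, ?_⟩
    rw [← hsum]
    have h1 : ∑ y : X, ψ (y.1 * z) =
        ∑ y ∈ Finset.univ.filter (fun y : G => IsConj w y ∧ y ∉ Z), ψ (y * z) :=
      (Finset.sum_subtype (Finset.univ.filter (fun y : G => IsConj w y ∧ y ∉ Z)) (by simp)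
        (fun y => ψ (y * z))).symm
    rw [h1, ← Finset.sum_filter_add_sum_filter_not (Finset.univ.filter (fun y : G => IsConj w y))
      (fun y => y ∈ Z), Finset.filter_filter, Finset.filter_filter]
  have hsumG : ∀ w ∈ Z, w ≠ 1 → (Nat.card (Subgroup.centralizer ({w} : Set G)) : ℂ) *
      ∑ y ∈ Finset.univ.filter (fun y : G => IsConj w y), ψ (y * z) =
        (Nat.card G : ℂ) * ψ z * ψ z / ψ 1 := by
    intro w hw hw1
    have h1 := sum_irr_conj_mul hψ w z
    rw [hconst w hw hw1] at h1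
    have h2 := sum_conj_eq (fun y => ψ (y * z)) w
    rw [← h1, h2, nsmul_eq_mul]
  have hcc : Nat.card (Subgroup.centralizer ({z⁻¹} : Set G)) =
      Nat.card (Subgroup.centralizer ({z} : Set G)) := by
    congr 1
    have : Subgroup.centralizer ({z⁻¹} : Set G) = Subgroup.centralizer ({z} : Set G) := by
      ext g
      rw [Subgroup.mem_centralizer_singleton_iff, Subgroup.mem_centralizer_singleton_iff]
      constructor
      · intro h
        calc g * z = z * (z⁻¹ * g) * z := by group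
          _ = z * (g * z⁻¹) * z := by rw [h]
          _ = z * g := by group
      · intro h
        calc g * z⁻¹ = z⁻¹ * (z * g) * z⁻¹ := by group
          _ = z⁻¹ * (g * z) * z⁻¹ := by rw [h]
          _ = z⁻¹ * g := by group
    rw [this]
  have hc0 : (Nat.card (Subgroup.centralizer ({z} : Set G)) : ℂ) ≠ 0 := by
    exact_mod_cast Nat.card_pos.ne'
  have hEq : ∑ y ∈ Finset.univ.filter (fun y : G => IsConj z y), ψ (y * z) =
      ∑ y ∈ Finset.univ.filter (fun y : G => IsConj z⁻¹ y), ψ (y * z) := by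
    have h1 := hsumG z hz hz1
    have h2 := hsumG z⁻¹ (Z.inv_mem hz) hz1'
    rw [hcc] at h2
    exact mul_left_cancel₀ hc0 (h1.trans h2.symm)
  obtain ⟨α, hα, hα'⟩ := key z hz hz1
  obtain ⟨β, hβ, hβ'⟩ := key z⁻¹ (Z.inv_mem hz) hz1'
  -- the parts in `Z`
  have hA : ∑ y ∈ Finset.univ.filter (fun y : G => IsConj z y ∧ y ∈ Z), ψ (y * z) =
      ((Finset.univ.filter (fun y : G => IsConj z y ∧ y ∈ Z)).card : ℂ) * n := by
    rw [Finset.sum_congr rfl (g := fun _ => (n : ℂ)), Finset.sum_const, nsmul_eq_mul]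
    intro y hy
    obtain ⟨-, hy1, hy2⟩ := Finset.mem_filter.1 hy
    rw [hconst _ (Z.mul_mem hy2 hz), hn]
    intro h
    apply hreal
    rwa [mul_eq_one_iff_eq_inv.1 h] at hy1
  have hB : ∑ y ∈ Finset.univ.filter (fun y : G => IsConj z⁻¹ y ∧ y ∈ Z), ψ (y * z) =
      (d : ℂ) + (((Finset.univ.filter (fun y : G => IsConj z⁻¹ y ∧ y ∈ Z)).card : ℂ) - 1) * n := by
    have hmem : z⁻¹ ∈ Finset.univ.filter (fun y : G => IsConj z⁻¹ y ∧ y ∈ Z) :=
      Finset.mem_filter.2 ⟨Finset.mem_univ _, IsConj.refl _, Z.inv_mem hz⟩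
    rw [← Finset.add_sum_erase _ _ hmem, inv_mul_cancel, hd,
      Finset.sum_congr rfl (g := fun _ => (n : ℂ)), Finset.sum_const, nsmul_eq_mul,
      Finset.card_erase_of_mem hmem, Nat.cast_sub (Finset.card_pos.2 ⟨_, hmem⟩)]
    · simp
    · intro y hy
      obtain ⟨hy0, hy1⟩ := Finset.mem_erase.1 hy
      rw [hconst _ (Z.mul_mem (Finset.mem_filter.1 hy1).2.2 hz), hn]
      intro h
      exact hy0 (mul_eq_one_iff_eq_inv.1 h)
  have hcard : (Finset.univ.filter (fun y : G => IsConj z⁻¹ y ∧ y ∈ Z)).card =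
      (Finset.univ.filter (fun y : G => IsConj z y ∧ y ∈ Z)).card := by
    have hinvc : ∀ {a b : G}, IsConj a b → IsConj a⁻¹ b⁻¹ := by
      intro a b h
      obtain ⟨g, hg⟩ := isConj_iff.1 h
      exact isConj_iff.2 ⟨g, by rw [← hg]; group⟩
    refine Finset.card_bij (fun y _ => y⁻¹) ?_ (fun a _ b _ h => inv_injective h) ?_
    · intro y hy
      obtain ⟨-, hy1, hy2⟩ := Finset.mem_filter.1 hy
      refine Finset.mem_filter.2 ⟨Finset.mem_univ _, ?_, Z.inv_mem hy2⟩
      have := hinvc hy1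
      rwa [inv_inv] at this
    · intro y hy
      obtain ⟨-, hy1, hy2⟩ := Finset.mem_filter.1 hy
      exact ⟨y⁻¹, Finset.mem_filter.2 ⟨Finset.mem_univ _, hinvc hy1, Z.inv_mem hy2⟩, inv_inv y⟩
  rw [hα', hβ', hA, hB, hcard] at hEq
  have hfin : ((d - n : ℤ) : ℂ) / ((Nat.card P : ℤ) : ℂ) = α - β := by
    have hP : ((Nat.card P : ℤ) : ℂ) ≠ 0 := by
      have : (Nat.card P : ℂ) ≠ 0 := by exact_mod_cast Nat.card_pos.ne'
      simpa using this
    rw [div_eq_iff hP]
    push_cast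
    linear_combination -hEq
  have h1 := int_dvd_of_isIntegral (a := (d : ℤ) - n) (b := (Nat.card P : ℤ))
    (by exact_mod_cast Nat.card_pos.ne') (by rw [hfin]; exact hα.sub hβ)
  exact h1

end Cfsg.Agent.H3
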