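import Cfsg.Agent.H3.Frob
import Cfsg.Agent.H3.Basic2
import Cfsg.Agent.H23.Coprime

/-!
# Fixed classes and fixed characters under coprime action (helper3)
-/

set_option autoImplicit false
set_option linter.style.haveILetI false
set_option linter.unusedSimpArgs false
set_option linter.unusedSectionVars false
set_option linter.unusedVariables false
open Cfsg
open scoped ComplexConjugate

namespace Cfsg.Agent.H3

universe u v w

variable {G : Type u} [Group G] {K : Subgroup G} (hK : K.Normal)

include hK in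
/-- an invariant class under a coprime element meets the centralizer -/
theorem fixed_class_meets [Finite G] {x : G} (hx : Nat.Coprime (orderOf x) (Nat.card K)) {k : G}
    (hk : k ∈ K) {c : G} (hc : c ∈ K) (h : x * k * x⁻¹ = c * k * c⁻¹) :
    ∃ g ∈ K, x * (g * k * g⁻¹) = (g * k * g⁻¹) * x := by
  have hn : Subgroup.zpowers x ≤ Subgroup.normalizer (K : Set G) := by
    rw [Subgroup.normalizer_eq_top_iff.mpr hK]
    exact le_top
  have hstab : ∀ a ∈ Subgroup.zpowers x, ∃ g ∈ K, a * k * a⁻¹ = g * k * g⁻¹ := by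
    let T : Subgroup G := {
      carrier := {a | ∃ g ∈ K, a * k * a⁻¹ = g * k * g⁻¹}
      one_mem' := ⟨1, K.one_mem, rfl⟩
      mul_mem' := by
        rintro a b ⟨g, hg, hga⟩ ⟨g', hg', hgb⟩
        refine ⟨(a * g' * a⁻¹) * g, K.mul_mem (hK.conj_mem g' hg' a) hg, ?_⟩
        calc a * b * k * (a * b)⁻¹ = a * (b * k * b⁻¹) * a⁻¹ := by group
          _ = a * (g' * k * g'⁻¹) * a⁻¹ := by rw [hgb]
          _ = (a * g' * a⁻¹) * (a * k * a⁻¹) * (a * g' * a⁻¹)⁻¹ := by group
          _ = (a * g' * a⁻¹) * (g * k * g⁻¹) * (a * g' * a⁻¹)⁻¹ := by rw [hga]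
          _ = _ := by group
      inv_mem' := by
        rintro a ⟨g, hg, hga⟩
        refine ⟨a⁻¹ * g⁻¹ * a, ?_, ?_⟩
        · have := hK.conj_mem g⁻¹ (K.inv_mem hg) a⁻¹
          rwa [inv_inv] at this
        · calc a⁻¹ * k * a⁻¹⁻¹ = a⁻¹ * g⁻¹ * (g * k * g⁻¹) * g * a := by group
            _ = a⁻¹ * g⁻¹ * (a * k * a⁻¹) * g * a := by rw [hga]
            _ = _ := by group }
    have hle : Subgroup.zpowers x ≤ T := by
      rw [Subgroup.zpowers_le]
      exact ⟨c, hc, h⟩
    intro a ha
    exact hle ha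
  have hcop : (Nat.card (Subgroup.zpowers x)).Coprime (Nat.card K) := by
    rwa [Nat.card_zpowers]
  obtain ⟨g, hg, h1⟩ := H23.exists_conj_mem_centralizer hn hcop
    (Or.inl (Group.isSolvable_of_comm (fun a b => by
      obtain ⟨a, i, rfl⟩ := a
      obtain ⟨b, j, rfl⟩ := b
      apply Subtype.ext
      show x ^ i * x ^ j = x ^ j * x ^ i
      rw [← zpow_add, ← zpow_add, add_comm]))) k hstab
  refine ⟨g, hg, ?_⟩
  rw [Subgroup.mem_centralizer_iff] at h1
  exact h1 x (Subgroup.mem_zpowers x)

/-- the number of fixed characters equals the number of fixed classes -/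
theorem card_fixed_irr [Finite K] (x : G) :
    Nat.card {χ : IrrCharacter K // cj hK x (χ : K → ℂ) = χ} =
      Nat.card {C : ConjClasses K // ConjClasses.map (cjEquiv hK x).toMonoidHom C = C} := by
  classical
  let α : K ≃* K := cjEquiv hK x
  let t : Equiv.Perm (ConjClasses K) := {
    toFun := ConjClasses.map α.symm.toMonoidHom
    invFun := ConjClasses.map α.toMonoidHom
    left_inv := by
      intro C
      obtain ⟨g, rfl⟩ := ConjClasses.mk_surjective C
      change ConjClasses.mk (α (α.symm g)) = _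
      simp
    right_inv := by
      intro C
      obtain ⟨g, rfl⟩ := ConjClasses.mk_surjective C
      change ConjClasses.mk (α.symm (α g)) = _
      simp }
  let s : IrrCharacter K → IrrCharacter K := fun χ => ⟨_, isIrr_cj hK χ.2 x⟩
  have hb := brauer_perm_lemma (G := K) s t (by
    intro χ g g' hgg
    have h1 : IsConj g' (α.symm g) := ConjClasses.mk_eq_mk_iff_isConj.mp hgg
    rw [classFun_isConj (irr_classFun (s χ).2) h1]
    change (χ : K → ℂ) (α (α.symm g)) = _
    simp)
  have h1 : Nat.card {χ : IrrCharacter K // cj hK x (χ : K → ℂ) = χ} =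
      Nat.card {χ : IrrCharacter K // s χ = χ} :=
    Nat.card_congr (Equiv.subtypeEquivRight fun χ => by rw [Subtype.ext_iff])
  have h2 : Nat.card {C : ConjClasses K // ConjClasses.map α.toMonoidHom C = C} =
      Nat.card {C : ConjClasses K // t C = C} :=
    Nat.card_congr (Equiv.subtypeEquivRight fun C => by
      constructor
      · intro h
        have h3 := t.right_inv C
        change t (ConjClasses.map α.toMonoidHom C) = C at h3
        rwa [h] at h3
      · intro h
        have h3 := t.left_inv C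
        change ConjClasses.map α.toMonoidHom (t C) = C at h3
        rwa [h] at h3)
  rw [h1, hb, h2]

/-- the class of `k` is fixed iff `x k x⁻¹` is conjugate to `k` in `K` -/
theorem class_fixed_iff (x : G) (k : K) :
    ConjClasses.map (cjEquiv hK x).toMonoidHom (ConjClasses.mk k) = ConjClasses.mk k ↔
      ∃ c ∈ K, x * (k : G) * x⁻¹ = c * k * c⁻¹ := by
  change ConjClasses.mk (cjEquiv hK x k) = ConjClasses.mk k ↔ _
  rw [ConjClasses.mk_eq_mk_iff_isConj]
  constructor
  · intro h
    obtain ⟨c, hc⟩ := isConj_iff.1 h.symm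
    exact ⟨c, c.2, (congrArg Subtype.val hc).symm⟩
  · rintro ⟨c, hc, h⟩
    apply IsConj.symm
    rw [isConj_iff]
    exact ⟨⟨c, hc⟩, Subtype.ext h.symm⟩

/-- every fixed class contains an element commuting with `x` -/
theorem fixed_class_rep [Finite G] {x : G} (hx : Nat.Coprime (orderOf x) (Nat.card K))
    {C : ConjClasses K} (hC : ConjClasses.map (cjEquiv hK x).toMonoidHom C = C) :
    ∃ k : K, ConjClasses.mk k = C ∧ x * (k : G) = k * x := by
  obtain ⟨k, rfl⟩ := ConjClasses.mk_surjective C
  rw [class_fixed_iff] at hC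
  obtain ⟨c, hc, h⟩ := hC
  obtain ⟨g, hg, h1⟩ := fixed_class_meets hK hx k.2 hc h
  refine ⟨⟨g, hg⟩ * k * ⟨g, hg⟩⁻¹, ?_, h1⟩
  rw [ConjClasses.mk_eq_mk_iff_isConj]
  apply IsConj.symm
  rw [isConj_iff]
  exact ⟨⟨g, hg⟩, rfl⟩

theorem card_fixed_class_le [Finite G] {x : G} (hx : Nat.Coprime (orderOf x) (Nat.card K))
    {W : Subgroup G} (hW : K ⊓ Subgroup.centralizer ({x} : Set G) = W) :
    Nat.card {C : ConjClasses K // ConjClasses.map (cjEquiv hK x).toMonoidHom C = C} ≤
      Nat.card W := by
  classical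
  have key : ∀ C : {C : ConjClasses K // ConjClasses.map (cjEquiv hK x).toMonoidHom C = C},
      ∃ w : W, ∃ k : K, (k : G) = w ∧ ConjClasses.mk k = C.1 := by
    rintro ⟨C, hC⟩
    obtain ⟨k, hk, hxk⟩ := fixed_class_rep hK hx hC
    refine ⟨⟨k, ?_⟩, k, rfl, hk⟩
    rw [← hW]
    exact ⟨k.2, Subgroup.mem_centralizer_singleton_iff.2 hxk.symm⟩
  choose f k hk hC using key
  apply Nat.card_le_card_of_injective f
  intro C D h
  apply Subtype.ext
  rw [← hC C, ← hC D]
  congr 1
  apply Subtype.ext
  rw [hk C, hk D, h]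

end Cfsg.Agent.H3
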