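import Cfsg.Agent.H3.IndCoh
import Cfsg.Agent.H3.Nil
import Cfsg.Agent.H3.Frob

/-!
# Coherence of induced characters (PF 6.3, 6.5) (helper3)
-/

set_option autoImplicit false
set_option linter.style.haveILetI false
set_option linter.unusedSimpArgs false
set_option linter.unusedSectionVars false
set_option linter.unusedVariables false
open Cfsg
open scoped ComplexConjugate commutatorElement

namespace Cfsg.Agent.H3

universe u v w

variable {L : Type u} [Group L] [Fintype L] {K : Subgroup L}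
variable {G : Type v} [Group G] [Fintype G] {τ : (L → ℂ) → (G → ℂ)}
  {R : (L → ℂ) → Finset (G → ℂ)}

/-- restriction of a coherence system -/
theorem sys_mono {S T : Set (L → ℂ)} (hS : IsCoherenceSystem S τ R) (hTS : T ⊆ S)
    (hne : T.Nonempty) (hc : ∀ φ ∈ T, conjFun φ ∈ T) : IsCoherenceSystem T τ R :=
  ⟨hne, fun χ hχ => hS.isCharacter χ (hTS hχ), hc, fun χ hχ => hS.conj_ne χ (hTS hχ),
    iso_mono hS.isometry (fun α hα => zspanOn_mono hTS hα),
    fun α hα => hS.map_one α (zspanOn_mono hTS hα),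
    fun χ hχ φ hφ => hS.orthogonal χ (hTS hχ) φ (hTS hφ),
    fun χ hχ => hS.orthonormal χ (hTS hχ), fun χ hχ => hS.virtual χ (hTS hχ),
    fun χ hχ => hS.sum_eq χ (hTS hχ), fun χ hχ φ hφ => hS.disjoint χ (hTS hχ) φ (hTS hφ)⟩

theorem arith63 {e k h : ℕ} (hk : 1 ≤ k) (hh : 4 * e ^ 2 + 1 < h) :
    4 * (k * e) ^ 2 * h < (k * h - 1) ^ 2 := by
  obtain ⟨m, rfl⟩ : ∃ m, k = m + 1 := ⟨k - 1, by omega⟩
  obtain ⟨n, rfl⟩ : ∃ n, h = 4 * e ^ 2 + 2 + n := ⟨h - (4 * e ^ 2 + 2), by omega⟩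
  have h1 : (m + 1) * (4 * e ^ 2 + 2 + n) - 1 = (m + 1) * (4 * e ^ 2 + 1 + n) + m := by
    have : (m + 1) * (4 * e ^ 2 + 2 + n) = (m + 1) * (4 * e ^ 2 + 1 + n) + m + 1 := by ring
    omega
  rw [h1]
  zify
  nlinarith [Int.natCast_nonneg m, Int.natCast_nonneg n, Int.natCast_nonneg e,
    mul_nonneg (Int.natCast_nonneg m) (Int.natCast_nonneg n), sq_nonneg (e : ℤ),
    mul_nonneg (Int.natCast_nonneg m) (sq_nonneg (e : ℤ)),
    mul_nonneg (Int.natCast_nonneg n) (sq_nonneg (e : ℤ)),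
    mul_nonneg (mul_nonneg (Int.natCast_nonneg m) (Int.natCast_nonneg n)) (sq_nonneg (e : ℤ)),
    mul_nonneg (mul_nonneg (Int.natCast_nonneg m) (Int.natCast_nonneg m)) (sq_nonneg (e : ℤ)),
    mul_nonneg (mul_nonneg (Int.natCast_nonneg m) (Int.natCast_nonneg m)) (Int.natCast_nonneg n),
    mul_nonneg (mul_nonneg (mul_nonneg (Int.natCast_nonneg m) (Int.natCast_nonneg m))
      (Int.natCast_nonneg n)) (sq_nonneg (e : ℤ)), sq_nonneg ((m : ℤ) * n), sq_nonneg (n : ℤ),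
    sq_nonneg (m : ℤ), mul_nonneg (Int.natCast_nonneg m) (sq_nonneg (n : ℤ))]

/-- **PF 6.3** -/
theorem pf63 (hK : K.Normal) (hsolv : Group.IsSolvable K)
    (hS : IsCoherenceSystem (inducedIrrAbove K ⊥) τ R) {M H₁ H : Subgroup L} (hM : M.Normal)
    (hH₁ : H₁.Normal) (hH : H.Normal) (hMH₁ : M ≤ H₁) (hH₁H : H₁ ≤ H) (hHK : H ≤ K)
    (hnil : ∃ n, H.lowerCentralSeries n ≤ M)
    (hcoh : IsCoherent (inducedIrrAbove K H₁) {1}ᶜ τ)
    (hbig : 4 * K.index ^ 2 + 1 < H₁.relIndex H) : IsCoherent (inducedIrrAbove K M) {1}ᶜ τ := by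
  obtain ⟨A, hA⟩ := Set.Finite.exists_minimal (s := {A : Subgroup L | A.Normal ∧ M ≤ A ∧ A ≤ H₁ ∧
    IsCoherent (inducedIrrAbove K A) {1}ᶜ τ}) (Set.toFinite _) ⟨H₁, hH₁, hMH₁, le_rfl, hcoh⟩
  obtain ⟨⟨hAn, hMA, hAH₁, hAcoh⟩, hAmin⟩ := hA
  rcases hMA.eq_or_lt with h | h
  · rw [h]; exact hAcoh
  · exfalso
    obtain ⟨B, hB, hMB, hBA, hch⟩ := exists_chief_below hM h
    have hAH : A ≤ H := hAH₁.trans hH₁H
    have hcent := nil_chief_central hH hnil hAn hB hAH hMB hBA hch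
    have hbig' : 4 * K.index ^ 2 + 1 < A.relIndex H := by
      have h1 : A.relIndex H₁ * H₁.relIndex H = A.relIndex H :=
        Subgroup.relIndex_mul_relIndex A H₁ H hAH₁ hH₁H
      have h2 : A.relIndex H₁ ≠ 0 := Subgroup.index_ne_zero_of_finite
      rw [← h1]
      exact lt_of_lt_of_le hbig (Nat.le_mul_of_pos_left _ (Nat.pos_of_ne_zero h2))
    have hHk : 1 ≤ H.relIndex K := Nat.one_le_iff_ne_zero.2 Subgroup.index_ne_zero_of_finite
    have hAK : A < K := by
      refine lt_of_le_of_ne (hAH.trans hHK) ?_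
      rintro rfl
      have : A.relIndex H = 1 := Subgroup.relIndex_eq_one.2 hHK
      omega
    have h3 := pf62 hK hsolv hS (C := H) (D := A) hAn hB hAK (hBA.trans hAK) hAH hHK
      (fun x hx y hy => hcent (Subgroup.commutator_mem_commutator hx hy)) hAcoh (by
        have e1 : H.relIndex K * K.index = H.index := Subgroup.relIndex_mul_index hHK
        have e2 : A.relIndex H * H.relIndex K = A.relIndex K :=
          Subgroup.relIndex_mul_relIndex A H K hAH hHK
        rw [← e1, ← e2, mul_comm (A.relIndex H)]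
        exact arith63 hHk hbig')
    have h4 := hAmin ⟨hB, hMB, hBA.le.trans hAH₁, h3⟩ hBA.le
    exact absurd h4 (not_le_of_gt hBA)


/-- counting in a Frobenius section -/
theorem frob_dvd {K H₁ N : Subgroup L} (hH₁ : H₁.Normal) (hN : N.Normal) (h1 : H₁ ≤ N)
    (hNK : N ≤ K) (hfrob : ∀ k ∈ K, k ∉ H₁ → ∀ x : L, x * k * x⁻¹ * k⁻¹ ∈ H₁ → x ∈ K) :
    K.index ∣ H₁.relIndex N - 1 := by
  classical
  haveI := hH₁
  let N' : Subgroup (L ⧸ H₁) := N.map (QuotientGroup.mk' H₁)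
  have hN' : N'.Normal := hN.map _ (QuotientGroup.mk'_surjective _)
  let X := {q : N' // q ≠ 1}
  letI : MulAction L X := {
    smul g k := ⟨⟨(g : L ⧸ H₁) * k.1 * (g : L ⧸ H₁)⁻¹, hN'.conj_mem _ k.1.2 g⟩, by
      intro h
      apply k.2
      have h1 : (g : L ⧸ H₁) * (k.1 : L ⧸ H₁) * (g : L ⧸ H₁)⁻¹ = 1 := congrArg Subtype.val h
      ext
      have h2 : (k.1 : L ⧸ H₁) = (g : L ⧸ H₁)⁻¹ * ((g : L ⧸ H₁) * (k.1 : L ⧸ H₁) *
        (g : L ⧸ H₁)⁻¹) * g := by group
      rw [h2, h1]; simp⟩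
    one_smul k := by
      apply Subtype.ext; apply Subtype.ext
      change ((1 : L) : L ⧸ H₁) * (k.1 : L ⧸ H₁) * ((1 : L) : L ⧸ H₁)⁻¹ = _
      simp
    mul_smul a b k := by
      apply Subtype.ext; apply Subtype.ext
      change ((a * b : L) : L ⧸ H₁) * (k.1 : L ⧸ H₁) * ((a * b : L) : L ⧸ H₁)⁻¹ =
        (a : L ⧸ H₁) * ((b : L ⧸ H₁) * (k.1 : L ⧸ H₁) * (b : L ⧸ H₁)⁻¹) * (a : L ⧸ H₁)⁻¹
      rw [QuotientGroup.mk_mul]
      group }
  have h2 : Nat.card X = H₁.relIndex N - 1 := by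
    have h3 : Nat.card N' = H₁.relIndex N := by
      rw [← Subgroup.relIndex_bot_left]
      have h4 := Subgroup.relIndex_map_map (H := H₁) (K := N) (QuotientGroup.mk' H₁)
      rw [QuotientGroup.ker_mk', sup_idem, sup_eq_left.2 h1] at h4
      rw [← h4]
      congr 1
      symm
      rw [Subgroup.map_eq_bot_iff, QuotientGroup.ker_mk']
    haveI := Fintype.ofFinite N'
    rw [← h3, Nat.card_eq_fintype_card, Nat.card_eq_fintype_card]
    exact Set.card_ne_eq (1 : N')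
  rw [← h2]
  apply index_dvd_card_of_stabilizer_le
  rintro ⟨⟨q, hq⟩, hq1⟩ g hg
  obtain ⟨k, hk, rfl⟩ := hq
  have h3 : (g : L ⧸ H₁) * (k : L ⧸ H₁) * (g : L ⧸ H₁)⁻¹ = k :=
    congrArg (fun x : X => ((x.1 : N') : L ⧸ H₁)) (MulAction.mem_stabilizer_iff.mp hg)
  apply hfrob k (hNK hk)
  · intro h
    apply hq1
    apply Subtype.ext
    exact (QuotientGroup.eq_one_iff k).2 h
  · rw [← QuotientGroup.eq_one_iff, QuotientGroup.mk_mul, QuotientGroup.mk_mul,
      QuotientGroup.mk_mul, QuotientGroup.mk_inv, QuotientGroup.mk_inv, h3]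
    group

theorem arith65 {e a b : ℕ} (he : Odd e) (ha : Odd a) (hb : Odd b) (ha1 : 1 < a) (hb1 : 1 < b)
    (hab : e ∣ a * b - 1) (hb' : e ∣ b - 1) : 4 * e ^ 2 + 1 < a * b := by
  have h1 : e ∣ a - 1 := by
    have h2 : e ∣ a * (b - 1) := hb'.mul_left a
    have h3 : a * b - 1 = a * (b - 1) + (a - 1) := by
      obtain ⟨c, rfl⟩ : ∃ c, b = c + 1 := ⟨b - 1, by omega⟩
      rw [Nat.add_sub_cancel, mul_add, mul_one]
      omega
    rw [h3] at hab
    exact (Nat.dvd_add_right h2).1 hab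
  have key : ∀ x : ℕ, Odd x → 1 < x → e ∣ x - 1 → 2 * e + 1 ≤ x := by
    intro x hx hx1 hd
    have h4 : 2 ∣ x - 1 := by
      obtain ⟨k, rfl⟩ := hx
      exact ⟨k, by omega⟩
    have h5 : 2 * e ∣ x - 1 := Nat.Coprime.mul_dvd_of_dvd_of_dvd
      (Nat.coprime_two_left.2 he) h4 hd
    have h6 := Nat.le_of_dvd (by omega) h5
    omega
  have h5 := key a ha ha1 h1
  have h6 := key b hb hb1 hb'
  have h7 := Nat.mul_le_mul h5 h6
  have h8 : 0 < e := he.pos
  nlinarith

/-- **PF 6.5** -/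
theorem pf65 (hK : K.Normal) (hsolv : Group.IsSolvable K)
    (hS : IsCoherenceSystem (inducedIrrAbove K ⊥) τ R) (hodd : Odd (Nat.card L)) {M : Subgroup L}
    (hM : M.Normal) (hMK : M ≤ K) (hnil : ∃ n, K.lowerCentralSeries n ≤ M)
    {H₁ : Subgroup L} (hH₁ : H₁ = ⁅K, K⁆ ⊔ M) (hH₁K : H₁ < K) (hKL : K < ⊤)
    (hfrob : ∀ k ∈ K, k ∉ H₁ → ∀ x : L, x * k * x⁻¹ * k⁻¹ ∈ H₁ → x ∈ K)
    (hgood : (∃ N : Subgroup L, N.Normal ∧ H₁ < N ∧ N < K) ∨
      4 * K.index ^ 2 + 1 < H₁.relIndex K ∨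
      (∀ q : ℕ, q.Prime → q ∣ M.relIndex K → q ∣ H₁.relIndex K) ∧
        (¬ ∃ p m : ℕ, p.Prime ∧ M.relIndex K = p ^ m) ∨ ⁅K, K⁆ ≤ M ∨
      (∃ p m : ℕ, p.Prime ∧ M.relIndex K = p ^ m ∧ K.index ∣ p - 1)) :
    IsCoherent (inducedIrrAbove K M) {1}ᶜ τ := by
  classical
  haveI := hK
  haveI := hM
  have hH₁n : H₁.Normal := by rw [hH₁]; infer_instance
  have hMH₁ : M ≤ H₁ := by rw [hH₁]; exact le_sup_right
  have hKK : ⁅K, K⁆ ≤ H₁ := by rw [hH₁]; exact le_sup_left
  have hsub : inducedIrrAbove K H₁ ⊆ inducedIrrAbove K ⊥ := above_mono bot_le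
  have hS₁ := sys_mono hS hsub (exists_above hK hH₁n hH₁K) (fun φ hφ => conj_above hφ)
  haveI := Fintype.ofFinite K
  -- all degrees equal
  have hdeg : ∀ φ ∈ inducedIrrAbove K H₁, φ 1 = K.index := by
    rintro _ ⟨θ, hθ, -, hθH, rfl⟩
    rw [indFun_one_apply]
    have h1 : θ 1 = 1 := by
      have h2 : ∀ x : K, ‖θ x‖ = ‖θ 1‖ := by
        intro x
        apply H11.PF.norm_of_central_mod_ker hθ
        intro y
        refine hθH _ (hKK ?_)
        have := Subgroup.commutator_mem_commutator (H₁ := K) (H₂ := K) x.2 y.2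
        rw [commutatorElement_def] at this
        exact this
      have h3 := classInner_self_of_irr hθ
      rw [classInner] at h3
      have h4 : ∀ x : K, θ x * conj (θ x) = θ 1 ^ 2 := by
        intro x
        rw [Complex.mul_conj, Complex.normSq_eq_norm_sq, h2 x]
        obtain ⟨n, hn⟩ := char_one_eq_nat (irr_isChar hθ)
        rw [hn]; simp
      rw [Finset.sum_congr rfl fun x _ => h4 x, Finset.sum_const, Finset.card_univ, nsmul_eq_mul,
        ← Nat.card_eq_fintype_card, ← mul_assoc, inv_mul_cancel₀ card_ne_zeroC, one_mul] at h3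
      obtain ⟨n, hn0, hn⟩ := irr_one_eq_nat hθ
      rw [hn] at h3 ⊢
      have h5 : n ^ 2 = 1 := by exact_mod_cast h3
      have h6 : n = 1 := (Nat.pow_eq_one.1 h5).resolve_right two_ne_zero
      rw [h6]; simp
    rw [h1, mul_one]
  have hcoh : IsCoherent (inducedIrrAbove K H₁) {1}ᶜ τ := by
    obtain ⟨τ₁, h₁⟩ := pf57 hS₁ (fun φ hφ ψ hψ => by rw [hdeg φ hφ, hdeg ψ hψ])
    obtain ⟨χ, hχ⟩ := hS₁.nonempty
    exact h₁.isCoherent (sys_nonzero hS hsub hχ (conj_above hχ))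
  by_cases hbig : 4 * K.index ^ 2 + 1 < H₁.relIndex K
  · exact pf63 hK hsolv hS hM hH₁n hK hMH₁ hH₁K.le le_rfl hnil hcoh hbig
  have he : Odd K.index := by
    rw [← K.card_mul_index] at hodd
    exact (Nat.odd_mul.1 hodd).2
  have hrel : ∀ A B : Subgroup L, Odd (A.relIndex B) := by
    intro A B
    have h1 := (A.subgroupOf B).card_mul_index
    have h2 : Odd (Nat.card B) := by
      rw [← B.card_mul_index] at hodd
      exact (Nat.odd_mul.1 hodd).1
    rw [← h1] at h2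
    exact (Nat.odd_mul.1 h2).2
  have hone : ∀ A B : Subgroup L, A < B → 1 < A.relIndex B := by
    intro A B h
    have h3 : A.relIndex B ≠ 1 := by
      rw [Ne, Subgroup.relIndex_eq_one]
      exact not_le_of_gt h
    have h4 : A.relIndex B ≠ 0 := Subgroup.index_ne_zero_of_finite
    omega
  have hnoN : ¬ ∃ N : Subgroup L, N.Normal ∧ H₁ < N ∧ N < K := by
    rintro ⟨N, hN, h1, h2⟩
    apply hbig
    have h3 : H₁.relIndex N * N.relIndex K = H₁.relIndex K :=
      Subgroup.relIndex_mul_relIndex H₁ N K h1.le h2.le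
    rw [← h3, mul_comm (H₁.relIndex N)]
    refine arith65 he (hrel N K) (hrel H₁ N) (hone _ _ h2) (hone _ _ h1) ?_
      (frob_dvd hH₁n hN h1.le h2.le hfrob)
    rw [mul_comm, h3]
    exact frob_dvd hH₁n hK hH₁K.le le_rfl hfrob
  have habel : ⁅K, K⁆ ≤ M → IsCoherent (inducedIrrAbove K M) {1}ᶜ τ := by
    intro h
    rw [show M = H₁ from by rw [hH₁, sup_eq_right.2 h]]
    exact hcoh
  rcases hgood with h | h | ⟨hpr, h⟩ | h | ⟨p, m, hp, hpm, hpe⟩
  · exact absurd h hnoN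
  · exact absurd h hbig
  · -- not a prime power
    exfalso
    -- `K/H₁` is a `p`-group for some `p`
    obtain ⟨p, hp, hpd⟩ := Nat.exists_prime_and_dvd (hone _ _ hH₁K).ne'
    -- the subgroup of elements with `p`-power order modulo `H₁`
    let N : Subgroup L := {
      carrier := {x | x ∈ K ∧ ∃ n : ℕ, x ^ p ^ n ∈ H₁}
      mul_mem' := by
        rintro a b ⟨ha, n, hn⟩ ⟨hb, k, hk⟩
        refine ⟨K.mul_mem ha hb, n + k, ?_⟩
        haveI := hH₁n
        rw [← QuotientGroup.eq_one_iff] at hn hk ⊢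
        have hab : Commute ((a : L) : L ⧸ H₁) (b : L) := by
          show ((a : L) : L ⧸ H₁) * (b : L) = (b : L) * (a : L)
          rw [← QuotientGroup.mk_mul, ← QuotientGroup.mk_mul, QuotientGroup.eq]
          have h1 := hKK (Subgroup.commutator_mem_commutator (K.inv_mem hb) (K.inv_mem ha))
          rw [commutatorElement_def] at h1
          have h2 : (a * b)⁻¹ * (b * a) = b⁻¹ * a⁻¹ * b⁻¹⁻¹ * a⁻¹⁻¹ := by group
          rw [h2]; exact h1
        rw [QuotientGroup.mk_pow] at hn hk ⊢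
        rw [QuotientGroup.mk_mul, hab.mul_pow, pow_add, pow_mul, hn, one_pow, one_mul,
          mul_comm (p ^ n), pow_mul, hk, one_pow]
      one_mem' := ⟨K.one_mem, 0, by simp [H₁.one_mem]⟩
      inv_mem' := by
        rintro a ⟨ha, n, hn⟩
        exact ⟨K.inv_mem ha, n, by rw [inv_pow]; exact H₁.inv_mem hn⟩ }
    have hN : N.Normal := ⟨fun x hx g => ⟨hK.conj_mem x hx.1 g, by
      obtain ⟨n, hn⟩ := hx.2
      exact ⟨n, by rw [conj_pow]; exact hH₁n.conj_mem _ hn g⟩⟩⟩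
    have hH₁N : H₁ ≤ N := fun x hx => ⟨hH₁K.le hx, 0, by simpa using hx⟩
    have hNK : N ≤ K := fun x hx => hx.1
    have hH₁N' : H₁ ≠ N := by
      intro h1
      -- there is an element of order `p` in `K/H₁`
      haveI : Fact p.Prime := ⟨hp⟩
      haveI := hH₁n
      have h2 : p ∣ Nat.card (K ⧸ H₁.subgroupOf K) := hpd
      obtain ⟨q, hq⟩ := exists_prime_orderOf_dvd_card' p h2
      obtain ⟨x, rfl⟩ := QuotientGroup.mk_surjective q
      have h3 : (x : L) ^ p ∈ H₁ := by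
        have h4 : ((x : K) : K ⧸ H₁.subgroupOf K) ^ p = 1 := by rw [← hq]; exact pow_orderOf_eq_one _
        rw [← QuotientGroup.mk_pow, QuotientGroup.eq_one_iff] at h4
        exact h4
      have h5 : (x : L) ∈ N := ⟨x.2, 1, by rwa [pow_one]⟩
      rw [← h1] at h5
      have h6 : ((x : K) : K ⧸ H₁.subgroupOf K) = 1 := (QuotientGroup.eq_one_iff x).2 h5
      rw [h6, orderOf_one] at hq
      exact hp.one_lt.ne hq
    have hNeq : N = K := by
      by_contra hne
      exact hnoN ⟨N, hN, lt_of_le_of_ne hH₁N hH₁N', lt_of_le_of_ne hNK hne⟩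
    -- hence `[K:H₁]` is a power of `p`
    have hpow : ∀ q : ℕ, q.Prime → q ∣ H₁.relIndex K → q = p := by
      intro q hq hqd
      haveI : Fact q.Prime := ⟨hq⟩
      haveI := hH₁n
      have h2 : q ∣ Nat.card (K ⧸ H₁.subgroupOf K) := hqd
      obtain ⟨y, hy⟩ := exists_prime_orderOf_dvd_card' q h2
      obtain ⟨x, rfl⟩ := QuotientGroup.mk_surjective y
      have h3 : (x : L) ∈ N := by rw [hNeq]; exact x.2
      obtain ⟨-, n, hn⟩ := h3
      have h4 : ((x : K) : K ⧸ H₁.subgroupOf K) ^ p ^ n = 1 := by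
        rw [← QuotientGroup.mk_pow, QuotientGroup.eq_one_iff]
        exact hn
      have h5 := orderOf_dvd_of_pow_eq_one h4
      rw [hy] at h5
      exact (Nat.prime_dvd_prime_iff_eq hq hp).1 (hq.dvd_of_dvd_pow h5)
    apply h
    refine ⟨p, (M.relIndex K).factorization p, hp, ?_⟩
    have h0 : M.relIndex K ≠ 0 := Subgroup.index_ne_zero_of_finite
    exact Nat.eq_prime_pow_of_unique_prime_dvd h0 (fun {q} hq hd => hpow q hq (hpr q hq hd)) |>.trans
      (by
        have h7 := Nat.eq_prime_pow_of_unique_prime_dvd (n := M.relIndex K) (p := p) h0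
          (fun {q} hq hd => hpow q hq (hpr q hq hd))
        conv_rhs => rw [h7, hp.factorization_pow, Finsupp.single_eq_same])
  · exact habel h
  · -- `e ∣ p - 1`
    apply habel
    have hdvd : H₁.relIndex K ∣ p ^ m := by
      rw [← hpm]
      exact Subgroup.relIndex_dvd_of_le_left K hMH₁
    obtain ⟨j, hj, hj'⟩ := (Nat.dvd_prime_pow hp).1 hdvd
    have hj1 : j = 1 := by
      have h1 := hone _ _ hH₁K
      rw [hj'] at h1
      have hj0 : j ≠ 0 := by rintro rfl; simp at h1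
      by_contra hj1
      apply hbig
      have hp2 : Odd p := by
        have h2 := hrel H₁ K
        rw [hj'] at h2
        rcases hp.eq_two_or_odd' with h3 | h3
        · rw [h3] at h2
          exact absurd (Nat.even_pow.2 ⟨even_two, hj0⟩) (Nat.not_even_iff_odd.2 h2)
        · exact h3
      have h3 : 2 * K.index + 1 ≤ p := by
        have h4 : 2 ∣ p - 1 := by
          obtain ⟨k, rfl⟩ := hp2
          exact ⟨k, by omega⟩
        have h5 : 2 * K.index ∣ p - 1 := Nat.Coprime.mul_dvd_of_dvd_of_dvd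
          (Nat.coprime_two_left.2 he) h4 hpe
        have h6 := Nat.le_of_dvd (by have := hp.one_lt; omega) h5
        have := hp.one_lt
        omega
      have h6 : p ^ 2 ≤ p ^ j := Nat.pow_le_pow_right hp.pos (by omega)
      rw [hj']
      have h7 : (2 * K.index + 1) ^ 2 ≤ p ^ 2 := Nat.pow_le_pow_left h3 2
      have h8 : 0 < K.index := he.pos
      nlinarith
    rw [hj1, pow_one] at hj'
    -- `K/H₁` is cyclic of order `p`
    haveI : Fact p.Prime := ⟨hp⟩
    refine nil_step' hnil (Subgroup.commutator_le_left K K) le_rfl hM hK ?_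
    -- show `[K,K] ≤ [[K,K],K] M`
    set T : Subgroup L := ⁅⁅K, K⁆, K⁆ ⊔ M with hT
    have hTn : T.Normal := by rw [hT]; infer_instance
    have hTH₁ : T ≤ H₁ := by
      rw [hT]
      exact sup_le ((Subgroup.commutator_le_left _ _).trans hKK) hMH₁
    rw [Subgroup.commutator_le]
    -- choose `x ∈ K \ H₁`
    obtain ⟨x, hxK, hxH⟩ := SetLike.exists_of_lt hH₁K
    have hgen : ∀ k ∈ K, ∃ n : ℤ, ∃ t ∈ H₁, k = x ^ n * t := by
      intro k hk
      haveI := hH₁n
      haveI : IsCyclic (K ⧸ H₁.subgroupOf K) := isCyclic_of_prime_card hj'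
      have h1 : Subgroup.zpowers ((⟨x, hxK⟩ : K) : K ⧸ H₁.subgroupOf K) = ⊤ := by
        apply Subgroup.eq_top_of_card_eq
        have h2 : orderOf ((⟨x, hxK⟩ : K) : K ⧸ H₁.subgroupOf K) = p := by
          have h3 : orderOf ((⟨x, hxK⟩ : K) : K ⧸ H₁.subgroupOf K) ∣ p := by
            have := orderOf_dvd_natCard ((⟨x, hxK⟩ : K) : K ⧸ H₁.subgroupOf K)
            rwa [show Nat.card (K ⧸ H₁.subgroupOf K) = p from hj'] at this
          rcases (Nat.dvd_prime hp).1 h3 with h4 | h4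
          · exfalso
            rw [orderOf_eq_one_iff, QuotientGroup.eq_one_iff] at h4
            exact hxH h4
          · exact h4
        rw [Nat.card_zpowers, h2]
        exact hj'.symm
      have h2 : ((⟨k, hk⟩ : K) : K ⧸ H₁.subgroupOf K) ∈
          Subgroup.zpowers ((⟨x, hxK⟩ : K) : K ⧸ H₁.subgroupOf K) := by rw [h1]; trivial
      obtain ⟨n, hn⟩ := h2
      have h3 : ((⟨x, hxK⟩ : K) : K ⧸ H₁.subgroupOf K) ^ n = ((⟨k, hk⟩ : K) : K ⧸ H₁.subgroupOf K) := hn
      rw [← QuotientGroup.mk_zpow, QuotientGroup.eq] at h3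
      refine ⟨n, (x ^ n)⁻¹ * k, h3, by group⟩
    -- `H₁` is central mod `T`
    have hcen : ∀ t ∈ H₁, ∀ y ∈ K, ⁅t, y⁆ ∈ T := by
      intro t ht y hy
      rw [hH₁] at ht
      obtain ⟨a, ha, b, hb, rfl⟩ := Subgroup.mem_sup_of_normal_right.1 ht
      have e1 : ⁅a * b, y⁆ = a * ⁅b, y⁆ * a⁻¹ * ⁅a, y⁆ := by
        simp only [commutatorElement_def]; group
      rw [e1]
      refine T.mul_mem (hTn.conj_mem _ ?_ _) ?_
      · rw [commutatorElement_def]
        have : b * y * b⁻¹ * y⁻¹ = b * (y * b⁻¹ * y⁻¹) := by group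
        rw [this]
        have hMT : M ≤ T := le_sup_right
        exact T.mul_mem (hMT hb) (hMT (hM.conj_mem _ (M.inv_mem hb) _))
      · exact (le_sup_left : ⁅⁅K, K⁆, K⁆ ≤ T) (Subgroup.commutator_mem_commutator ha hy)
    intro a ha b hb
    obtain ⟨n, s, hs, rfl⟩ := hgen a ha
    obtain ⟨k, t, ht, rfl⟩ := hgen b hb
    haveI := hTn
    rw [← QuotientGroup.eq_one_iff, commutatorElement_def]
    have hc : ∀ t ∈ H₁, ∀ y ∈ K, ((t : L) : L ⧸ T) * (y : L) = (y : L) * (t : L) := by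
      intro t ht y hy
      have h1 := hcen t ht y hy
      rw [← QuotientGroup.eq_one_iff, commutatorElement_def, QuotientGroup.mk_mul,
        QuotientGroup.mk_mul, QuotientGroup.mk_mul, QuotientGroup.mk_inv, QuotientGroup.mk_inv]
        at h1
      have h2 := mul_eq_one_iff_eq_inv.1 h1
      rw [inv_inv] at h2
      exact mul_inv_eq_iff_eq_mul.1 h2
    have e1 := hc s hs (x ^ k) (K.zpow_mem hxK k)
    have e2 := hc t ht (x ^ n) (K.zpow_mem hxK n)
    have e3 := hc s hs t (hH₁K.le ht)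
    have hxx : ((x ^ n : L) : L ⧸ T) * ((x ^ k : L) : L ⧸ T) =
        ((x ^ k : L) : L ⧸ T) * ((x ^ n : L) : L ⧸ T) := by
      rw [← QuotientGroup.mk_mul, ← QuotientGroup.mk_mul, ← zpow_add, ← zpow_add, add_comm]
    have hcomm : (((x ^ n * s : L)) : L ⧸ T) * ((x ^ k * t : L) : L ⧸ T) =
        ((x ^ k * t : L) : L ⧸ T) * ((x ^ n * s : L) : L ⧸ T) := by
      simp only [QuotientGroup.mk_mul]
      calc ((x ^ n : L) : L ⧸ T) * (s : L) * (((x ^ k : L) : L ⧸ T) * (t : L))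
          = ((x ^ n : L) : L ⧸ T) * ((s : L) * ((x ^ k : L) : L ⧸ T)) * (t : L) := by group
        _ = ((x ^ n : L) : L ⧸ T) * (((x ^ k : L) : L ⧸ T) * (s : L)) * (t : L) := by rw [e1]
        _ = (((x ^ n : L) : L ⧸ T) * ((x ^ k : L) : L ⧸ T)) * ((s : L) * (t : L)) := by group
        _ = (((x ^ k : L) : L ⧸ T) * ((x ^ n : L) : L ⧸ T)) * ((t : L) * (s : L)) := by
            rw [e3, hxx]
        _ = ((x ^ k : L) : L ⧸ T) * (((x ^ n : L) : L ⧸ T) * (t : L)) * (s : L) := by group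
        _ = ((x ^ k : L) : L ⧸ T) * ((t : L) * ((x ^ n : L) : L ⧸ T)) * (s : L) := by rw [e2]
        _ = _ := by group
    have e4 : ∀ u v : L, ((u : L) : L ⧸ T) * (v : L) = (v : L) * (u : L) →
        ((u * v * u⁻¹ * v⁻¹ : L) : L ⧸ T) = 1 := by
      intro u v huv
      rw [QuotientGroup.mk_mul, QuotientGroup.mk_mul, QuotientGroup.mk_mul, huv,
        QuotientGroup.mk_inv, QuotientGroup.mk_inv]
      group
    exact e4 _ _ hcomm

end Cfsg.Agent.H3
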