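import Cfsg.Agent.H3.IndCoh2
import Cfsg.Agent.H3.Integral

/-!
# Coherence of induced characters (PF 6.7) (helper3)
-/

set_option autoImplicit false
set_option linter.style.haveILetI false
set_option linter.unusedSimpArgs false
set_option linter.unusedSectionVars false
set_option linter.unusedVariables false
open Cfsg
open scoped ComplexConjugate commutatorElement

namespace Cfsg.Agent.H3

universe u v w

variable {L : Type u} [Group L] [Fintype L] {K : Subgroup L}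
variable {G : Type v} [Group G] [Fintype G] {τ : (L → ℂ) → (G → ℂ)}
  {R : (L → ℂ) → Finset (G → ℂ)}

/-- membership in `S(Z)` is detected by any character inducing to `φ` -/
theorem ind_mem_above_iff (hK : K.Normal) {Z : Subgroup L} (hZ : Z.Normal) {θ : K → ℂ}
    (hθ : IsIrrCharacter K θ) : indFun K θ ∈ inducedIrrAbove K Z ↔
      θ ≠ (fun _ => 1) ∧ ∀ a : K, (a : L) ∈ Z → θ a = θ 1 := by
  haveI := Fintype.ofFinite (IrrCharacter K)
  constructor
  · intro h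
    rw [← mem_Sa] at h
    classical
    obtain ⟨η, hη, hηθ⟩ := Finset.mem_image.1 h
    exact mem_Fa.1 (Fa_closed hK hZ η hη ⟨θ, hθ⟩ hηθ.symm)
  · rintro ⟨h1, h2⟩
    exact ⟨θ, hθ, h1, h2, rfl⟩

theorem inner_restrict_ind_ne_zero (hK : K.Normal) [Fintype K] {θ : K → ℂ}
    (hθ : IsIrrCharacter K θ) : classInner (fun k : K => indFun K θ k) θ ≠ 0 := by
  rw [← frobenius_reciprocity' K θ (indFun_classFun K θ)]
  exact norm_ind_ne_zero hK hθ

/-- the first part of (6.7) -/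
theorem above_compl_eq (hK : K.Normal) {Z : Subgroup L} (hZ : Z.Normal) (hZK : Z ≤ K)
    (hirr : ∀ χ ∈ inducedIrrAbove K ⊥ \ inducedIrrAbove K Z, IsIrrCharacter L χ) :
    inducedIrrAbove K ⊥ \ inducedIrrAbove K Z = {χ | IsIrrCharacter L χ ∧ ∃ z ∈ Z, χ z ≠ χ 1} := by
  classical
  haveI := Fintype.ofFinite K
  ext χ
  constructor
  · intro hχ
    refine ⟨hirr χ hχ, ?_⟩
    obtain ⟨⟨θ, hθ, hθ1, -, rfl⟩, h2⟩ := hχ
    rw [ind_mem_above_iff hK hZ hθ] at h2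
    by_contra hcon
    push Not at hcon
    apply h2
    refine ⟨hθ1, fun a ha => ?_⟩
    exact H11.PF.ker_constituent (isChar_restrict K (isChar_ind K (irr_isChar hθ))) hθ
      (inner_restrict_ind_ne_zero hK hθ) (hcon a ha)
  · rintro ⟨hχ, z, hz, hzχ⟩
    have hres := isChar_restrict K (irr_isChar hχ)
    have h0 : (fun k : K => χ k) ≠ 0 := by
      intro h
      exact irr_one_ne_zero hχ (by simpa using congrFun h 1)
    obtain ⟨θ, hθ⟩ := exists_constituent hres h0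
    have hnot : ¬ ∀ a : K, (a : L) ∈ Z → (θ : K → ℂ) a = (θ : K → ℂ) 1 := by
      intro hall
      apply hzχ
      have h1 := clifford_sum hK hχ θ.2 hθ
      have h2 := congrFun h1 ⟨z, hZK hz⟩
      have h3 := congrFun h1 1
      simp only [Pi.smul_apply, Finset.sum_apply, smul_eq_mul, cj_one_apply] at h2 h3
      have h4 : ∀ x : L, cj hK x (θ : K → ℂ) ⟨z, hZK hz⟩ = (θ : K → ℂ) 1 := by
        intro x
        rw [cj_apply]
        exact hall _ (hZ.conj_mem z hz x)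
      rw [Finset.sum_congr rfl fun x _ => h4 x] at h2
      have h5 : (Nat.card (inertia hK (θ : K → ℂ)) : ℂ) ≠ 0 := by
        exact_mod_cast Nat.card_pos.ne'
      exact mul_left_cancel₀ h5 (h2.trans h3.symm)
    have hθ1 : (θ : K → ℂ) ≠ (fun _ => 1) := fun h => hnot (by rw [h]; intro _ _; rfl)
    have hmem : indFun K (θ : K → ℂ) ∈ inducedIrrAbove K ⊥ \ inducedIrrAbove K Z := by
      refine ⟨⟨θ, θ.2, hθ1, fun a ha => ?_, rfl⟩, fun h => hnot ((ind_mem_above_iff hK hZ θ.2).1 h).2⟩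
      rw [Subgroup.mem_bot] at ha
      rw [show a = 1 from Subtype.ext ha]
    have h1 := hirr _ hmem
    have h2 : χ = indFun K (θ : K → ℂ) := by
      by_contra hne
      have h3 := classInner_of_irr_ne h1 hχ (fun h => hne h.symm)
      rw [frobenius_reciprocity K _ (irr_classFun hχ)] at h3
      exact hθ (by rw [← classInner_conj_symm, h3, map_zero])
    rw [h2]; exact hmem


/-- the arithmetic of (6.7): `a i` are powers of `p`, `∑ a i ^ 2` divisible by `a j ^ 2` -/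
theorem arith67 {ι : Type w} [DecidableEq ι] {p : ℕ} (hp : p.Prime) (X : Finset ι) (a : ι → ℕ)
    (ha : ∀ i ∈ X, ∃ k, a i = p ^ k) {j : ι} (hj : j ∈ X) (hdvd : a j ^ 2 ∣ ∑ i ∈ X, a i ^ 2)
    {i₀ : ι} (hi₀ : i₀ ∈ X) (hlt : a i₀ < a j) :
    a j ^ 2 ≤ ∑ i ∈ X.filter (fun i => a i < a j), a i ^ 2 := by
  have h1 : a j ^ 2 ∣ ∑ i ∈ X.filter (fun i => ¬ a i < a j), a i ^ 2 := by
    refine Finset.dvd_sum fun i hi => ?_
    obtain ⟨hi1, hi2⟩ := Finset.mem_filter.1 hi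
    obtain ⟨k, hk⟩ := ha i hi1
    obtain ⟨l, hl⟩ := ha j hj
    rw [hk, hl] at hi2 ⊢
    exact pow_dvd_pow_of_dvd (pow_dvd_pow p ((Nat.pow_le_pow_iff_right hp.one_lt).1
      (not_lt.1 hi2))) 2
  rw [← Finset.sum_filter_add_sum_filter_not X (fun i => a i < a j)] at hdvd
  have h2 := (Nat.dvd_add_left h1).1 hdvd
  refine Nat.le_of_dvd ?_ h2
  refine Finset.sum_pos' (fun _ _ => Nat.zero_le _) ⟨i₀, Finset.mem_filter.2 ⟨hi₀, hlt⟩, ?_⟩
  obtain ⟨k, hk⟩ := ha i₀ hi₀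
  rw [hk]
  exact pow_pos (pow_pos hp.pos _) _

/-- (6.7) for `p`-groups -/
theorem pf67_aux (hK : K.Normal) (hS : IsCoherenceSystem (inducedIrrAbove K ⊥) τ R)
    {p n : ℕ} (hp : p.Prime) (hp2 : p ≠ 2) (hpK : Nat.card K = p ^ n)
    (hcop : Nat.Coprime p K.index) {Z : Subgroup L} (hZ : Z.Normal) (hZK : Z ≤ K) (hZ1 : Z ≠ ⊥)
    (hZc : ∀ z ∈ Z, ∀ k ∈ K, z * k = k * z)
    (hirr : ∀ χ ∈ inducedIrrAbove K ⊥ \ inducedIrrAbove K Z, IsIrrCharacter L χ) :
    ∃ τ₁, CohMap (inducedIrrAbove K ⊥ \ inducedIrrAbove K Z) τ τ₁ := by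
  classical
  haveI := Fintype.ofFinite K
  haveI := Fintype.ofFinite (IrrCharacter K)
  set X : Finset (L → ℂ) := Sa (K := K) ⊥ \ Sa (K := K) Z with hX
  have hXcoe : (↑X : Set (L → ℂ)) = inducedIrrAbove K ⊥ \ inducedIrrAbove K Z := by
    rw [hX, Finset.coe_sdiff, coe_Sa, coe_Sa]
  have hXm : ∀ χ, χ ∈ X ↔ χ ∈ inducedIrrAbove K ⊥ \ inducedIrrAbove K Z := fun χ => by
    rw [← hXcoe]; rfl
  rw [← hXcoe]
  have hXS : (↑X : Set (L → ℂ)) ⊆ inducedIrrAbove K ⊥ := by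
    rw [hXcoe]; exact Set.diff_subset
  have hXc : ∀ φ ∈ X, conjFun φ ∈ X := by
    intro φ hφ
    rw [hXm] at hφ ⊢
    refine ⟨conj_above hφ.1, fun h => hφ.2 ?_⟩
    rw [← conjFun_conjFun φ]
    exact conj_above h
  have he0 : 0 < K.index := Nat.pos_of_ne_zero Subgroup.index_ne_zero_of_finite
  have hZcent : ∀ x ∈ Z, ∀ y ∈ K, x * y * x⁻¹ * y⁻¹ ∈ (⊥ : Subgroup L) := by
    intro x hx y hy
    rw [Subgroup.mem_bot, hZc x hx y hy]; group
  -- the reduced degrees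
  have hdat : ∀ χ ∈ X, ∃ k, dg χ = K.index * p ^ k ∧ (p ^ k) ^ 2 ∣ Z.relIndex K := by
    intro χ hχ
    rw [hXm] at hχ
    obtain ⟨⟨θ, hθ, hθ1, -, rfl⟩, -⟩ := hχ
    have h1 : dg θ ∣ p ^ n := by
      rw [← hpK]; exact irr_degree_dvd_card hθ (dg_eq (irr_isChar hθ))
    obtain ⟨k, -, hk⟩ := (Nat.dvd_prime_pow hp).1 h1
    refine ⟨k, by rw [dg_ind (irr_isChar hθ), hk], ?_⟩
    have h2 := deg_bound (B := ⊥) (C := K) (D := Z) hZK le_rfl hZcent hθ (by
      intro a ha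
      rw [Subgroup.mem_bot] at ha
      rw [show a = 1 from Subtype.ext ha])
    rw [Subgroup.relIndex_self, one_pow, one_mul, hk] at h2
    have h3 : Z.relIndex K ∣ p ^ n := by
      rw [← hpK]; exact (Z.subgroupOf K).index_dvd_card
    obtain ⟨m, -, hm⟩ := (Nat.dvd_prime_pow hp).1 h3
    rw [hm, ← pow_mul] at h2 ⊢
    exact pow_dvd_pow p ((Nat.pow_le_pow_iff_right hp.one_lt).1 h2)
  let a : (L → ℂ) → ℕ := fun χ => dg χ / K.index
  have ha : ∀ χ ∈ X, dg χ = K.index * a χ := by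
    intro χ hχ
    obtain ⟨k, hk, -⟩ := hdat χ hχ
    show _ = K.index * (dg χ / K.index)
    rw [hk, Nat.mul_div_cancel_left _ he0]
  have ha' : ∀ χ ∈ X, ∃ k, a χ = p ^ k := by
    intro χ hχ
    obtain ⟨k, hk, -⟩ := hdat χ hχ
    exact ⟨k, by show dg χ / K.index = _; rw [hk, Nat.mul_div_cancel_left _ he0]⟩
  have ha2 : ∀ χ ∈ X, a χ ^ 2 ∣ Z.relIndex K := by
    intro χ hχ
    obtain ⟨k, hk, hk2⟩ := hdat χ hχ
    have : a χ = p ^ k := by show dg χ / K.index = _; rw [hk, Nat.mul_div_cancel_left _ he0]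
    rw [this]; exact hk2
  -- the sum over `X`
  have hnm : ∀ χ ∈ X, nm χ = 1 := fun χ hχ => nm_irr (hirr χ ((hXm χ).1 hχ))
  have hsub : Sa (K := K) Z ⊆ Sa (K := K) ⊥ := by
    intro φ hφ
    rw [mem_Sa] at hφ ⊢
    exact above_mono bot_le hφ
  have hsum : K.index * ∑ χ ∈ X, a χ ^ 2 + Z.relIndex K = Nat.card K := by
    have h1 := sum_Sa (K := K) hK (A := ⊥) inferInstance bot_le
    have h2 := sum_Sa (K := K) hK hZ hZK
    rw [← Finset.sum_sdiff hsub, h2, Subgroup.relIndex_bot_left] at h1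
    have h3 : ∑ χ ∈ Sa (K := K) ⊥ \ Sa (K := K) Z, ((dg χ : ℝ) ^ 2 / nm χ) =
        (K.index : ℝ) ^ 2 * ∑ χ ∈ X, (a χ : ℝ) ^ 2 := by
      rw [Finset.mul_sum]
      refine Finset.sum_congr rfl fun χ hχ => ?_
      rw [hnm χ hχ, ha χ hχ]; push_cast; ring
    rw [h3] at h1
    have h4 : (K.index : ℝ) ≠ 0 := by exact_mod_cast he0.ne'
    have h5 : (K.index : ℝ) * ((K.index : ℝ) * ∑ χ ∈ X, (a χ : ℝ) ^ 2 + Z.relIndex K) =
        (K.index : ℝ) * Nat.card K := by linear_combination h1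
    have h6 := mul_left_cancel₀ h4 h5
    exact_mod_cast h6
  have hcard : Z.relIndex K * Nat.card Z = Nat.card K := by
    rw [mul_comm, ← Subgroup.relIndex_bot_left Z, ← Subgroup.relIndex_bot_left K]
    exact Subgroup.relIndex_mul_relIndex ⊥ Z K bot_le hZK
  have hZcard : 1 < Nat.card Z := by
    haveI : Nontrivial Z := (Subgroup.nontrivial_iff_ne_bot Z).2 hZ1
    exact Finite.one_lt_card
  have hZrel : 0 < Z.relIndex K := Nat.pos_of_ne_zero Subgroup.index_ne_zero_of_finite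
  have hdvdsum : ∀ χ ∈ X, a χ ^ 2 ∣ ∑ χ ∈ X, a χ ^ 2 := by
    intro χ hχ
    obtain ⟨k, hk⟩ := ha' χ hχ
    have h1 : a χ ^ 2 ∣ K.index * ∑ χ ∈ X, a χ ^ 2 := by
      have h2 := (ha2 χ hχ).mul_right (Nat.card Z)
      rw [hcard, ← hsum] at h2
      exact (Nat.dvd_add_left (ha2 χ hχ)).1 h2
    refine Nat.Coprime.dvd_of_dvd_mul_left ?_ h1
    rw [hk, ← pow_mul]
    exact Nat.Coprime.pow_left _ hcop
  have hXne : X.Nonempty := by
    rw [Finset.nonempty_iff_ne_empty]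
    intro h
    rw [h, Finset.sum_empty, mul_zero, zero_add, ← hcard] at hsum
    have h1 : Z.relIndex K * 1 = Z.relIndex K * Nat.card Z := by rw [mul_one]; exact hsum
    have h2 := Nat.eq_of_mul_eq_mul_left hZrel h1
    omega
  -- the base
  obtain ⟨χ₀, hχ₀, hmin⟩ := Finset.exists_min_image X dg hXne
  set X₀ : Finset (L → ℂ) := X.filter (fun χ => dg χ = dg χ₀) with hX₀
  have hX₀X : X₀ ⊆ X := Finset.filter_subset _ _
  have hdgc : ∀ φ : L → ℂ, dg (conjFun φ) = dg φ := by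
    intro φ
    show Nat.floor (conj (φ 1)).re = Nat.floor (φ 1).re
    rw [Complex.conj_re]
  have hX₀c : ∀ φ ∈ X₀, conjFun φ ∈ X₀ := by
    intro φ hφ
    rw [hX₀, Finset.mem_filter] at hφ ⊢
    exact ⟨hXc φ hφ.1, by rw [hdgc]; exact hφ.2⟩
  have hX₀S : (↑X₀ : Set (L → ℂ)) ⊆ inducedIrrAbove K ⊥ := fun φ hφ => hXS (hX₀X hφ)
  have hS₀ : IsCoherenceSystem (↑X₀ : Set (L → ℂ)) τ R :=
    sys_mono hS hX₀S ⟨χ₀, Finset.mem_coe.2 (Finset.mem_filter.2 ⟨hχ₀, rfl⟩)⟩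
      (fun φ hφ => hX₀c φ hφ)
  obtain ⟨τ₀, h₀⟩ := pf57 hS₀ (by
    intro φ hφ ψ hψ
    rw [dg_eq (hS₀.isCharacter φ hφ), dg_eq (hS₀.isCharacter ψ hψ),
      (Finset.mem_filter.1 hφ).2, (Finset.mem_filter.1 hψ).2])
  obtain ⟨τ₂, h₂, -⟩ := coh_extend hS X₀ X hX₀S hXS hX₀c hXc h₀ (by
    intro S₁ hX1 hS1 hc hY
    have hS1X : S₁ ⊆ X := by
      rw [Finset.union_eq_right.2 hX₀X] at hS1; exact hS1
    have hne : (X \ S₁).Nonempty := by
      obtain ⟨χ, hχ, hχ'⟩ := Finset.not_subset.1 hY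
      exact ⟨χ, Finset.mem_sdiff.2 ⟨hχ, hχ'⟩⟩
    obtain ⟨χ, hχ, hχmin⟩ := Finset.exists_min_image (X \ S₁) dg hne
    obtain ⟨hχX, hχS⟩ := Finset.mem_sdiff.1 hχ
    have hχ₀S : χ₀ ∈ S₁ := hX1 (Finset.mem_filter.2 ⟨hχ₀, rfl⟩)
    have hlt : dg χ₀ < dg χ := by
      refine lt_of_le_of_ne (hmin χ hχX) fun h => hχS ?_
      exact hX1 (Finset.mem_filter.2 ⟨hχX, h.symm⟩)
    have halt : a χ₀ < a χ := by
      rw [ha χ₀ hχ₀, ha χ hχX] at hlt
      exact lt_of_mul_lt_mul_left hlt (Nat.zero_le _)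
    obtain ⟨k, hk⟩ := ha' χ hχX
    obtain ⟨l, hl⟩ := ha' χ₀ hχ₀
    have hlk : l < k := by
      rw [hk, hl] at halt
      exact (Nat.pow_lt_pow_iff_right hp.one_lt).1 halt
    refine ⟨χ, hχX, hχS, χ₀, hχ₀S, ?_, ?_⟩
    · rw [ha χ hχX, ha χ₀ hχ₀, hk, hl]
      exact mul_dvd_mul_left _ (pow_dvd_pow p hlk.le)
    · have h1 := arith67 hp X a ha' hχX (hdvdsum χ hχX) hχ₀ halt
      have h2 : ∑ φ ∈ X.filter (fun φ => a φ < a χ), ((dg φ : ℝ) ^ 2 / nm φ) ≤
          ∑ φ ∈ S₁, ((dg φ : ℝ) ^ 2 / nm φ) := by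
        apply Finset.sum_le_sum_of_subset_of_nonneg
        · intro φ hφ
          obtain ⟨hφX, hφa⟩ := Finset.mem_filter.1 hφ
          by_contra hφS
          have h3 := hχmin φ (Finset.mem_sdiff.2 ⟨hφX, hφS⟩)
          rw [ha χ hχX, ha φ hφX] at h3
          exact absurd (Nat.le_of_mul_le_mul_left h3 he0) (not_le.2 hφa)
        · intro _ _ _; positivity
      refine lt_of_lt_of_le ?_ h2
      have h3 : ∑ φ ∈ X.filter (fun φ => a φ < a χ), ((dg φ : ℝ) ^ 2 / nm φ) =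
          (K.index : ℝ) ^ 2 * ((∑ φ ∈ X.filter (fun φ => a φ < a χ), a φ ^ 2 : ℕ) : ℝ) := by
        push_cast
        rw [Finset.mul_sum]
        refine Finset.sum_congr rfl fun φ hφ => ?_
        rw [hnm φ (Finset.mem_filter.1 hφ).1, ha φ (Finset.mem_filter.1 hφ).1]; push_cast; ring
      rw [h3]
      have h4 : ((a χ ^ 2 : ℕ) : ℝ) ≤
          ((∑ φ ∈ X.filter (fun φ => a φ < a χ), a φ ^ 2 : ℕ) : ℝ) := by exact_mod_cast h1
      have h5 : 2 * a χ₀ < a χ := by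
        rw [hk, hl]
        have h6 : p * p ^ l ≤ p ^ k := by
          rw [← pow_succ']; exact Nat.pow_le_pow_right hp.pos hlk
        have h7 : 2 < p := lt_of_le_of_ne hp.two_le (fun h => hp2 h.symm)
        exact lt_of_lt_of_le (Nat.mul_lt_mul_of_pos_right h7 (pow_pos hp.pos _)) h6
      have h6 : (2 * a χ₀ : ℝ) < a χ := by exact_mod_cast h5
      have h7 : (0 : ℝ) < K.index := by exact_mod_cast he0
      have h8 : (0 : ℝ) < a χ := by
        rw [hk]; exact_mod_cast pow_pos hp.pos _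
      rw [ha χ hχX, ha χ₀ hχ₀]
      push_cast at h4 ⊢
      have h9 : 2 * (a χ₀ : ℝ) * a χ < (a χ : ℝ) ^ 2 := by nlinarith
      have h10 : (0 : ℝ) < (K.index : ℝ) ^ 2 := by positivity
      nlinarith)
  exact ⟨τ₂, h₂.mono (by rw [Finset.coe_union]; exact Set.subset_union_right)⟩

theorem exists_compl_above (hK : K.Normal) {Z : Subgroup L} (hZ : Z.Normal) (hZK : Z ≤ K)
    (hZ1 : Z ≠ ⊥) : (inducedIrrAbove K ⊥ \ inducedIrrAbove K Z).Nonempty := by
  classical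
  haveI := Fintype.ofFinite (IrrCharacter K)
  have h1 := sum_Fa (K := K) hK (A := ⊥) inferInstance bot_le
  have h2 := sum_Fa (K := K) hK hZ hZK
  have hcard : Z.relIndex K * Nat.card Z = (⊥ : Subgroup L).relIndex K := by
    rw [mul_comm, ← Subgroup.relIndex_bot_left Z]
    exact Subgroup.relIndex_mul_relIndex ⊥ Z K bot_le hZK
  have hZcard : 1 < Nat.card Z := by
    haveI : Nontrivial Z := (Subgroup.nontrivial_iff_ne_bot Z).2 hZ1
    exact Finite.one_lt_card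
  have hZrel : 0 < Z.relIndex K := Nat.pos_of_ne_zero Subgroup.index_ne_zero_of_finite
  have h3 : ∃ θ ∈ Fa (K := K) ⊥, θ ∉ Fa (K := K) Z := by
    by_contra hcon
    push Not at hcon
    have h4 : Fa (K := K) (⊥ : Subgroup L) ⊆ Fa (K := K) Z := hcon
    have h5 := Finset.sum_le_sum_of_subset_of_nonneg (f := fun θ : IrrCharacter K =>
      dg (θ : K → ℂ) ^ 2) h4 (fun _ _ _ => Nat.zero_le _)
    nlinarith
  obtain ⟨θ, h4, h5⟩ := h3
  refine ⟨indFun K (θ : K → ℂ), (ind_mem_above_iff hK inferInstance θ.2).2 (mem_Fa.1 h4), fun h => ?_⟩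
  exact h5 (mem_Fa.2 ((ind_mem_above_iff hK hZ θ.2).1 h))

/-- **PF 6.7** -/
theorem pf67 (hK : K.Normal) (hsolv : Group.IsSolvable K)
    (hS : IsCoherenceSystem (inducedIrrAbove K ⊥) τ R) (hodd : Odd (Nat.card L))
    (hnil : Group.IsNilpotent K) (hH₁K : ⁅K, K⁆ < K) (hKL : K < ⊤)
    (hfrob : ∀ k ∈ K, k ∉ ⁅K, K⁆ → ∀ x : L, x * k * x⁻¹ * k⁻¹ ∈ ⁅K, K⁆ → x ∈ K)
    {Z : Subgroup L} (hZ : Z.Normal) (hZ1 : Z ≠ ⊥) (hZK : Z ≤ K)
    (hZc : ∀ z ∈ Z, ∀ k ∈ K, z * k = k * z)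
    (hirr : ∀ χ ∈ inducedIrrAbove K ⊥ \ inducedIrrAbove K Z, IsIrrCharacter L χ) :
    ∃ τ₁, CohMap (inducedIrrAbove K ⊥ \ inducedIrrAbove K Z) τ τ₁ := by
  classical
  haveI := hK
  by_cases hpp : ∃ p n : ℕ, p.Prime ∧ Nat.card K = p ^ n
  · obtain ⟨p, n, hp, hpn⟩ := hpp
    have hKodd : Odd (Nat.card K) := by
      rw [← K.card_mul_index] at hodd
      exact (Nat.odd_mul.1 hodd).1
    have hH₁n : (⁅K, K⁆ : Subgroup L).Normal := inferInstance
    have hrel : (⁅K, K⁆ : Subgroup L).relIndex K ∣ p ^ n := by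
      rw [← hpn]; exact ((⁅K, K⁆ : Subgroup L).subgroupOf K).index_dvd_card
    obtain ⟨m, -, hm⟩ := (Nat.dvd_prime_pow hp).1 hrel
    have hm0 : m ≠ 0 := by
      rintro rfl
      rw [pow_zero, Subgroup.relIndex_eq_one] at hm
      exact absurd hm (not_le_of_gt hH₁K)
    have hn0 : n ≠ 0 := by
      rintro rfl
      rw [pow_zero] at hpn
      have h1 : p ^ m ∣ 1 := by rw [← hm]; simpa using hrel
      have h2 := Nat.dvd_one.1 h1
      rw [Nat.pow_eq_one] at h2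
      exact h2.elim hp.one_lt.ne' hm0
    have hp2 : p ≠ 2 := by
      rintro rfl
      rw [hpn] at hKodd
      exact absurd (Nat.even_pow.2 ⟨even_two, hn0⟩) (Nat.not_even_iff_odd.2 hKodd)
    refine pf67_aux hK hS hp hp2 hpn ?_ hZ hZK hZ1 hZc hirr
    have h1 := frob_dvd hH₁n hK hH₁K.le le_rfl hfrob
    rw [hm] at h1
    rw [hp.coprime_iff_not_dvd]
    intro h2
    have h3 := h2.trans h1
    have h4 : p ∣ p ^ m := dvd_pow_self p hm0
    have h5 : 1 ≤ p ^ m := Nat.one_le_pow _ _ hp.pos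
    have h6 : p ∣ 1 := by
      have h7 := (Nat.dvd_sub h4 h3)
      rwa [show p ^ m - (p ^ m - 1) = 1 by omega] at h7
    exact hp.one_lt.ne' (Nat.dvd_one.1 h6)
  · -- `K` is not a `p`-group
    have hcoh := pf65 (M := ⊥) (H₁ := ⁅K, K⁆) hK hsolv hS hodd inferInstance bot_le (by
      obtain ⟨n, hn⟩ := (Subgroup.isNilpotent_iff_lowerCentralSeries K).1 hnil
      exact ⟨n, hn.le⟩) (by rw [sup_bot_eq]) hH₁K hKL hfrob (Or.inr (Or.inr (Or.inl ⟨?_, ?_⟩)))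
    · obtain ⟨τ₁, h₁⟩ := isCoherent_cohMap hcoh
      exact ⟨τ₁, h₁.mono Set.diff_subset⟩
    · intro q hq hqd
      rw [Subgroup.relIndex_bot_left] at hqd
      have h1 := prime_dvd_ab (Q := K) hnil hq hqd
      have h2 : commutator K = (⁅K, K⁆ : Subgroup L).subgroupOf K := by
        apply (Subgroup.map_injective K.subtype_injective)
        rw [Subgroup.subgroupOf_map_subtype, commutator_def, Subgroup.map_commutator,
          ← MonoidHom.range_eq_map, Subgroup.range_subtype]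
        exact (inf_eq_left.2 (Subgroup.commutator_le_left K K)).symm
      rw [h2] at h1
      exact h1
    · rintro ⟨p, m, hp, hm⟩
      rw [Subgroup.relIndex_bot_left] at hm
      exact hpp ⟨p, m, hp, hm⟩

end Cfsg.Agent.H3
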