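import Cfsg.Agent.H3.GoingDown

/-!
# Mackey's formula for `HK = G` and norm lemmas (helper3)

* `indFun_restrict_of_mul`
* `vanish_of_norm`
* `normal_of_norm_max`
-/

set_option autoImplicit false
set_option linter.style.haveILetI false
set_option linter.unusedSimpArgs false
set_option linter.unusedSectionVars false
set_option linter.unusedVariables false
open Cfsg
open scoped ComplexConjugate commutatorElement

namespace Cfsg.Agent.H3

universe u v w

section

variable {G : Type u} [Group G] [Fintype G]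

theorem extendByZero_conj {H : Subgroup G} {θ : H → ℂ} (hθ : IsClassFunction H θ) {h : G} (hh : h ∈ H)
    (x : G) : extendByZero H θ (h⁻¹ * x * h) = extendByZero H θ x := by
  by_cases hx : x ∈ H
  · have h1 : h⁻¹ * x * h ∈ H := H.mul_mem (H.mul_mem (H.inv_mem hh) hx) hh
    rw [extendByZero_mem H _ hx, extendByZero_mem H _ h1]
    have h2 := hθ ⟨x, hx⟩ (⟨h, hh⟩⁻¹ : H)
    rw [← h2]
    congr 1
    apply Subtype.ext
    simp
  · have h1 : h⁻¹ * x * h ∉ H := by
      intro h2
      apply hx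
      have h3 := H.mul_mem (H.mul_mem hh h2) (H.inv_mem hh)
      have h4 : h * (h⁻¹ * x * h) * h⁻¹ = x := by group
      rwa [h4] at h3
    rw [extendByZero_not_mem H _ hx, extendByZero_not_mem H _ h1]

/-- Mackey's formula when `G = K H` -/
theorem indFun_restrict_of_mul (H K : Subgroup G) [Fintype K]
    (hHK : ∀ g : G, ∃ k ∈ K, k⁻¹ * g ∈ H) {θ : H → ℂ} (hθ : IsClassFunction H θ) (k : K) :
    indFun H θ k = indFun (H.subgroupOf K) (fun x => θ ⟨((x : K) : G), x.2⟩) k := by
  classical
  haveI := Fintype.ofFinite H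
  let F : G → ℂ := fun g => extendByZero H θ (g⁻¹ * k * g)
  have hFH : ∀ g h : G, h ∈ H → F (g * h) = F g := by
    intro g h hh
    show extendByZero H θ ((g * h)⁻¹ * k * (g * h)) = _
    have h1 : (g * h)⁻¹ * (k : G) * (g * h) = h⁻¹ * (g⁻¹ * k * g) * h := by group
    rw [h1, extendByZero_conj hθ hh]
  have hA1 : ∑ k' : K, ∑ g : G, (if (k' : G)⁻¹ * g ∈ H then F g else 0) =
      (Nat.card H : ℂ) * ∑ k' : K, F k' := by
    rw [Finset.mul_sum]
    refine Finset.sum_congr rfl fun k' _ => ?_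
    rw [← Fintype.sum_equiv (Equiv.mulLeft (k' : G))
      (fun h => if h ∈ H then F k' else 0) _ (fun h => by
        show _ = if (k' : G)⁻¹ * ((k' : G) * h) ∈ H then F ((k' : G) * h) else 0
        rw [inv_mul_cancel_left]
        split_ifs with hh
        · rw [hFH _ _ hh]
        · rfl)]
    rw [← sum_subgroup_eq H (fun _ => F k'), Finset.sum_const, Finset.card_univ, nsmul_eq_mul,
      Nat.card_eq_fintype_card]
  have hA2 : ∑ k' : K, ∑ g : G, (if (k' : G)⁻¹ * g ∈ H then F g else 0) =
      (Nat.card (H.subgroupOf K) : ℂ) * ∑ g : G, F g := by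
    rw [Finset.sum_comm, Finset.mul_sum]
    refine Finset.sum_congr rfl fun g _ => ?_
    rw [← Finset.sum_filter, Finset.sum_const, nsmul_eq_mul]
    congr 2
    obtain ⟨k₀, hk₀, hkg⟩ := hHK g
    rw [Nat.card_eq_fintype_card, ← Finset.card_univ]
    symm
    refine Finset.card_bij (fun (x : H.subgroupOf K) _ => (⟨k₀, hk₀⟩ : K) * (x : K)⁻¹) ?_ ?_ ?_
    · intro x _
      rw [Finset.mem_filter]
      refine ⟨Finset.mem_univ _, ?_⟩
      have h1 : (((⟨k₀, hk₀⟩ : K) * (x : K)⁻¹ : K) : G)⁻¹ * g = ((x : K) : G) * (k₀⁻¹ * g) := by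
        simp [mul_assoc]
      rw [h1]
      exact H.mul_mem x.2 hkg
    · intro x _ y _ hxy
      have := mul_left_cancel hxy
      exact Subtype.ext (inv_injective this)
    · intro k' hk'
      rw [Finset.mem_filter] at hk'
      have h1 : (k' : G)⁻¹ * k₀ ∈ H := by
        have h2 := H.mul_mem hk'.2 (H.inv_mem hkg)
        have h3 : (k' : G)⁻¹ * g * (k₀⁻¹ * g)⁻¹ = (k' : G)⁻¹ * k₀ := by group
        rwa [h3] at h2
      refine ⟨⟨k'⁻¹ * ⟨k₀, hk₀⟩, ?_⟩, Finset.mem_univ _, ?_⟩
      · rw [Subgroup.mem_subgroupOf]; exact h1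
      · simp
  have hH0 : (Nat.card H : ℂ) ≠ 0 := card_ne_zeroC
  have hK0 : (Nat.card (H.subgroupOf K) : ℂ) ≠ 0 := card_ne_zeroC
  have h1 : indFun H θ k = (Nat.card H : ℂ)⁻¹ * ∑ g : G, F g := rfl
  have h2 : indFun (H.subgroupOf K) (fun x => θ ⟨((x : K) : G), x.2⟩) k =
      (Nat.card (H.subgroupOf K) : ℂ)⁻¹ * ∑ k' : K, F k' := by
    unfold indFun
    congr 1
    refine Finset.sum_congr rfl fun k' _ => ?_
    by_cases h3 : k'⁻¹ * k * k' ∈ H.subgroupOf K
    · rw [extendByZero_mem _ _ h3]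
      symm
      exact extendByZero_mem H θ h3
    · rw [extendByZero_not_mem _ _ h3]
      symm
      exact extendByZero_not_mem H θ h3
  rw [h1, h2]
  have h3 := hA1.symm.trans hA2
  field_simp
  rw [mul_comm, ← h3, mul_comm]

theorem vanish_of_norm {U : Subgroup G} [Fintype U] {χ : G → ℂ} (hχ : IsIrrCharacter G χ)
    (hn : classInner (fun u : U => χ u) (fun u : U => χ u) = U.index) :
    ∀ g : G, g ∉ U → χ g = 0 := by
  classical
  have hN0 : (Nat.card U : ℂ) ≠ 0 := card_ne_zeroC
  have hG0 : (Nat.card G : ℂ) ≠ 0 := card_ne_zeroC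
  have h4 := classInner_self_of_irr hχ
  unfold classInner at hn h4
  rw [sum_subgroup_eq U (fun k => χ k * conj (χ k))] at hn
  have h5 : ∑ k : G, (if k ∈ U then χ k * conj (χ k) else 0) = ∑ k : G, χ k * conj (χ k) := by
    have h6 : ∑ k : G, χ k * conj (χ k) = Nat.card G := by
      field_simp at h4; exact h4
    have h7 : ∑ k : G, (if k ∈ U then χ k * conj (χ k) else 0) = U.index * Nat.card U := by
      field_simp at hn; rw [hn]; ring
    rw [h6, h7]
    exact_mod_cast Subgroup.index_mul_card U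
  have h6 : ∑ k : G, (if k ∈ U then (0 : ℝ) else Complex.normSq (χ k)) = 0 := by
    have h7 : ((∑ k : G, (if k ∈ U then (0 : ℝ) else Complex.normSq (χ k)) : ℝ) : ℂ) = 0 := by
      push_cast
      have h8 : ∑ k : G, ((if k ∈ U then (0 : ℝ) else Complex.normSq (χ k) : ℝ) : ℂ) =
          ∑ k : G, χ k * conj (χ k) - ∑ k : G, (if k ∈ U then χ k * conj (χ k) else 0) := by
        rw [← Finset.sum_sub_distrib]
        refine Finset.sum_congr rfl fun k _ => ?_
        split_ifs
        · rw [sub_self, Complex.ofReal_zero]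
        · rw [sub_zero, Complex.mul_conj]
      rw [h8, h5, sub_self]
    exact_mod_cast h7
  intro g hg
  have h7 := (Finset.sum_eq_zero_iff_of_nonneg (fun k _ => by
    split_ifs
    · exact le_rfl
    · exact Complex.normSq_nonneg _)).1 h6 g (Finset.mem_univ _)
  rw [if_neg hg, Complex.normSq_eq_zero] at h7
  exact h7

/-- a character `Θ` with `[Θ, θ] = k`, `Θ(1) = k θ(1)` equals `k θ` -/
theorem char_eq_smul_of_degree {Θ θ : G → ℂ} (hΘ : IsCharacter G Θ) (hθ : IsIrrCharacter G θ)
    {k : ℕ} (hk : classInner Θ θ = k) (h1 : Θ 1 = k * θ 1) : Θ = (k : ℂ) • θ := by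
  classical
  haveI := Fintype.ofFinite (IrrCharacter G)
  obtain ⟨m, hm, hexp⟩ := char_expand hΘ
  choose d hd0 hd using fun ψ : IrrCharacter G => irr_one_eq_nat ψ.2
  have hmk : m ⟨θ, hθ⟩ = k := by
    have := hm ⟨θ, hθ⟩
    have h4 : classInner Θ ((⟨θ, hθ⟩ : IrrCharacter G) : G → ℂ) = classInner Θ θ := rfl
    rw [h4, hk] at this
    exact_mod_cast this.symm
  have hsum : ∑ ψ : IrrCharacter G, m ψ * d ψ = k * d ⟨θ, hθ⟩ := by
    have h2 : ((∑ ψ : IrrCharacter G, m ψ * d ψ : ℕ) : ℂ) = ((k * d ⟨θ, hθ⟩ : ℕ) : ℂ) := by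
      push_cast
      rw [← hd ⟨θ, hθ⟩]
      show _ = (k : ℂ) * θ 1
      rw [← h1]
      conv_rhs => rw [hexp]
      rw [Finset.sum_apply]
      exact Finset.sum_congr rfl fun ψ _ => by rw [Pi.smul_apply, hd]; rfl
    exact_mod_cast h2
  rw [← Finset.add_sum_erase _ _ (Finset.mem_univ (⟨θ, hθ⟩ : IrrCharacter G)), hmk] at hsum
  have h2 : ∑ ψ ∈ Finset.univ.erase (⟨θ, hθ⟩ : IrrCharacter G), m ψ * d ψ = 0 := by omega
  rw [hexp, ← Finset.add_sum_erase _ _ (Finset.mem_univ (⟨θ, hθ⟩ : IrrCharacter G)), hmk,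
    Finset.sum_eq_zero, add_zero]
  intro ψ hψ
  have h3 := (Finset.sum_eq_zero_iff.1 h2) ψ hψ
  have h4 : m ψ = 0 := by
    rcases Nat.mul_eq_zero.1 h3 with h | h
    · exact h
    · exact absurd h (hd0 ψ).ne'
  rw [h4]; simp

/-- if `θ^K` is `f` times irreducible with `f² = |K:U|`, then `U` is normal -/
theorem normal_of_norm_max {U : Subgroup G} {θ : U → ℂ} (hθ : IsIrrCharacter U θ)
    (hC : IsIrrCharacter U.normalCore (fun x : U.normalCore => θ ⟨x, U.normalCore_le x.2⟩))
    {η : G → ℂ} (hη : IsIrrCharacter G η) {f : ℕ} (hf : f ^ 2 = U.index)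
    (hind : indFun U θ = (f : ℂ) • η) : U.Normal := by
  classical
  haveI := Fintype.ofFinite U
  haveI := Fintype.ofFinite U.normalCore
  have hf0 : (f : ℂ) ≠ 0 := by
    intro h
    have h1 : f = 0 := by exact_mod_cast h
    rw [h1] at hf
    exact Subgroup.index_ne_zero_of_finite (H := U) (by rw [← hf]; norm_num)
  have hidx : (U.index : ℂ) = (f : ℂ) * f := by rw [← hf]; push_cast; ring
  -- norm of the induced character
  have h1 : classInner (fun u : U => indFun U θ u) θ = U.index := by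
    have h2 := frobenius_reciprocity' U θ (indFun_classFun U θ)
    rw [← h2, hind, classInner_smul_left, classInner_smul_right, classInner_self_of_irr hη, hidx]
    simp
  have h2 : (fun u : U => indFun U θ u) = (U.index : ℂ) • θ := by
    apply char_eq_smul_of_degree (isChar_restrict U (isChar_ind U (irr_isChar hθ))) hθ h1
    show indFun U θ ((1 : U) : G) = _
    rw [Subgroup.coe_one, indFun_one_apply]
  have h3 : (fun u : U => η u) = (f : ℂ) • θ := by
    ext u
    have h4 := congrFun h2 u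
    have h5 : indFun U θ (u : G) = (f : ℂ) * η u := by rw [hind]; rfl
    rw [h5, Pi.smul_apply, smul_eq_mul, hidx, mul_assoc] at h4
    exact mul_left_cancel₀ hf0 h4
  have h4 : classInner (fun u : U => η u) (fun u : U => η u) = U.index := by
    rw [h3, classInner_smul_left, classInner_smul_right, classInner_self_of_irr hθ, hidx]
    simp
  have hv := vanish_of_norm hη h4
  -- `η` vanishes off the core
  have hvC : ∀ g : G, g ∉ U.normalCore → η g = 0 := by
    intro g hg
    have h5 : ¬ ∀ b : G, b * g * b⁻¹ ∈ U := hg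
    push Not at h5
    obtain ⟨b, hb⟩ := h5
    have h6 := hv _ hb
    rwa [irr_classFun hη g b] at h6
  have h5 := norm_of_vanish hη hvC
  have h6 : (fun l : U.normalCore => η l) = (f : ℂ) •
      (fun x : U.normalCore => θ ⟨x, U.normalCore_le x.2⟩) := by
    ext x
    exact congrFun h3 ⟨x, U.normalCore_le x.2⟩
  rw [h6, classInner_smul_left, classInner_smul_right, classInner_self_of_irr hC] at h5
  simp only [Complex.conj_natCast, mul_one] at h5
  rw [← hidx] at h5
  have h7 : U.index = U.normalCore.index := by exact_mod_cast h5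
  have h8 : U.normalCore = U := by
    have h9 := Subgroup.relIndex_mul_index (U.normalCore_le)
    have h10 : U.normalCore.relIndex U = 1 := by
      have hpos : 0 < U.index := Nat.pos_of_ne_zero Subgroup.index_ne_zero_of_finite
      apply Nat.eq_of_mul_eq_mul_right hpos
      rw [h9, one_mul, ← h7]
    exact le_antisymm U.normalCore_le (Subgroup.relIndex_eq_one.1 h10)
  rw [← h8]
  infer_instance

end

end Cfsg.Agent.H3
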