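import Cfsg.Agent.H3.Monomial
import Cfsg.Agent.H3.Counting

/-!
# Faithful irreducible characters of p-groups (helper3)
-/

set_option autoImplicit false
set_option linter.style.haveILetI false
set_option linter.unusedSimpArgs false
set_option linter.unusedSectionVars false
open Cfsg
open scoped ComplexConjugate

namespace Cfsg.Agent.H3

universe u v w

variable {G : Type u} [Group G]

/-- a nontrivial normal subgroup of a finite `p`-group meets the centre. -/
theorem inf_center_ne_bot_of_pGroup [Finite G] {p : ℕ} [Fact p.Prime] (hG : IsPGroup p G)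
    (K : Subgroup G) (hK : K.Normal) (hne : K ≠ ⊥) : ∃ z ∈ K, z ∈ Subgroup.center G ∧ z ≠ 1 := by
  classical
  haveI := hK
  letI : MulAction G K := {
    smul := fun g k => ⟨g * k * g⁻¹, hK.conj_mem k k.2 g⟩
    one_smul := fun k => by
      apply Subtype.ext
      show (1 : G) * k * 1⁻¹ = k
      simp
    mul_smul := fun a b k => by
      apply Subtype.ext
      show (a * b) * (k : G) * (a * b)⁻¹ = a * (b * k * b⁻¹) * a⁻¹
      group }
  have h1 := hG.card_modEq_card_fixedPoints K
  have h2 : p ∣ Nat.card K := by
    obtain ⟨n, hn⟩ := IsPGroup.iff_card.mp (hG.to_subgroup K)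
    rw [hn]
    refine dvd_pow_self p ?_
    rintro rfl
    rw [pow_zero] at hn
    exact hne (Subgroup.card_eq_one.mp hn)
  have h3 : p ∣ Nat.card (MulAction.fixedPoints G K) :=
    (Nat.modEq_zero_iff_dvd.mp (h1.symm.trans (Nat.modEq_zero_iff_dvd.mpr h2)))
  have h4 : (1 : K) ∈ MulAction.fixedPoints G K := by
    intro g
    apply Subtype.ext
    show g * ((1 : K) : G) * g⁻¹ = ((1 : K) : G)
    simp
  haveI : Nontrivial (MulAction.fixedPoints G K) := by
    rw [← Finite.one_lt_card_iff_nontrivial]
    have h5 : 0 < Nat.card (MulAction.fixedPoints G K) :=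
      Nat.card_pos_iff.mpr ⟨⟨⟨1, h4⟩⟩, inferInstance⟩
    exact lt_of_lt_of_le (Fact.out : p.Prime).one_lt (Nat.le_of_dvd h5 h3)
  obtain ⟨⟨z, hz⟩, hz1⟩ := exists_ne (⟨1, h4⟩ : MulAction.fixedPoints G K)
  refine ⟨z, z.2, ?_, ?_⟩
  · rw [Subgroup.mem_center_iff]
    intro g
    have h5 : g * (z : G) * g⁻¹ = z := congrArg (fun y : K => (y : G)) (hz g)
    exact mul_inv_eq_iff_eq_mul.mp h5
  · intro h
    apply hz1
    apply Subtype.ext
    apply Subtype.ext
    exact h

/-- in a cyclic group, an element of order `p` generates every element with `w ^ p = 1`. -/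
theorem mem_zpowers_of_cyclic {Z : Type*} [Group Z] [Finite Z] [IsCyclic Z] {p : ℕ} (hp : p.Prime)
    {z w : Z} (hz : orderOf z = p) (hw : w ^ p = 1) : w ∈ Subgroup.zpowers z := by
  classical
  haveI := Fintype.ofFinite Z
  have h1 := IsCyclic.card_pow_eq_one_le (α := Z) hp.pos
  have h2 : (Finset.univ.filter fun x => x ∈ Subgroup.zpowers z) ⊆
      (Finset.univ.filter fun a : Z => a ^ p = 1) := by
    intro x hx
    rw [Finset.mem_filter] at hx ⊢
    refine ⟨Finset.mem_univ _, ?_⟩
    obtain ⟨k, rfl⟩ := hx.2
    show (z ^ k) ^ p = 1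
    rw [zpow_pow_comm, ← hz, pow_orderOf_eq_one, one_zpow]
  have h3 : (Finset.univ.filter fun x => x ∈ Subgroup.zpowers z).card = p := by
    rw [← hz, ← Nat.card_zpowers, ← Fintype.card_subtype, Nat.card_eq_fintype_card]
  have h4 := Finset.eq_of_subset_of_card_le h2 (by rw [h3]; exact h1)
  have h5 : w ∈ (Finset.univ.filter fun a : Z => a ^ p = 1) :=
    Finset.mem_filter.mpr ⟨Finset.mem_univ _, hw⟩
  rw [← h4] at h5
  exact (Finset.mem_filter.mp h5).2

theorem central_scalar [Finite G] {V : Type*} [AddCommGroup V] [Module ℂ V]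
    [FiniteDimensional ℂ V] (ρ : Representation ℂ G V) [ρ.IsIrreducible] {z : G}
    (hz : z ∈ Subgroup.center G) : ∃ c : ℂ, ρ z = c • (LinearMap.id : V →ₗ[ℂ] V) := by
  haveI := Fintype.ofFinite G
  have h := sum_rep_conj ρ z
  have h1 : ∀ a : G, a * z * a⁻¹ = z := by
    intro a
    rw [Subgroup.mem_center_iff.mp hz a, mul_inv_cancel_right]
  simp only [h1, Finset.sum_const, Finset.card_univ] at h
  refine ⟨(Fintype.card G : ℂ)⁻¹ * ((Nat.card G : ℂ) * ρ.character z / (Module.finrank ℂ V : ℂ)), ?_⟩
  rw [mul_smul, ← h, ← Nat.cast_smul_eq_nsmul ℂ, smul_smul, inv_mul_cancel₀, one_smul]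
  exact_mod_cast Fintype.card_ne_zero

theorem faithful_iff_cyclic_center [Finite G] (p : ℕ) [Fact p.Prime] (hG : IsPGroup p G) :
    (∃ (n : ℕ) (ρ : Representation ℂ G (Fin n → ℂ)), ρ.IsIrreducible ∧ Function.Injective ρ) ↔
      IsCyclic (Subgroup.center G) := by
  classical
  haveI := Fintype.ofFinite G
  constructor
  · rintro ⟨n, ρ, hρ, hinj⟩
    haveI := nontrivial_of_irr ρ
    have hc : ∀ z : Subgroup.center G, ∃ c : ℂ, ρ z = c • LinearMap.id := fun z =>
      central_scalar ρ z.2
    choose c hc using hc
    have hcinj : ∀ a b : ℂ, a • (LinearMap.id : (Fin n → ℂ) →ₗ[ℂ] (Fin n → ℂ)) = b • LinearMap.id →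
        a = b := by
      intro a b h
      obtain ⟨v, hv⟩ := exists_ne (0 : Fin n → ℂ)
      have h1 := congrArg (fun f : (Fin n → ℂ) →ₗ[ℂ] (Fin n → ℂ) => f v) h
      simp only [LinearMap.smul_apply, LinearMap.id_apply] at h1
      have h2 : (a - b) • v = 0 := by rw [sub_smul, h1, sub_self]
      exact sub_eq_zero.mp ((smul_eq_zero.mp h2).resolve_right hv)
    let f : Subgroup.center G →* ℂ := {
      toFun := c
      map_one' := by
        apply hcinj
        rw [← hc, one_smul]
        show ρ 1 = _
        rw [map_one]; rfl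
      map_mul' := fun x y => by
        apply hcinj
        rw [← hc, mul_smul]
        show ρ ((x : G) * y) = _
        rw [map_mul, hc, hc]
        ext v
        simp
        ring }
    refine isCyclic_of_injective_ringHom f ?_
    intro x y hxy
    apply Subtype.ext
    apply hinj
    rw [hc, hc]
    have : c x = c y := hxy
    rw [this]
  · intro hcyc
    have main : ∃ χ : IrrCharacter G, ∀ g : G, (χ : G → ℂ) g = (χ : G → ℂ) 1 → g = 1 := by
      rcases subsingleton_or_nontrivial G with hs | hnt
      · exact ⟨⟨_, isIrr_one⟩, fun g _ => Subsingleton.elim _ _⟩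
      · have hZ := hG.bot_lt_center
        -- an element of order `p` in the centre
        have hpZ : p ∣ Nat.card (Subgroup.center G) := by
          obtain ⟨n, hn⟩ := IsPGroup.iff_card.mp (hG.to_subgroup (Subgroup.center G))
          rw [hn]
          refine dvd_pow_self p ?_
          rintro rfl
          rw [pow_zero] at hn
          exact hZ.ne' (Subgroup.card_eq_one.mp hn)
        obtain ⟨z, hz⟩ := exists_prime_orderOf_dvd_card' p hpZ
        have hz1 : (z : G) ≠ 1 := by
          intro h
          have : z = 1 := Subtype.ext h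
          rw [this, orderOf_one] at hz
          exact (Fact.out : p.Prime).one_lt.ne hz
        have h1 : ¬ IsConj (z : G) 1 := fun h => hz1 (isConj_one_left.mp h)
        rw [isConj_iff_irr] at h1
        push Not at h1
        obtain ⟨χ, hχ⟩ := h1
        refine ⟨χ, fun g hg => ?_⟩
        by_contra hg1
        let K := H27.charKer (irr_isChar χ.2)
        have hKn : K.Normal := H27.charKer_normal _
        have hKne : K ≠ ⊥ := by
          intro h
          have : g ∈ K := hg
          rw [h, Subgroup.mem_bot] at this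
          exact hg1 this
        obtain ⟨y, hyK, hyZ, hy1⟩ := inf_center_ne_bot_of_pGroup hG K hKn hKne
        -- a power of `y` has order `p`
        obtain ⟨k, hk⟩ := hG y
        have hyord : ∃ j : ℕ, orderOf y = p ^ (j + 1) := by
          obtain ⟨j, _, hj⟩ := (Nat.dvd_prime_pow (Fact.out : p.Prime)).mp (orderOf_dvd_of_pow_eq_one hk)
          rcases j with _ | j
          · rw [pow_zero] at hj
            exact absurd (orderOf_eq_one_iff.mp hj) hy1
          · exact ⟨j, hj⟩
        obtain ⟨j, hj⟩ := hyord
        let w : G := y ^ p ^ j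
        have hwK : w ∈ K := K.pow_mem hyK _
        have hwZ : w ∈ Subgroup.center G := Subgroup.pow_mem _ hyZ _
        have hw1 : w ≠ 1 := by
          intro h
          have h2 := orderOf_dvd_of_pow_eq_one h
          rw [hj] at h2
          have h3 := (Nat.pow_dvd_pow_iff_le_right (Fact.out : p.Prime).one_lt).mp h2
          omega
        have hwp : w ^ p = 1 := by
          rw [← pow_mul, ← pow_succ, ← hj, pow_orderOf_eq_one]
        have hword : orderOf (⟨w, hwZ⟩ : Subgroup.center G) = p := by
          refine orderOf_eq_prime ?_ ?_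
          · exact Subtype.ext hwp
          · intro h; exact hw1 (congrArg Subtype.val h)
        have h5 := mem_zpowers_of_cyclic (Fact.out : p.Prime) hword
          (w := z) (by rw [← hz]; exact pow_orderOf_eq_one z)
        obtain ⟨i, hi⟩ := h5
        apply hχ
        have h6 : (z : G) = w ^ i := by
          rw [← hi]; rfl
        have h7 : (z : G) ∈ K := by rw [h6]; exact K.zpow_mem hwK i
        exact h7
    obtain ⟨⟨χ, n, ρ, hρ, hρχ⟩, hker⟩ := main
    refine ⟨n, ρ, hρ, ?_⟩
    have : Function.Injective (ρ : G →* _) := by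
      rw [injective_iff_map_eq_one]
      intro g hg
      apply hker
      show χ g = χ 1
      rw [← hρχ]
      simp only [Representation.character]
      have h1 : ρ g = ρ 1 := by
        rw [show ρ g = 1 from hg, map_one]
      rw [h1]
    exact this

end Cfsg.Agent.H3
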