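import Cfsg.Agent.H3.PTI2
import Cfsg.Agent.H3.IndCoh3
import Cfsg.Agent.H3.BrauerC
import Cfsg.Agent.H3.Frob

/-!
# Prime TI data: quotients and invariant characters (helper3)
-/

set_option autoImplicit false
set_option linter.style.haveILetI false
set_option linter.unusedSimpArgs false
set_option linter.unusedSectionVars false
set_option linter.unusedVariables false
open Cfsg
open scoped ComplexConjugate commutatorElement

namespace Cfsg.Agent.H3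

universe u v w

section

variable {L : Type u} [Group L] [Finite L] {K W₁ W₂ : Subgroup L}

theorem PTI.fpf_sub (h : PTI K W₁ W₂) {N : Subgroup L} (hNK : N ≤ K) (hN : N ⊓ W₂ = ⊥) {w : L}
    (hw : w ∈ W₁) (hw1 : w ≠ 1) : ∀ k ∈ N, w * k = k * w → k = 1 := by
  intro k hk hwk
  have h1 : k ∈ W₂ := by
    rw [← h.cent w hw hw1]
    exact ⟨hNK hk, Subgroup.mem_centralizer_singleton_iff.2 hwk.symm⟩
  have h2 : k ∈ N ⊓ W₂ := ⟨hk, h1⟩
  rw [hN] at h2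
  exact h2

theorem PTI.fixed_quot (h : PTI K W₁ W₂) {N : Subgroup L} (hN : N.Normal) (hW : W₂ ≤ N)
    (hNK : N ≤ K) {w : L} (hw : w ∈ W₁) (hw1 : w ≠ 1) {k : L} (hk : k ∈ K)
    (hkw : w * k * w⁻¹ * k⁻¹ ∈ N) : k ∈ N := by
  haveI := hN
  have hsol : Group.IsSolvable (Subgroup.zpowers w) := by
    letI := (inferInstance : IsCyclic (Subgroup.zpowers w)).commGroup
    exact Group.isSolvable_of_comm mul_comm
  have hcomm : ∀ a ∈ Subgroup.zpowers w, ((a : L) : L ⧸ N) * (k : L ⧸ N) = (k : L ⧸ N) * (a : L) := by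
    have h1 : ((w : L) : L ⧸ N) * (k : L ⧸ N) = (k : L ⧸ N) * (w : L) := by
      have h2 : ((w * k * w⁻¹ * k⁻¹ : L) : L ⧸ N) = 1 := (QuotientGroup.eq_one_iff _).2 hkw
      simp only [QuotientGroup.mk_mul, QuotientGroup.mk_inv] at h2
      rw [mul_inv_eq_one, mul_inv_eq_iff_eq_mul] at h2
      exact h2
    rintro a ⟨n, rfl⟩
    have h3 : Commute ((w : L) : L ⧸ N) (k : L ⧸ N) := h1
    have h4 := h3.zpow_left n
    rw [← QuotientGroup.mk_zpow] at h4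
    exact h4
  obtain ⟨n, hn, hc⟩ := H23.exists_mem_coset_centralizer (A := Subgroup.zpowers w) (G := N) (g := k)
    (by rw [Subgroup.normalizer_eq_top_iff.mpr hN]; exact le_top) (by
      rw [Nat.card_zpowers]
      exact Nat.Coprime.coprime_dvd_right (Subgroup.card_dvd_of_le hNK) (h.orderOf_coprime hw))
    (Or.inl hsol) (by
      intro a ha
      rw [← QuotientGroup.eq_one_iff]
      simp only [QuotientGroup.mk_mul, QuotientGroup.mk_inv]
      rw [mul_assoc, mul_assoc, ← mul_assoc (a : L ⧸ N), hcomm a ha]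
      group)
  have h1 : k * n ∈ W₂ := by
    rw [← h.cent w hw hw1]
    refine ⟨K.mul_mem hk (hNK hn), Subgroup.mem_centralizer_singleton_iff.2 ?_⟩
    exact ((Subgroup.mem_centralizer_iff.1 hc) w (Subgroup.mem_zpowers w)).symm
  have h2 : k = (k * n) * n⁻¹ := by group
  rw [h2]
  exact N.mul_mem (hW h1) (N.inv_mem hn)

theorem PTI.quot_fpf (h : PTI K W₁ W₂) {N : Subgroup L} (hN : N.Normal) (hW : W₂ ≤ N)
    (hNK : N ≤ K) {w : L} (hw : w ∈ W₁) (hw1 : w ≠ 1) :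
    ∀ k ∈ K.map (QuotientGroup.mk' N), (w : L ⧸ N) * k = k * (w : L ⧸ N) → k = 1 := by
  rintro _ ⟨k, hk, rfl⟩ hc
  rw [QuotientGroup.mk'_apply, QuotientGroup.eq_one_iff]
  apply h.fixed_quot hN hW hNK hw hw1 hk
  rw [← QuotientGroup.eq_one_iff]
  simp only [QuotientGroup.mk_mul, QuotientGroup.mk_inv]
  rw [mul_inv_eq_one, mul_inv_eq_iff_eq_mul]
  exact hc

/-- commutators with `w` cover `K / N` -/
theorem PTI.comm_surj (h : PTI K W₁ W₂) {N : Subgroup L} (hN : N.Normal) (hW : W₂ ≤ N)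
    (hNK : N ≤ K) {w : L} (hw : w ∈ W₁) (hw1 : w ≠ 1) {k : L} (hk : k ∈ K) :
    ∃ y ∈ K, ∃ n ∈ N, k = y⁻¹ * (w * y * w⁻¹) * n := by
  have hKN : (K.map (QuotientGroup.mk' N)).Normal := h.normal.map _ (QuotientGroup.mk'_surjective _)
  obtain ⟨_, ⟨y, hy, rfl⟩, hyc⟩ := exists_commutator_eq hKN (h.quot_fpf hN hW hNK hw hw1)
    (c := QuotientGroup.mk' N k) ⟨k, hk, rfl⟩
  refine ⟨y, hy, (y⁻¹ * (w * y * w⁻¹))⁻¹ * k, ?_, by group⟩
  rw [← QuotientGroup.eq_one_iff]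
  simp only [QuotientGroup.mk_mul, QuotientGroup.mk_inv]
  rw [QuotientGroup.mk'_apply, QuotientGroup.mk'_apply] at hyc
  rw [hyc]; group

theorem PTI.frob_lift (h : PTI K W₁ W₂) {N : Subgroup L} (hN : N.Normal) (hW : W₂ ≤ N)
    (hNK : N ≤ K) : ∀ k ∈ K, k ∉ N → ∀ x : L, x * k * x⁻¹ * k⁻¹ ∈ N → x ∈ K := by
  intro k hk hkN x hx
  by_contra hxK
  apply hkN
  haveI := hN
  have hKN : (K.map (QuotientGroup.mk' N)).Normal := h.normal.map _ (QuotientGroup.mk'_surjective _)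
  have hx' : (x : L ⧸ N) ∉ K.map (QuotientGroup.mk' N) := by
    rintro ⟨k', hk', hkx⟩
    apply hxK
    rw [QuotientGroup.mk'_apply, QuotientGroup.eq] at hkx
    have : x = k' * (k'⁻¹ * x) := by group
    rw [this]
    exact K.mul_mem hk' (hNK hkx)
  have h1 := (fpf_of_complement hKN (W₁.map (QuotientGroup.mk' N)) (by
    rw [← Subgroup.map_sup, h.sup, Subgroup.map_top_of_surjective _
      (QuotientGroup.mk'_surjective _)]) (by
    rintro _ ⟨w, hw, rfl⟩ hw1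
    have hw1' : w ≠ 1 := by rintro rfl; exact hw1 (map_one _)
    exact h.quot_fpf hN hW hNK hw hw1') (x : L ⧸ N) hx').2 (k : L ⧸ N) ⟨k, hk, rfl⟩ (by
    have h2 : ((x * k * x⁻¹ * k⁻¹ : L) : L ⧸ N) = 1 := (QuotientGroup.eq_one_iff _).2 hx
    simp only [QuotientGroup.mk_mul, QuotientGroup.mk_inv] at h2
    rw [mul_inv_eq_one, mul_inv_eq_iff_eq_mul] at h2
    exact h2)
  exact (QuotientGroup.eq_one_iff k).1 h1

/-- a `W₁`-noninvariant character induces irreducibly -/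
theorem PTI.irr_of_ne [Fintype L] (h : PTI K W₁ W₂) {θ : K → ℂ} (hθ : IsIrrCharacter K θ)
    (hx : ∃ x ∈ W₁, cj h.normal x θ ≠ θ) : IsIrrCharacter L (indFun K θ) :=
  isIrr_ind_of_inertia_eq h.normal hθ (h.inertia_eq hθ hx)

/-- an invariant linear character with `W₂` and `K'` in the kernel is trivial -/
theorem PTI.linear_moved (h : PTI K W₁ W₂) {N : Subgroup L} (hN : N.Normal) (hW : W₂ ≤ N)
    (hNK : N ≤ K) {θ : K → ℂ} (hθ : IsIrrCharacter K θ) (hd : dg θ = 1)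
    (hθ1 : θ ≠ fun _ => 1) (hθN : ∀ a : K, (a : L) ∈ N → θ a = θ 1) :
    ∃ x ∈ W₁, cj h.normal x θ ≠ θ := by
  obtain ⟨w, hw, hw1, -⟩ := h.exists_gen
  refine ⟨w, hw, fun hcj => hθ1 ?_⟩
  have h1 : θ 1 = 1 := by rw [dg_eq (irr_isChar hθ), hd]; simp
  obtain ⟨μ, rfl⟩ := exists_hf (irr_isChar hθ) h1
  ext k
  obtain ⟨y, hy, n, hn, hk⟩ := h.comm_surj hN hW hNK hw hw1 k.2
  have hnK := hNK hn
  have hwy : w * y * w⁻¹ ∈ K := h.normal.conj_mem y hy w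
  have h2 : k = (⟨y, hy⟩ : K)⁻¹ * ⟨w * y * w⁻¹, hwy⟩ * ⟨n, hnK⟩ := Subtype.ext hk
  have h3 : hf μ ⟨w * y * w⁻¹, hwy⟩ = hf μ ⟨y, hy⟩ := congrFun hcj ⟨y, hy⟩
  have h4 : hf μ ⟨n, hnK⟩ = 1 := by rw [hθN ⟨n, hnK⟩ hn, h1]
  rw [h2, hf_apply, map_mul, map_mul, map_inv, Units.val_mul, Units.val_mul]
  rw [hf_apply] at h4
  rw [hf_apply, hf_apply] at h3
  rw [h4, h3, ← Units.val_mul, inv_mul_cancel]; simp

/-- an invariant character is trivial on a central subgroup without fixed points -/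
theorem PTI.central_moved (h : PTI K W₁ W₂) {Z : Subgroup L} (hZ : Z.Normal) (hZK : Z ≤ K)
    (hZW : Z ⊓ W₂ = ⊥) (hZc : ∀ z ∈ Z, ∀ k ∈ K, z * k = k * z) {θ : K → ℂ}
    (hθ : IsIrrCharacter K θ) (hθZ : ¬ ∀ a : K, (a : L) ∈ Z → θ a = θ 1) :
    ∃ x ∈ W₁, cj h.normal x θ ≠ θ := by
  obtain ⟨w, hw, hw1, -⟩ := h.exists_gen
  refine ⟨w, hw, fun hcj => hθZ fun a ha => ?_⟩
  obtain ⟨y, hy, hk⟩ := exists_commutator_eq hZ (h.fpf_sub hZK hZW hw hw1) ha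
  have hyK := hZK hy
  have hcen : (⟨y, hyK⟩ : K)⁻¹ ∈ Subgroup.center K := by
    apply Subgroup.inv_mem
    rw [Subgroup.mem_center_iff]
    intro g
    exact Subtype.ext (hZc y hy g g.2).symm
  have hwy : w * y * w⁻¹ ∈ K := h.normal.conj_mem y hyK w
  have h2 : a = (⟨y, hyK⟩ : K)⁻¹ * ⟨w * y * w⁻¹, hwy⟩ := Subtype.ext (by rw [hk]; simp [mul_assoc])
  have h3 : θ ⟨w * y * w⁻¹, hwy⟩ = θ ⟨y, hyK⟩ := congrFun hcj ⟨y, hyK⟩
  have h4 := irr_central_mul hθ hcen ⟨w * y * w⁻¹, hwy⟩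
  have h5 := irr_central_mul hθ hcen ⟨y, hyK⟩
  rw [inv_mul_cancel] at h5
  rw [← h2, h3, ← h5] at h4
  have h6 : θ 1 ≠ 0 := by
    rw [dg_eq (irr_isChar hθ)]
    exact_mod_cast (dg_pos hθ).ne'
  exact mul_right_cancel₀ h6 h4

end

end Cfsg.Agent.H3
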