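import Cfsg.Agent.H3.Ind
import Cfsg.Agent.H11.PF3

/-!
# Galois action by power maps (helper3)
-/

set_option autoImplicit false
set_option linter.style.haveILetI false
set_option linter.unusedSimpArgs false
set_option linter.unusedSectionVars false
set_option linter.unusedVariables false
open Cfsg
open scoped ComplexConjugate commutatorElement

namespace Cfsg.Agent.H3

universe u v w

/-- composition with a power map -/
def pw {X : Type u} [Group X] (k : ℕ) (f : X → ℂ) : X → ℂ := fun g => f (g ^ k)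

section

variable {G : Type u} [Group G]

theorem pw_apply (k : ℕ) (f : G → ℂ) (g : G) : pw k f g = f (g ^ k) := rfl

theorem pw_one (k : ℕ) (f : G → ℂ) : pw k f 1 = f 1 := by rw [pw, one_pow]

theorem pw_sub (k : ℕ) (a b : G → ℂ) : pw k (a - b) = pw k a - pw k b := rfl

theorem pw_neg (k : ℕ) (a : G → ℂ) : pw k (-a) = -pw k a := rfl

theorem pw_add (k : ℕ) (a b : G → ℂ) : pw k (a + b) = pw k a + pw k b := rfl

theorem pw_smul (k : ℕ) (c : ℂ) (a : G → ℂ) : pw k (c • a) = c • pw k a := rfl

theorem pw_irr [Finite G] {k : ℕ} (hk : k.Coprime (Nat.card G)) {χ : G → ℂ}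
    (hχ : IsIrrCharacter G χ) : IsIrrCharacter G (pw k χ) := by
  obtain ⟨χ', h1, h2, h3, -⟩ := H11.PF.galois_twist (G := G) (Nat.card G) 1 k (by rw [mul_one])
    (Nat.coprime_one_right _) hk χ (irr_isChar hχ)
  have h4 : χ' = pw k χ := by
    ext g
    exact h3 g (orderOf_dvd_natCard g)
  rw [← h4]
  exact h2 hχ

/-- `g` is a power of `g ^ k` -/
theorem pow_mem_iff [Finite G] {k : ℕ} (hk : k.Coprime (Nat.card G)) (H : Subgroup G) (g : G) :
    g ^ k ∈ H ↔ g ∈ H := by
  refine ⟨fun h => ?_, fun h => H.pow_mem h k⟩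
  have h1 : Nat.Coprime (orderOf g) k :=
    (Nat.Coprime.coprime_dvd_right (orderOf_dvd_natCard g) hk).symm
  obtain ⟨l, hl⟩ := exists_pow_eq_self_of_coprime (x := g) (n := k) (by
    exact h1.symm)
  rw [← hl]
  exact H.pow_mem h l

theorem pow_bij [Finite G] {k : ℕ} (hk : k.Coprime (Nat.card G)) :
    Function.Bijective (fun g : G => g ^ k) :=
  (powCoprime (G := G) hk.symm).bijective

/-- power maps and induction -/
theorem pw_ind [Fintype G] {k : ℕ} (hk : k.Coprime (Nat.card G)) (H : Subgroup G) (θ : H → ℂ) :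
    indFun H (pw k θ) = pw k (indFun H θ) := by
  ext g
  rw [pw, indFun, indFun]
  congr 1
  refine Finset.sum_congr rfl fun x _ => ?_
  have h1 : x⁻¹ * g ^ k * x = (x⁻¹ * g * x) ^ k := by
    have := conj_pow (i := k) (a := x⁻¹) (b := g)
    rw [inv_inv] at this
    exact this.symm
  rw [h1]
  by_cases h : x⁻¹ * g * x ∈ H
  · rw [extendByZero_mem H _ h, extendByZero_mem H _ (H.pow_mem h k)]
    rfl
  · rw [extendByZero_not_mem H _ h, extendByZero_not_mem H _ (fun h2 => h
      ((pow_mem_iff hk H _).1 h2))]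

/-- the power map by `k ≡ 1` modulo the order of `g` -/
theorem pw_fix {k : ℕ} {f : G → ℂ} {g : G} (h : g ^ k = g) : pw k f g = f g := by
  rw [pw, h]

/-- the inner product is invariant -/
theorem pw_inner [Fintype G] {k : ℕ} (hk : k.Coprime (Nat.card G)) (a b : G → ℂ) :
    classInner (pw k a) (pw k b) = classInner a b := by
  rw [classInner, classInner]
  congr 1
  exact Equiv.sum_comp (powCoprime (G := G) hk.symm) (fun g => a g * conj (b g))

/-- in a group of order prime to ... : a power map fixing one element and moving another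
nontrivial element of the same prime-order subgroup as prescribed -/
theorem exists_power {n p j : ℕ} (hp : p.Prime) (hj : ¬ p ∣ j) (hn : n ≠ 0) :
    ∃ k : ℕ, k.Coprime n ∧ k ≡ j [MOD p] := by
  -- write `n = p ^ a * m` with `m` prime to `p`
  obtain ⟨a, m, hm, rfl⟩ := Nat.exists_eq_pow_mul_and_not_dvd hn p hp.ne_one
  have hcop : Nat.Coprime p m := (Nat.Prime.coprime_iff_not_dvd hp).2 hm
  obtain ⟨k, hk1, hk2⟩ := Nat.chineseRemainder hcop j 1
  refine ⟨k, ?_, hk1⟩
  refine Nat.Coprime.mul_right ?_ ?_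
  · apply Nat.Coprime.pow_right
    rw [Nat.coprime_comm, Nat.Prime.coprime_iff_not_dvd hp]
    intro h
    exact hj ((hk1.dvd_iff dvd_rfl).1 h)
  · have h1 : Nat.gcd k m = Nat.gcd 1 m := hk2.gcd_eq
    rw [Nat.Coprime, h1]; simp

end

end Cfsg.Agent.H3
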