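import Cfsg.Agent.H3.RelM
import Cfsg.Agent.H3.BurnsidePQ
import Cfsg.Agent.H27.Kernel
import Cfsg.Agent.H1.Chief

/-!
# Primitive characters (helper3)

* `exists_scalarHom`
* `primitive_homogeneous`
* `abelian_image_scalar` : a normal subgroup with commuting image acts by scalars in a primitive
  representation.
* `primitive_normal_scalar`: normal solvable subgroups with abelian Sylow subgroups
-/

set_option autoImplicit false
set_option linter.style.haveILetI false
set_option linter.unusedSimpArgs false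
set_option linter.unusedSectionVars false
set_option linter.unusedVariables false
open Cfsg
open scoped ComplexConjugate commutatorElement

namespace Cfsg.Agent.H3

universe u v w

section scalarHom

variable {G : Type u} [Group G] {V : Type v} [AddCommGroup V] [Module ℂ V] [Nontrivial V]

theorem exists_scalarHom (ρ : Representation ℂ G V) :
    ∃ c : scalarSubgroup ρ →* ℂˣ, ∀ g : scalarSubgroup ρ,
      ρ (g : G) = (c g : ℂ) • (LinearMap.id : V →ₗ[ℂ] V) := by
  obtain ⟨v, hv⟩ := exists_ne (0 : V)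
  choose c hc using fun g : scalarSubgroup ρ => g.2
  have hcv : ∀ g : scalarSubgroup ρ, ρ (g : G) v = c g • v := by
    intro g
    rw [hc g]; rfl
  have h1 : c 1 = 1 := by
    have := hcv 1
    rw [Subgroup.coe_one, map_one] at this
    have h2 : (c 1 - 1) • v = 0 := by
      rw [sub_smul, ← this, one_smul]; simp
    rcases smul_eq_zero.1 h2 with h | h
    · exact sub_eq_zero.1 h
    · exact absurd h hv
  have h2 : ∀ a b, c (a * b) = c a * c b := by
    intro a b
    have h3 := hcv (a * b)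
    rw [Subgroup.coe_mul, map_mul, Module.End.mul_apply, hcv b, map_smul, hcv a, smul_smul] at h3
    have h4 : (c (a * b) - c a * c b) • v = 0 := by
      rw [sub_smul, ← h3, mul_comm (c b)]; simp
    rcases smul_eq_zero.1 h4 with h | h
    · exact sub_eq_zero.1 h
    · exact absurd h hv
  let c' : scalarSubgroup ρ →* ℂ := ⟨⟨c, h1⟩, h2⟩
  exact ⟨c'.toHomUnits, fun g => hc g⟩

end scalarHom

/-- a character is primitive if it is not induced from an irreducible character of a proper
subgroup -/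
def Primitive {G : Type u} [Group G] [Fintype G] (χ : G → ℂ) : Prop :=
  ∀ (T : Subgroup G) (ψ : T → ℂ), T ≠ ⊤ → IsIrrCharacter T ψ → indFun T ψ ≠ χ

/-- restriction to every normal subgroup is homogeneous -/
def Quasiprimitive {G : Type u} [Group G] [Fintype G] (χ : G → ℂ) : Prop :=
  ∀ (N : Subgroup G), N.Normal → ∃ (ϑ : N → ℂ) (e : ℕ), IsIrrCharacter N ϑ ∧
    (fun n : N => χ n) = (e : ℂ) • ϑ

theorem primitive_quasiprimitive {G : Type u} [Group G] [Fintype G] {χ : G → ℂ}
    (hχ : IsIrrCharacter G χ) (hprim : Primitive χ) : Quasiprimitive χ := by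
  classical
  intro N hN
  haveI := Fintype.ofFinite N
  have h0 : (fun a : N => χ a) ≠ 0 := by
    intro h
    exact irr_one_ne_zero hχ (congrFun h 1)
  obtain ⟨ϑ, hϑ⟩ := exists_constituent (isChar_restrict N (irr_isChar hχ)) h0
  haveI := Fintype.ofFinite (inertia hN (ϑ : N → ℂ))
  obtain ⟨ψ, h1, h2, -, -⟩ := clifford_corr hN hχ ϑ.2 hϑ (inertia hN (ϑ : N → ℂ)) rfl
    (le_inertia hN (irr_classFun ϑ.2))
  have htop : inertia hN (ϑ : N → ℂ) = ⊤ := by
    by_contra hne
    exact hprim _ ψ hne h1 h2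
  obtain ⟨e, he⟩ := classInner_char_nat (isChar_restrict N (irr_isChar hχ)) (irr_isChar ϑ.2)
  refine ⟨ϑ, e, ϑ.2, ?_⟩
  rw [← he]
  exact clifford_invariant hN hχ ϑ.2 (fun x => by
    rw [← mem_inertia hN, htop]; exact Subgroup.mem_top x) hϑ

theorem abelian_image_scalar {G : Type u} [Group G] [Fintype G] {n : ℕ}
    (ρ : Representation ℂ G (Fin n → ℂ)) [ρ.IsIrreducible] (hq : Quasiprimitive ρ.character)
    {A : Subgroup G} (hA : A.Normal) (hcomm : ∀ a ∈ A, ∀ b ∈ A, ρ a * ρ b = ρ b * ρ a) :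
    A ≤ scalarSubgroup ρ := by
  obtain ⟨ϑ, e, ⟨m, σ, hσ, hϑ⟩, he⟩ := hq A hA
  have hn0 : 0 < Module.finrank ℂ (Fin n → ℂ) := by
    have := irr_one_ne_zero (isIrrCharacter_of_rep ρ)
    rw [Representation.char_one] at this
    exact Nat.pos_of_ne_zero (by exact_mod_cast this)
  have he1 : (Module.finrank ℂ (Fin n → ℂ) : ℂ) = e * Module.finrank ℂ (Fin m → ℂ) := by
    have := congrFun he 1
    rw [← hϑ] at this
    simp only [Pi.smul_apply, smul_eq_mul, Subgroup.coe_one] at this
    rw [Representation.char_one, Representation.char_one] at this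
    exact this
  have he0 : (e : ℂ) ≠ 0 := by
    intro h
    rw [h, zero_mul] at he1
    have : Module.finrank ℂ (Fin n → ℂ) = 0 := by exact_mod_cast he1
    omega
  intro a ha
  -- `σ a` is scalar
  have hs : ∃ c : ℂ, σ ⟨a, ha⟩ = c • LinearMap.id := by
    apply schur_scalar σ
    rintro ⟨b, hb⟩
    -- commutator acts trivially
    have h1 : ρ ⁅a, b⁆ = 1 := by
      rw [commutatorElement_def, map_mul, map_mul, map_mul, hcomm a ha b hb]
      have h2 : ρ a * ρ a⁻¹ = 1 := by rw [← map_mul, mul_inv_cancel, map_one]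
      have h3 : ρ b * ρ b⁻¹ = 1 := by rw [← map_mul, mul_inv_cancel, map_one]
      rw [mul_assoc (ρ b), h2, mul_one, h3]
    have h2 : ⁅a, b⁆ ∈ A := by
      rw [commutatorElement_def]
      exact A.mul_mem (A.mul_mem (A.mul_mem ha hb) (A.inv_mem ha)) (A.inv_mem hb)
    have h3 : σ.character ⟨⁅a, b⁆, h2⟩ = Module.finrank ℂ (Fin m → ℂ) := by
      have h4 := congrFun he ⟨⁅a, b⁆, h2⟩
      rw [← hϑ] at h4
      simp only [Pi.smul_apply, smul_eq_mul] at h4
      have h5 : ρ.character ⁅a, b⁆ = Module.finrank ℂ (Fin n → ℂ) := by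
        rw [Representation.character, h1, LinearMap.trace_one]
      rw [h5, he1] at h4
      exact (mul_left_cancel₀ he0 h4).symm
    have h4 := H27.rep_eq_one_of_char_eq σ _ h3
    have h5 : (⟨a, ha⟩ : A) * ⟨b, hb⟩ = ⟨⁅a, b⁆, h2⟩ * (⟨b, hb⟩ * ⟨a, ha⟩) := by
      apply Subtype.ext
      show a * b = ⁅a, b⁆ * (b * a)
      rw [commutatorElement_def]; group
    rw [← map_mul, ← map_mul, h5, map_mul, h4, one_mul]
  obtain ⟨c, hc⟩ := hs
  have hm0 : (Module.finrank ℂ (Fin m → ℂ)) ≠ 0 := by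
    intro h
    rw [h] at he1
    simp only [Nat.cast_zero, mul_zero] at he1
    have : Module.finrank ℂ (Fin n → ℂ) = 0 := by exact_mod_cast he1
    omega
  -- norms
  have hc1 : ‖c‖ = 1 := by
    haveI : Nontrivial (Fin m → ℂ) := Module.nontrivial_of_finrank_pos (Nat.pos_of_ne_zero hm0)
    obtain ⟨v, hv⟩ := exists_ne (0 : Fin m → ℂ)
    have h1 : ∀ k : ℕ, σ (⟨a, ha⟩ ^ k) v = c ^ k • v := by
      intro k
      induction k with
      | zero => simp
      | succ k ih =>
        rw [pow_succ, map_mul, Module.End.mul_apply, hc, LinearMap.smul_apply, LinearMap.id_apply,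
          map_smul, ih, smul_smul, pow_succ, mul_comm]
    have h2 := h1 (orderOf (⟨a, ha⟩ : A))
    rw [pow_orderOf_eq_one, map_one, Module.End.one_apply] at h2
    have h3 : (c ^ orderOf (⟨a, ha⟩ : A) - 1) • v = 0 := by rw [sub_smul, ← h2]; simp
    rcases smul_eq_zero.1 h3 with h | h
    · exact Complex.norm_eq_one_of_pow_eq_one (sub_eq_zero.1 h) (orderOf_pos _).ne'
    · exact absurd h hv
  have h1 : ρ.character a = e * (c * Module.finrank ℂ (Fin m → ℂ)) := by
    have h4 := congrFun he ⟨a, ha⟩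
    rw [← hϑ] at h4
    simp only [Pi.smul_apply, smul_eq_mul] at h4
    rw [h4, Representation.character, hc, map_smul, smul_eq_mul, LinearMap.trace_id]
  have h2 : ‖ρ.character a‖ = (Module.finrank ℂ (Fin n → ℂ) : ℝ) := by
    rw [h1, norm_mul, norm_mul, hc1, one_mul, Complex.norm_natCast, Complex.norm_natCast]
    have h3 : ((Module.finrank ℂ (Fin n → ℂ) : ℝ) : ℂ) =
        ((e * Module.finrank ℂ (Fin m → ℂ) : ℝ) : ℂ) := by push_cast; exact he1
    exact_mod_cast h3.symm
  exact ⟨_, H27.rep_scalar_of_norm_char_eq ρ a hn0 h2⟩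

/-- A normal solvable subgroup all of whose `p`-subgroups are abelian acts by scalars. -/
theorem quasiprimitive_normal_scalar {G : Type u} [Group G] [Fintype G] {n : ℕ}
    (ρ : Representation ℂ G (Fin n → ℂ)) [ρ.IsIrreducible] (hq : Quasiprimitive ρ.character)
    {M : Subgroup G} (hM : M.Normal) (hs : Group.IsSolvable M)
    (hab : ∀ (p : ℕ), p.Prime → ∀ Q : Subgroup G, Q ≤ M → IsPGroup p Q →
      ∀ a ∈ Q, ∀ b ∈ Q, a * b = b * a) : M ≤ scalarSubgroup ρ := by
  classical
  by_contra hcon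
  have hZn : (M ⊓ scalarSubgroup ρ).Normal := by
    haveI := scalarSubgroup_normal ρ
    infer_instance
  have hlt : M ⊓ scalarSubgroup ρ < M := by
    refine lt_of_le_of_ne inf_le_left fun h => hcon ?_
    rw [← h]; exact inf_le_right
  obtain ⟨A, hA, hZA, hAM, hch⟩ := H1.exists_chief_above hM hlt
  have hsA : Group.IsSolvable A := by
    refine Group.isSolvable_of_isSolvable_injective (f := Subgroup.inclusion hAM)
      (Subgroup.inclusion_injective hAM)
  obtain ⟨h1, p, hp, h2, h3⟩ := H1.chief_factor_solvable hZn hA hZA hch hsA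
  haveI : Fact p.Prime := ⟨hp⟩
  -- a Sylow `p`-subgroup of `A`
  obtain ⟨P⟩ : Nonempty (Sylow p A) := inferInstance
  let Q : Subgroup G := (P : Subgroup A).map A.subtype
  have hQA : Q ≤ A := Subgroup.map_subtype_le _
  have hQp : IsPGroup p Q := P.2.map _
  have hQab := hab p hp Q (hQA.trans hAM) hQp
  -- every element of `A` is a scalar times an element of `Q`
  have key : ∀ a ∈ A, ∃ z ∈ M ⊓ scalarSubgroup ρ, ∃ q ∈ Q, a = z * q := by
    intro a ha
    let Z' : Subgroup A := (M ⊓ scalarSubgroup ρ).subgroupOf A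
    haveI : Z'.Normal := hZn.subgroupOf A
    have hpq : IsPGroup p (A ⧸ Z') := by
      intro x
      induction x using QuotientGroup.induction_on with | _ x
      refine ⟨1, ?_⟩
      rw [pow_one, ← QuotientGroup.mk_pow, QuotientGroup.eq_one_iff, Subgroup.mem_subgroupOf]
      exact h2 x x.2
    obtain ⟨s, hs'⟩ := (IsPGroup.iff_card).1 hpq
    have h4 : (Z' ⊔ (P : Subgroup A)).index = 1 := by
      have h5 : (Z' ⊔ (P : Subgroup A)).index ∣ p ^ s := by
        rw [← hs', ← Subgroup.index_eq_card]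
        exact Subgroup.index_dvd_of_le le_sup_left
      have h6 : (Z' ⊔ (P : Subgroup A)).index ∣ (P : Subgroup A).index :=
        Subgroup.index_dvd_of_le le_sup_right
      have h7 : Nat.Coprime (p ^ s) (P : Subgroup A).index :=
        Nat.Coprime.pow_left s ((Nat.Prime.coprime_iff_not_dvd hp).2 P.not_dvd_index)
      exact Nat.eq_one_of_dvd_coprimes h7 h5 h6
    rw [Subgroup.index_eq_one] at h4
    have h5 : (⟨a, ha⟩ : A) ∈ ((Z' ⊔ (P : Subgroup A) : Subgroup A) : Set A) := by
      rw [h4]; exact Subgroup.mem_top _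
    rw [Subgroup.normal_mul] at h5
    obtain ⟨z, hz, q, hq', hzq⟩ := h5
    exact ⟨z, hz, q, ⟨q, hq', rfl⟩, (congrArg Subtype.val hzq).symm⟩
  have hcomm : ∀ a ∈ A, ∀ b ∈ A, ρ a * ρ b = ρ b * ρ a := by
    intro a ha b hb
    obtain ⟨z, hz, q, hq', rfl⟩ := key a ha
    obtain ⟨z', hz', q', hq'', rfl⟩ := key b hb
    obtain ⟨c, hc⟩ := hz.2
    obtain ⟨c', hc'⟩ := hz'.2
    have h4 : ρ q * ρ q' = ρ q' * ρ q := by
      rw [← map_mul, ← map_mul, hQab q hq' q' hq'']
    rw [map_mul, map_mul, hc, hc']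
    have h5 : ∀ (x : ℂ) (f g : (Fin n → ℂ) →ₗ[ℂ] (Fin n → ℂ)),
        (x • (LinearMap.id : (Fin n → ℂ) →ₗ[ℂ] (Fin n → ℂ))) * f = x • f := by
      intro x f _; ext v; rfl
    rw [h5 c _ 1, h5 c' _ 1, smul_mul_smul_comm, smul_mul_smul_comm, h4, mul_comm c c']
  have h4 := abelian_image_scalar ρ hq hA hcomm
  exact (lt_irrefl _ (hZA.trans_le (le_inf hAM h4)))

/-- multiplicity times degree is at most the degree -/
theorem char_mult_degree_le {G : Type u} [Group G] [Fintype G] {θ χ : G → ℂ}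
    (hθ : IsCharacter G θ) (hχ : IsIrrCharacter G χ) {k : ℕ} (h : classInner θ χ = k) {m n : ℕ}
    (hm : θ 1 = m) (hn : χ 1 = n) : k * n ≤ m := by
  classical
  haveI := Fintype.ofFinite (IrrCharacter G)
  obtain ⟨f, hf, hexp⟩ := char_expand hθ
  choose d hd using fun ψ : IrrCharacter G => char_one_eq_nat (irr_isChar ψ.2)
  have h1 : (m : ℂ) = ((∑ ψ : IrrCharacter G, f ψ * d ψ : ℕ) : ℂ) := by
    rw [← hm, congrFun hexp 1, Finset.sum_apply]
    push_cast
    exact Finset.sum_congr rfl fun ψ _ => by rw [Pi.smul_apply, hd]; rfl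
  have h2 : m = ∑ ψ : IrrCharacter G, f ψ * d ψ := by exact_mod_cast h1
  have h3 : f ⟨χ, hχ⟩ = k := by
    have := hf ⟨χ, hχ⟩
    have h4 : classInner θ ((⟨χ, hχ⟩ : IrrCharacter G) : G → ℂ) = classInner θ χ := rfl
    rw [h4, h] at this
    exact_mod_cast this.symm
  have h4 : d ⟨χ, hχ⟩ = n := by
    have := hd ⟨χ, hχ⟩
    have h4 : ((⟨χ, hχ⟩ : IrrCharacter G) : G → ℂ) 1 = χ 1 := rfl
    rw [h4, hn] at this
    exact_mod_cast this.symm
  rw [h2, ← h3, ← h4]
  exact Finset.single_le_sum (f := fun ψ : IrrCharacter G => f ψ * d ψ)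
    (fun ψ _ => Nat.zero_le _) (Finset.mem_univ _)

end Cfsg.Agent.H3
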