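import Cfsg.Agent.H3.Fix
import Cfsg.Agent.H3.ExtCyc
import Cfsg.Agent.H11.PF2

/-!
# Prime TI data: fixed characters (PF section 4) (helper3)
-/

set_option autoImplicit false
set_option linter.style.haveILetI false
set_option linter.unusedSimpArgs false
set_option linter.unusedSectionVars false
set_option linter.unusedVariables false
open Cfsg
open scoped ComplexConjugate

namespace Cfsg.Agent.H3

universe u v w

/-- the prime TI hypothesis -/
structure PTI {L : Type u} [Group L] (K W₁ W₂ : Subgroup L) : Prop where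
  normal : K.Normal
  inf : K ⊓ W₁ = ⊥
  sup : K ⊔ W₁ = ⊤
  ne : W₁ ≠ ⊥
  cyc₁ : IsCyclic W₁
  hall : Nat.Coprime (Nat.card W₁) W₁.index
  ne₂ : W₂ ≠ ⊥
  cyc₂ : IsCyclic W₂
  le : W₂ ≤ K
  cent : ∀ x ∈ W₁, x ≠ 1 → K ⊓ Subgroup.centralizer ({x} : Set L) = W₂

namespace PTI

variable {L : Type u} [Group L] [Finite L] {K W₁ W₂ : Subgroup L} (h : PTI K W₁ W₂)

include h

theorem comm {a : L} (ha : a ∈ W₁) {b : L} (hb : b ∈ W₂) : a * b = b * a := by
  by_cases ha1 : a = 1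
  · rw [ha1]; simp
  · rw [← h.cent a ha ha1] at hb
    exact (Subgroup.mem_centralizer_singleton_iff.1 hb.2).symm

theorem compl : Subgroup.IsComplement' K W₁ := by
  haveI := h.normal
  apply Subgroup.isComplement'_of_disjoint_and_mul_eq_univ (disjoint_iff.2 h.inf)
  rw [← Subgroup.normal_mul, h.sup]; rfl

theorem cardK : Nat.card K = W₁.index := h.compl.index_eq_card.symm

theorem cardW : Nat.card W₁ = K.index := h.compl.symm.index_eq_card.symm

theorem coprime : Nat.Coprime (Nat.card W₁) (Nat.card K) := by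
  rw [h.cardK]; exact h.hall

theorem orderOf_coprime {x : L} (hx : x ∈ W₁) : Nat.Coprime (orderOf x) (Nat.card K) := by
  refine Nat.Coprime.coprime_dvd_left ?_ h.coprime
  have := orderOf_dvd_natCard (⟨x, hx⟩ : W₁)
  rwa [Subgroup.orderOf_mk] at this

/-- a generator of `W₁` -/
theorem exists_gen : ∃ w ∈ W₁, w ≠ 1 ∧ ∀ x ∈ W₁, ∃ n : ℤ, x = w ^ n := by
  obtain ⟨⟨w, hw⟩, hgen⟩ := h.cyc₁.exists_generator
  have h1 : ∀ x ∈ W₁, ∃ n : ℤ, x = w ^ n := by
    intro x hx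
    obtain ⟨n, hn⟩ := hgen ⟨x, hx⟩
    exact ⟨n, (congrArg Subtype.val hn).symm⟩
  refine ⟨w, hw, ?_, h1⟩
  rintro rfl
  apply h.ne
  rw [eq_bot_iff]
  intro x hx
  obtain ⟨n, rfl⟩ := h1 x hx
  simp

/-- fixed classes of a nontrivial element of `W₁` -/
theorem fixed_iff {x : L} (hx : x ∈ W₁) (hx1 : x ≠ 1) (C : ConjClasses K) :
    ConjClasses.map (cjEquiv h.normal x).toMonoidHom C = C ↔
      ∃ k : K, (k : L) ∈ W₂ ∧ ConjClasses.mk k = C := by
  constructor
  · intro hC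
    obtain ⟨k, hk, hxk⟩ := fixed_class_rep h.normal (h.orderOf_coprime hx) hC
    refine ⟨k, ?_, hk⟩
    rw [← h.cent x hx hx1]
    exact ⟨k.2, Subgroup.mem_centralizer_singleton_iff.2 hxk.symm⟩
  · rintro ⟨k, hk, rfl⟩
    rw [class_fixed_iff]
    exact ⟨1, K.one_mem, by rw [h.comm hx hk]; simp⟩

theorem conj_eq {a b : L} (ha : a ∈ W₂) (hb : b ∈ W₂) {k : L} (hk : k ∈ K)
    (hab : k * a * k⁻¹ = b) : a = b := by
  have hn : W₁ ≤ Subgroup.normalizer (K : Set L) := by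
    rw [Subgroup.normalizer_eq_top_iff.mpr h.normal]
    exact le_top
  haveI := h.cyc₁
  haveI := h.cyc₂
  have hsol : Group.IsSolvable W₁ := by
    letI := h.cyc₁.commGroup
    exact Group.isSolvable_of_comm mul_comm
  have hfix : ∀ c ∈ W₂, ∀ x ∈ W₁, x * c * x⁻¹ = c := by
    intro c hc x hx
    rw [h.comm hx hc]; group
  obtain ⟨c, hc, hca⟩ := @H23.glauberman_conj L _ _ W₁ K hn h.coprime (Or.inl hsol) L
    (MulAction.compHom L (MulAut.conj : L →* MulAut L)) a (hfix a ha) k hk (by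
    intro x hx
    show x * (k * a * k⁻¹) * x⁻¹ = k * a * k⁻¹
    rw [hab]; exact hfix b hb x hx)
  have h1 : c * a * c⁻¹ = b := by
    have h2 : c * a * c⁻¹ = k * a * k⁻¹ := hca
    rw [h2, hab]
  obtain ⟨w, hw, hw1, -⟩ := h.exists_gen
  have hcW : c ∈ W₂ := by
    rw [← h.cent w hw hw1]
    refine ⟨hc.1, Subgroup.mem_centralizer_singleton_iff.2 ?_⟩
    exact ((Subgroup.mem_centralizer_iff.1 hc.2) w hw).symm
  letI := h.cyc₂.commGroup
  have h2 : c * a = a * c := congrArg Subtype.val (mul_comm (⟨c, hcW⟩ : W₂) ⟨a, ha⟩)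
  rw [← h1, h2]; group

theorem card_classes : Nat.card {C : ConjClasses K // ∃ k : K, (k : L) ∈ W₂ ∧
    ConjClasses.mk k = C} = Nat.card W₂ := by
  symm
  refine Nat.card_congr (Equiv.ofBijective (fun a : W₂ => ⟨ConjClasses.mk (⟨a, h.le a.2⟩ : K),
    ⟨⟨a, h.le a.2⟩, a.2, rfl⟩⟩) ⟨?_, ?_⟩)
  · intro a b hab
    have h1 : ConjClasses.mk (⟨a, h.le a.2⟩ : K) = ConjClasses.mk (⟨b, h.le b.2⟩ : K) :=
      congrArg Subtype.val hab
    rw [ConjClasses.mk_eq_mk_iff_isConj, isConj_iff] at h1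
    obtain ⟨c, hc⟩ := h1
    apply Subtype.ext
    exact h.conj_eq a.2 b.2 c.2 (congrArg Subtype.val hc)
  · rintro ⟨C, k, hk, rfl⟩
    exact ⟨⟨k, hk⟩, rfl⟩

theorem card_fixed {x : L} (hx : x ∈ W₁) (hx1 : x ≠ 1) :
    Nat.card {χ : IrrCharacter K // cj h.normal x (χ : K → ℂ) = χ} = Nat.card W₂ := by
  rw [card_fixed_irr h.normal x, ← h.card_classes]
  exact Nat.card_congr (Equiv.subtypeEquivRight fun C => h.fixed_iff hx hx1 C)

omit [Finite L] in
theorem fixed_pow {x : L} {θ : K → ℂ} (hθ : cj h.normal x θ = θ) (n : ℤ) :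
    cj h.normal (x ^ n) θ = θ := by
  have h1 : Subgroup.zpowers x ≤ inertia h.normal θ := by
    rw [Subgroup.zpowers_le]; exact hθ
  exact h1 ⟨n, rfl⟩

/-- a character fixed by one nontrivial element of `W₁` is fixed by `W₁` -/
theorem fixed_all {x : L} (hx : x ∈ W₁) (hx1 : x ≠ 1) {θ : K → ℂ} (hθ : IsIrrCharacter K θ)
    (hθx : cj h.normal x θ = θ) : ∀ y ∈ W₁, cj h.normal y θ = θ := by
  classical
  obtain ⟨w, hw, hw1, hgen⟩ := h.exists_gen
  have hsub : ∀ χ : IrrCharacter K, cj h.normal w (χ : K → ℂ) = χ →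
      cj h.normal x (χ : K → ℂ) = χ := by
    intro χ hχ
    obtain ⟨n, rfl⟩ := hgen x hx
    exact h.fixed_pow hχ n
  let f : {χ : IrrCharacter K // cj h.normal w (χ : K → ℂ) = χ} →
      {χ : IrrCharacter K // cj h.normal x (χ : K → ℂ) = χ} := fun χ => ⟨χ.1, hsub χ.1 χ.2⟩
  have hf : Function.Injective f := by
    intro a b hab
    apply Subtype.ext
    exact congrArg (fun z : {χ : IrrCharacter K // cj h.normal x (χ : K → ℂ) = χ} => z.1) hab
  have hcard : Nat.card {χ : IrrCharacter K // cj h.normal w (χ : K → ℂ) = χ} =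
      Nat.card {χ : IrrCharacter K // cj h.normal x (χ : K → ℂ) = χ} := by
    rw [h.card_fixed hw hw1, h.card_fixed hx hx1]
  have hbij : Function.Bijective f :=
    (Nat.bijective_iff_injective_and_card f).2 ⟨hf, hcard⟩
  obtain ⟨χ, hχ⟩ := hbij.2 ⟨⟨θ, hθ⟩, hθx⟩
  have h1 : cj h.normal w θ = θ := by
    have h2 := χ.2
    have h3 : (χ.1 : K → ℂ) = θ :=
      congrArg (fun z : {χ : IrrCharacter K // cj h.normal x (χ : K → ℂ) = χ} =>
        ((z.1 : IrrCharacter K) : K → ℂ)) hχ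
    rwa [h3] at h2
  intro y hy
  obtain ⟨n, rfl⟩ := hgen y hy
  exact h.fixed_pow h1 n

omit [Finite L] in
theorem exists_mul (g : L) : ∃ k ∈ K, ∃ y ∈ W₁, g = k * y := by
  haveI := h.normal
  have h1 : g ∈ ((K ⊔ W₁ : Subgroup L) : Set L) := by rw [h.sup]; exact Subgroup.mem_top g
  rw [Subgroup.normal_mul] at h1
  obtain ⟨k, hk, y, hy, rfl⟩ := h1
  exact ⟨k, hk, y, hy, rfl⟩

theorem inertia_eq {θ : K → ℂ} (hθ : IsIrrCharacter K θ)
    (hx : ∃ x ∈ W₁, cj h.normal x θ ≠ θ) : inertia h.normal θ ≤ K := by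
  intro g hg
  obtain ⟨k, hk, y, hy, rfl⟩ := h.exists_mul g
  have h1 : cj h.normal y θ = θ := by
    have h2 : y = k⁻¹ * (k * y) := by group
    have h3 : k⁻¹ ∈ inertia h.normal θ := le_inertia h.normal (irr_classFun hθ) (K.inv_mem hk)
    have h4 := (inertia h.normal θ).mul_mem h3 hg
    rw [← h2] at h4
    exact h4
  by_cases hy1 : y = 1
  · rw [hy1, mul_one]; exact hk
  · exfalso
    obtain ⟨x, hx, hne⟩ := hx
    exact hne (h.fixed_all hy hy1 hθ h1 x hx)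

theorem commutator_mem (x y : L) : x * y * x⁻¹ * y⁻¹ ∈ K := by
  haveI := h.normal
  letI := h.cyc₁.commGroup
  obtain ⟨k, hk, a, ha, rfl⟩ := h.exists_mul x
  obtain ⟨l, hl, b, hb, rfl⟩ := h.exists_mul y
  rw [← QuotientGroup.eq_one_iff]
  have e : ∀ z ∈ K, ((z : L) : L ⧸ K) = 1 := fun z hz => (QuotientGroup.eq_one_iff z).2 hz
  have hab : a * b = b * a := congrArg Subtype.val (mul_comm (⟨a, ha⟩ : W₁) ⟨b, hb⟩)
  have e' : ((a : L) : L ⧸ K) * (b : L) = (b : L) * (a : L) := by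
    rw [← QuotientGroup.mk_mul, hab, QuotientGroup.mk_mul]
  simp only [QuotientGroup.mk_mul, QuotientGroup.mk_inv, e k hk, e l hl, one_mul, mul_inv_rev,
    inv_one, mul_one]
  rw [e']; group

theorem isCyclic_quotient [K.Normal] : IsCyclic (L ⧸ K) := by
  haveI := h.cyc₁
  refine isCyclic_of_surjective ((QuotientGroup.mk' K).comp W₁.subtype) ?_
  intro q
  obtain ⟨g, rfl⟩ := QuotientGroup.mk_surjective q
  obtain ⟨k, hk, y, hy, rfl⟩ := h.exists_mul g
  refine ⟨⟨y, hy⟩, ?_⟩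
  show ((y : L) : L ⧸ K) = ((k * y : L) : L ⧸ K)
  rw [QuotientGroup.mk_mul, (QuotientGroup.eq_one_iff k).2 hk, one_mul]

end PTI

end Cfsg.Agent.H3
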