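import Cfsg.Agent.H3.Mackey
import Cfsg.Agent.H3.DegRatio
import Cfsg.Agent.H3.PrimChar
import Cfsg.Agent.H3.PFaithful

/-!
# Berger's lemma (helper3)
-/

set_option autoImplicit false
set_option linter.style.haveILetI false
set_option linter.unusedSimpArgs false
set_option linter.unusedSectionVars false
set_option linter.unusedVariables false
open Cfsg
open scoped ComplexConjugate commutatorElement

namespace Cfsg.Agent.H3

universe u v w

section

variable {G : Type u} [Group G] [Finite G]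

theorem chief_factor_solvable' {Z A : Subgroup G} (hZ : Z.Normal) (hA : A.Normal)
    (hZA : Z < A) (hchief : ∀ K : Subgroup G, K.Normal → Z < K → K ≤ A → K = A)
    (hs : Group.IsSolvable (G ⧸ Z)) :
    ⁅A, A⁆ ≤ Z ∧ ∃ p : ℕ, p.Prime ∧ (∀ x ∈ A, x ^ p ∈ Z) ∧
      IsPGroup p (A.map (QuotientGroup.mk' Z)) := by
  let f := QuotientGroup.mk' Z
  have hf : Function.Surjective f := QuotientGroup.mk'_surjective Z
  have hker : f.ker = Z := QuotientGroup.ker_mk' Z
  have hAn : (A.map f).Normal := hA.map f hf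
  have hAne : A.map f ≠ ⊥ := by
    rw [ne_eq, Subgroup.map_eq_bot_iff, hker]
    exact not_le_of_gt hZA
  have hmin : ∀ K : Subgroup (G ⧸ Z), K.Normal → K ≤ A.map f → K = ⊥ ∨ K = A.map f := by
    intro K hK hKA
    have h1 : Z ≤ K.comap f := H1.le_comap_mk' Z K
    have h2 : K.comap f ≤ A := by
      have := Subgroup.comap_mono (f := f) hKA
      rwa [Subgroup.comap_map_eq_self (by rw [hker]; exact hZA.le)] at this
    have h4 : (K.comap f).map f = K := Subgroup.map_comap_eq_self_of_surjective hf K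
    rcases h1.lt_or_eq with h3 | h3
    · right
      rw [← h4, hchief _ (hK.comap f) h3 h2]
    · left
      rw [← h4, ← h3]
      exact H1.map_mk'_eq_bot_iff.mpr le_rfl
  obtain ⟨hc, p, hp, hpp, hpow⟩ := H1.minimal_normal_solvable hAn hAne hmin inferInstance
  refine ⟨?_, p, hp, ?_, hpp⟩
  · have h1 : ⁅A.map f, A.map f⁆ = ⊥ :=
      Subgroup.commutator_eq_bot_iff_le_centralizer.mpr
        (Subgroup.le_centralizer_iff_isMulCommutative.mpr hc)
    rw [← Subgroup.map_commutator, Subgroup.map_eq_bot_iff, hker] at h1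
    exact h1
  · intro x hx
    have h1 := hpow (f x) ⟨x, hx, rfl⟩
    rw [← map_pow, ← MonoidHom.mem_ker, hker] at h1
    exact h1

/-- the index of a chief `p`-factor is a power of `p` -/
theorem relIndex_of_pGroup_map {Z A : Subgroup G} (hZ : Z.Normal) (hZA : Z ≤ A) {p : ℕ}
    [Fact p.Prime] (h : ∀ x ∈ A, x ^ p ∈ Z) : ∃ k, (Z.subgroupOf A).index = p ^ k := by
  haveI : (Z.subgroupOf A).Normal := hZ.subgroupOf A
  have h1 : IsPGroup p (A ⧸ Z.subgroupOf A) := by
    intro x
    induction x using QuotientGroup.induction_on with | _ x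
    refine ⟨1, ?_⟩
    rw [pow_one, ← QuotientGroup.mk_pow, QuotientGroup.eq_one_iff, Subgroup.mem_subgroupOf]
    exact h x x.2
  obtain ⟨k, hk⟩ := (IsPGroup.iff_card).1 h1
  exact ⟨k, by rw [Subgroup.index_eq_card, hk]⟩

/-- if the two consecutive chief factors are `p`-groups then the upper one centralizes the lower
one -/
theorem commutator_le_of_pgroup {Z M K : Subgroup G} (hZ : Z.Normal) (hM : M.Normal) (hK : K.Normal)
    (hZM : Z < M) (hMK : M ≤ K) (hchief : ∀ A : Subgroup G, A.Normal → Z < A → A ≤ M → A = M)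
    {p : ℕ} [Fact p.Prime] (h1 : ∀ x ∈ M, x ^ p ∈ Z) (h2 : ∀ x ∈ K, x ^ p ∈ M) : ⁅M, K⁆ ≤ Z := by
  let f := QuotientGroup.mk' Z
  have hf : Function.Surjective f := QuotientGroup.mk'_surjective Z
  have hker : f.ker = Z := QuotientGroup.ker_mk' Z
  have hKp : IsPGroup p (K.map f) := by
    rintro ⟨_, x, hx, rfl⟩
    refine ⟨2, Subtype.ext ?_⟩
    show f x ^ p ^ 2 = 1
    rw [← map_pow, ← MonoidHom.mem_ker, hker, pow_two, pow_mul]
    exact h1 _ (h2 x hx)
  haveI hKn : (K.map f).Normal := hK.map f hf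
  haveI hMn : (M.map f).Normal := hM.map f hf
  have hN' : ((M.map f).subgroupOf (K.map f)).Normal := hMn.subgroupOf _
  have hne : (M.map f).subgroupOf (K.map f) ≠ ⊥ := by
    intro h
    rw [Subgroup.subgroupOf_eq_bot] at h
    have h3 := h.eq_bot_of_le (Subgroup.map_mono hMK)
    rw [Subgroup.map_eq_bot_iff, hker] at h3
    exact hZM.not_ge h3
  obtain ⟨z, hz1, hz2, hz3⟩ := inf_center_ne_bot_of_pGroup hKp _ hN' hne
  obtain ⟨m, hm, hmz⟩ := (Subgroup.mem_subgroupOf.1 hz1)
  haveI hA : (M ⊓ (Subgroup.centralizer ((K.map f : Subgroup (G ⧸ Z)) : Set (G ⧸ Z))).comap f).Normal :=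
    inferInstance
  have hlt : Z < M ⊓ (Subgroup.centralizer ((K.map f : Subgroup (G ⧸ Z)) : Set (G ⧸ Z))).comap f := by
    refine lt_of_le_of_ne (le_inf hZM.le ?_) ?_
    · intro x hx
      rw [Subgroup.mem_comap]
      have : f x = 1 := by rw [← MonoidHom.mem_ker, hker]; exact hx
      rw [this]; exact one_mem _
    · intro heq
      have h3 : m ∈ Z := by
        rw [heq]
        refine Subgroup.mem_inf.2 ⟨hm, ?_⟩
        rw [Subgroup.mem_comap, Subgroup.mem_centralizer_iff]
        intro k hk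
        have h4 := Subgroup.mem_center_iff.1 hz2 ⟨k, hk⟩
        have h5 : k * (z : G ⧸ Z) = (z : G ⧸ Z) * k := congrArg Subtype.val h4
        rw [hmz]
        exact h5
      apply hz3
      apply Subtype.ext
      rw [← hmz]
      show f m = 1
      rw [← MonoidHom.mem_ker, hker]; exact h3
  have h3 := hchief _ hA hlt inf_le_left
  rw [Subgroup.commutator_le]
  intro x hx k hk
  have hx' : x ∈ (Subgroup.centralizer ((K.map f : Subgroup (G ⧸ Z)) : Set (G ⧸ Z))).comap f := by
    rw [← h3] at hx; exact hx.2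
  rw [Subgroup.mem_comap, Subgroup.mem_centralizer_iff] at hx'
  have h4 := hx' (f k) ⟨k, hk, rfl⟩
  rw [← hker, MonoidHom.mem_ker, commutatorElement_def, map_mul, map_mul, map_mul, map_inv, map_inv,
    ← h4]
  group

end

section

variable {G : Type u} [Group G] [Fintype G]

theorem hom_constituent {χ : G → ℂ} {M : Subgroup G} [Fintype M] (hM : M.Normal)
    (hχ : IsIrrCharacter G χ)
    (h : ∃ (φ : M → ℂ) (e : ℕ), IsIrrCharacter M φ ∧ (fun m : M => χ m) = (e : ℂ) • φ)
    {τ : M → ℂ} (hτ : IsIrrCharacter M τ) (hne : classInner (fun m : M => χ m) τ ≠ 0) :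
    (∀ g : G, cj hM g τ = τ) ∧ ∃ e : ℕ, (e : ℂ) ≠ 0 ∧ (fun m : M => χ m) = (e : ℂ) • τ := by
  obtain ⟨φ, e, hφ, he⟩ := h
  have h1 : φ = τ := by
    by_contra hcon
    apply hne
    rw [he, classInner_smul_left, classInner_of_irr_ne hφ hτ hcon, mul_zero]
  subst h1
  have he0 : (e : ℂ) ≠ 0 := by
    intro h0
    rw [h0, zero_smul] at he
    rw [he] at hne
    simp at hne
  refine ⟨fun g => ?_, e, he0, he⟩
  ext m
  have h2 := congrFun he m
  have h3 := congrFun he ⟨g * m * g⁻¹, hM.conj_mem m m.2 g⟩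
  simp only [Pi.smul_apply, smul_eq_mul] at h2 h3
  have h4 : χ (g * m * g⁻¹) = χ m := irr_classFun hχ m g
  rw [h4, h2] at h3
  exact (mul_left_cancel₀ he0 h3).symm

/-- **Berger's lemma** (S0890) -/
theorem berger_lemma (L H : Subgroup G) (hL : L.Normal) (hLH : L ≤ H) (hmax : IsCoatom H)
    (hsolv : Group.IsSolvable (G ⧸ L)) {ϑ : H → ℂ} (hϑ : IsIrrCharacter H ϑ)
    (hϑL : IsIrrCharacter L (fun x : L => ϑ ⟨(x : G), hLH x.2⟩))
    (hind : IsIrrCharacter G (indFun H ϑ)) :
    ∃ M : Subgroup G, M.Normal ∧ L ≤ M ∧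
      ¬ ∃ (φ : M → ℂ) (e : ℕ), IsIrrCharacter M φ ∧ (fun m : M => indFun H ϑ m) = (e : ℂ) • φ := by
  classical
  haveI := hL
  by_contra hcon
  push Not at hcon
  have hhom : ∀ M : Subgroup G, M.Normal → L ≤ M → ∃ (φ : M → ℂ) (e : ℕ), IsIrrCharacter M φ ∧
      (fun m : M => indFun H ϑ m) = (e : ℂ) • φ := hcon
  set χ := indFun H ϑ with hχdef
  have hHtop : H ≠ ⊤ := hmax.1
  let Z : Subgroup G := H.normalCore
  have hZn : Z.Normal := inferInstance
  have hZH : Z ≤ H := H.normalCore_le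
  have hLZ : L ≤ Z := Subgroup.normal_le_normalCore.2 hLH
  haveI := Fintype.ofFinite H
  haveI := Fintype.ofFinite Z
  -- irreducibility of restrictions of `ϑ`
  have hirr : ∀ (U : Subgroup G) (hU : U ≤ H) (hLU : L ≤ U),
      IsIrrCharacter U (fun x : U => ϑ ⟨(x : G), hU x.2⟩) := by
    intro U hU hLU
    have hc : IsCharacter U (fun x : U => ϑ ⟨(x : G), hU x.2⟩) :=
      isChar_comp (irr_isChar hϑ) (Subgroup.inclusion hU)
    refine isIrr_of_restrict hc (L.subgroupOf U) ?_
    have h1 := (isIrr_comp_equiv_iff (Subgroup.subgroupOfEquivOfLe hLU)).2 hϑL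
    exact h1
  let μ : Z → ℂ := fun x => ϑ ⟨(x : G), hZH x.2⟩
  have hμ : IsIrrCharacter Z μ := hirr Z hZH hLZ
  -- `μ` is a constituent of `χ_Z`
  have hne1 : classInner (fun u : H => χ u) ϑ ≠ 0 := by
    have h1 := frobenius_reciprocity H ϑ (irr_classFun hind)
    rw [classInner_self_of_irr hind] at h1
    apply classInner_ne_zero_symm
    rw [← h1]; exact one_ne_zero
  have hsub := isChar_sub_irr (isChar_restrict H (irr_isChar hind)) hϑ hne1
  have hcon_of : ∀ (U : Subgroup G) (_ : Fintype U) (hU : U ≤ H) (hLU : L ≤ U),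
      classInner (fun u : U => χ u) (fun x : U => ϑ ⟨(x : G), hU x.2⟩) ≠ 0 := by
    intro U _ hU hLU
    have hirrU := hirr U hU hLU
    have h1 : IsCharacter U (fun x : U => ((fun u : H => χ u) - ϑ) ⟨(x : G), hU x.2⟩) :=
      isChar_comp hsub (Subgroup.inclusion hU)
    obtain ⟨j, hj⟩ := classInner_char_nat h1 (irr_isChar hirrU)
    have h2 : (fun u : U => χ u) = (fun x : U => ϑ ⟨(x : G), hU x.2⟩) +
        fun x : U => ((fun u : H => χ u) - ϑ) ⟨(x : G), hU x.2⟩ := by
      ext x
      simp only [Pi.add_apply, Pi.sub_apply]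
      ring
    rw [h2, classInner_add_left, classInner_self_of_irr hirrU, hj]
    intro h3
    have h4 : ((1 + j : ℕ) : ℂ) = 0 := by push_cast; exact h3
    have h5 : 1 + j = 0 := by exact_mod_cast h4
    omega
  obtain ⟨hμinv, -⟩ := hom_constituent hZn hind (hhom Z hZn hLZ) hμ (hcon_of Z _ hZH hLZ)
  -- the chief factor `M/Z`
  have hZtop : Z < ⊤ := lt_of_le_of_lt hZH (lt_top_iff_ne_top.2 hHtop)
  have hsZ : Group.IsSolvable (G ⧸ Z) := by
    refine Group.isSolvable_of_surjective (f := QuotientGroup.map L Z (MonoidHom.id G) hLZ) ?_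
    intro x
    induction x using QuotientGroup.induction_on with | _ x
    exact ⟨QuotientGroup.mk x, rfl⟩
  obtain ⟨M, hM, hZM, -, hMmin⟩ := H1.exists_chief_above (Z := Z) (C := ⊤) inferInstance hZtop
  obtain ⟨hMcom, p, hp, hMp, -⟩ := chief_factor_solvable' hZn hM hZM hMmin hsZ
  haveI := hM
  have hMH : ¬ M ≤ H := by
    intro h
    exact hZM.not_ge (Subgroup.normal_le_normalCore.2 h)
  have hsup : M ⊔ H = ⊤ := by
    apply hmax.2
    refine lt_of_le_of_ne le_sup_right fun h => hMH ?_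
    rw [h]; exact le_sup_left
  have hfac : ∀ g : G, ∃ m ∈ M, m⁻¹ * g ∈ H := by
    intro g
    have h1 : g ∈ ((M ⊔ H : Subgroup G) : Set G) := by rw [hsup]; exact Subgroup.mem_top g
    rw [Subgroup.normal_mul] at h1
    obtain ⟨m, hm, h, hh, hmh⟩ := h1
    refine ⟨m, hm, ?_⟩
    rw [← hmh]
    simpa using hh
  have hfac' : ∀ K : Subgroup G, M ≤ K → ∀ g : G, ∃ k ∈ K, k⁻¹ * g ∈ H := by
    intro K hMK g
    obtain ⟨m, hm, h1⟩ := hfac g
    exact ⟨m, hMK hm, h1⟩
  -- normality criterion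
  have hnorm : ∀ K : Subgroup G, K.Normal → M ≤ K →
      (∀ x ∈ H ⊓ K, ∀ m ∈ M, m * x * m⁻¹ ∈ H ⊓ K) → (H ⊓ K) = Z := by
    intro K hK hMK h1
    have h2 : (H ⊓ K).Normal := by
      constructor
      rintro x hx g
      obtain ⟨m, hm, hh⟩ := hfac g
      have h3 : g * x * g⁻¹ = m * ((m⁻¹ * g) * x * (m⁻¹ * g)⁻¹) * m⁻¹ := by group
      rw [h3]
      refine h1 _ ⟨?_, hK.conj_mem x hx.2 _⟩ m hm
      exact H.mul_mem (H.mul_mem hh hx.1) (H.inv_mem hh)
    apply le_antisymm
    · haveI := h2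
      exact Subgroup.normal_le_normalCore.2 inf_le_left
    · exact le_inf hZH (hZM.le.trans hMK)
  have hHM : H ⊓ M = Z := by
    apply hnorm M hM le_rfl
    intro x hx m hm
    refine ⟨?_, hM.conj_mem x hx.2 m⟩
    have h1 : m * x * m⁻¹ = ⁅m, x⁆ * x := by rw [commutatorElement_def]; group
    rw [h1]
    exact H.mul_mem (hZH (hMcom (Subgroup.commutator_mem_commutator hm hx.2))) hx.1
  -- indices
  have hϑ1 : ϑ 1 ≠ 0 := irr_one_ne_zero hϑ
  have hidx : ∀ K : Subgroup G, M ≤ K → (H.subgroupOf K).index = H.index := by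
    intro K hMK
    haveI := Fintype.ofFinite K
    have h1 := indFun_restrict_of_mul H K (hfac' K hMK) (irr_classFun hϑ) 1
    rw [indFun_one_apply, Subgroup.coe_one, indFun_one_apply] at h1
    have h2 : (H.index : ℂ) * ϑ 1 = ((H.subgroupOf K).index : ℂ) * ϑ 1 := h1
    exact_mod_cast (mul_right_cancel₀ hϑ1 h2).symm
  have hcardK : ∀ K : Subgroup G, M ≤ K → H ⊓ K = Z → K = M := by
    intro K hMK hHK
    have h1 := hidx K hMK
    have h2 := hidx M le_rfl
    have h3 : Nat.card (H.subgroupOf K) = Nat.card Z := by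
      rw [← hHK]
      rw [← Subgroup.card_map_of_injective (K := H.subgroupOf K) K.subtype_injective,
        Subgroup.subgroupOf_map_subtype]
    have h4 : Nat.card (H.subgroupOf M) = Nat.card Z := by
      rw [← hHM]
      rw [← Subgroup.card_map_of_injective (K := H.subgroupOf M) M.subtype_injective,
        Subgroup.subgroupOf_map_subtype]
    have h5 := (H.subgroupOf K).index_mul_card
    have h6 := (H.subgroupOf M).index_mul_card
    rw [h1, h3] at h5
    rw [h2, h4] at h6
    exact (Subgroup.eq_of_le_of_card_ge hMK (by rw [← h5, ← h6])).symm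
  -- `χ_M = e ψ`
  haveI := Fintype.ofFinite M
  have hχM0 : (fun m : M => χ m) ≠ 0 := by
    intro h
    exact irr_one_ne_zero hind (congrFun h 1)
  obtain ⟨ψ, hψ⟩ := exists_constituent (isChar_restrict M (irr_isChar hind)) hχM0
  obtain ⟨hψinv, e, he0, heq⟩ := hom_constituent hM hind (hhom M hM (hLZ.trans hZM.le)) ψ.2 hψ
  have he2 : e ^ 2 = H.index := by
    -- norm of `χ_M`
    have hUn : (H.subgroupOf M).Normal := by
      have h1 : H.subgroupOf M = Z.subgroupOf M := by
        ext x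
        rw [Subgroup.mem_subgroupOf, Subgroup.mem_subgroupOf]
        constructor
        · intro hx
          rw [← hHM]; exact ⟨hx, x.2⟩
        · intro hx
          exact hZH hx
      rw [h1]
      exact hZn.subgroupOf M
    have hle : (H.subgroupOf M).map M.subtype ≤ H := by
      rw [Subgroup.subgroupOf_map_subtype]; exact inf_le_left
    have hirrU : IsIrrCharacter (H.subgroupOf M) (fun x => ϑ ⟨((x : M) : G), x.2⟩) := by
      have hc : IsCharacter (H.subgroupOf M) (fun x => ϑ ⟨((x : M) : G), x.2⟩) :=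
        isChar_comp (irr_isChar hϑ) (⟨⟨fun x => ⟨((x : M) : G), x.2⟩, rfl⟩, fun _ _ => rfl⟩ :
          H.subgroupOf M →* H)
      have h1 := hirr (H ⊓ M : Subgroup G) inf_le_left (le_inf (hLZ.trans hZH) (hLZ.trans hZM.le))
      let E : H.subgroupOf M ≃* (H ⊓ M : Subgroup G) := {
        toFun := fun x => ⟨((x : M) : G), x.2, (x : M).2⟩
        invFun := fun x => ⟨⟨(x : G), x.2.2⟩, x.2.1⟩
        left_inv := fun x => rfl
        right_inv := fun x => rfl
        map_mul' := fun _ _ => rfl }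
      exact (isIrr_comp_equiv_iff E).2 h1
    have hinvU : ∀ m : M, cj hUn m (fun x : H.subgroupOf M => ϑ ⟨((x : M) : G), x.2⟩) =
        (fun x : H.subgroupOf M => ϑ ⟨((x : M) : G), x.2⟩) := by
      intro m
      ext x
      have hxZ : ((x : M) : G) ∈ Z := by rw [← hHM]; exact ⟨x.2, (x : M).2⟩
      exact congrFun (hμinv (m : G)) ⟨_, hxZ⟩
    haveI := Fintype.ofFinite (H.subgroupOf M)
    have h1 := norm_ind_invariant hUn hirrU hinvU
    have h2 : indFun (H.subgroupOf M) (fun x => ϑ ⟨((x : M) : G), x.2⟩) = fun m : M => χ m := by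
      ext m
      exact (indFun_restrict_of_mul H M hfac (irr_classFun hϑ) m).symm
    rw [h2, heq, classInner_smul_left, classInner_smul_right, classInner_self_of_irr ψ.2,
      hidx M le_rfl] at h1
    simp only [Complex.conj_natCast, mul_one] at h1
    have h3 : ((e ^ 2 : ℕ) : ℂ) = H.index := by push_cast; rw [pow_two]; exact h1
    exact_mod_cast h3
  -- `M` is proper
  have hMtop : M < ⊤ := by
    rw [lt_top_iff_ne_top]
    intro hMt
    apply hHtop
    have h1 : IsIrrCharacter M (fun m : M => χ m) :=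
      isIrr_comp_surjective hind M.subtype (fun x => ⟨⟨x, by rw [hMt]; exact Subgroup.mem_top x⟩, rfl⟩)
    have h2 := classInner_self_of_irr h1
    rw [heq, classInner_smul_left, classInner_smul_right, classInner_self_of_irr ψ.2] at h2
    simp only [Complex.conj_natCast, mul_one] at h2
    have h3 : e * e = 1 := by exact_mod_cast h2
    have h4 : H.index = 1 := by rw [← he2, pow_two, h3]
    exact Subgroup.index_eq_one.1 h4
  -- the chief factor `K/M`
  have hsM : Group.IsSolvable (G ⧸ M) := by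
    refine Group.isSolvable_of_surjective (f := QuotientGroup.map L M (MonoidHom.id G)
      (hLZ.trans hZM.le)) ?_
    intro x
    induction x using QuotientGroup.induction_on with | _ x
    exact ⟨QuotientGroup.mk x, rfl⟩
  obtain ⟨K, hK, hMK, -, hKmin⟩ := H1.exists_chief_above (Z := M) (C := ⊤) inferInstance hMtop
  obtain ⟨hKcom, r, hr, hKr, -⟩ := chief_factor_solvable' hM hK hMK hKmin hsM
  haveI := hK
  haveI : Fact p.Prime := ⟨hp⟩
  haveI : Fact r.Prime := ⟨hr⟩
  have hKM : H ⊓ K ≠ Z := fun h => hMK.ne' (hcardK K hMK.le h)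
  -- `p ≠ r`
  have hpr : p ≠ r := by
    rintro rfl
    have h1 := commutator_le_of_pgroup hZn hM hK hZM hMK.le hMmin hMp hKr
    apply hKM
    apply hnorm K hK hMK.le
    intro x hx m hm
    refine ⟨?_, hK.conj_mem x hx.2 m⟩
    have h2 : m * x * m⁻¹ = ⁅m, x⁆ * x := by rw [commutatorElement_def]; group
    rw [h2]
    exact H.mul_mem (hZH (h1 (Subgroup.commutator_mem_commutator hm hx.2))) hx.1
  -- the constituent of `χ_K`
  haveI := Fintype.ofFinite K
  have hχK0 : (fun m : K => χ m) ≠ 0 := by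
    intro h
    exact irr_one_ne_zero hind (congrFun h 1)
  obtain ⟨η, hη⟩ := exists_constituent (isChar_restrict K (irr_isChar hind)) hχK0
  obtain ⟨hηinv, f, hf0, hfeq⟩ := hom_constituent hK hind
    (hhom K hK (hLZ.trans (hZM.le.trans hMK.le))) η.2 hη
  let M' : Subgroup K := M.subgroupOf K
  have hM' : M'.Normal := hM.subgroupOf K
  haveI := Fintype.ofFinite M'
  let E : M' ≃* M := Subgroup.subgroupOfEquivOfLe hMK.le
  let ψ' : M' → ℂ := fun x => (ψ : M → ℂ) (E x)
  have hψ' : IsIrrCharacter M' ψ' := (isIrr_comp_equiv_iff E).2 ψ.2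
  have hrel : ∀ x : M', (f : ℂ) * (η : K → ℂ) x = e * ψ' x := by
    intro x
    have h1 := congrFun hfeq (x : K)
    have h2 := congrFun heq (E x)
    simp only [Pi.smul_apply, smul_eq_mul] at h1 h2
    have h3 : ((E x : M) : G) = ((x : K) : G) := rfl
    rw [h3] at h2
    rw [← h1, h2]
  have hηM : (fun x : M' => (η : K → ℂ) x) = ((e : ℂ) / f) • ψ' := by
    ext x
    rw [Pi.smul_apply, smul_eq_mul, div_mul_eq_mul_div, eq_div_iff hf0, mul_comm, hrel x]
  have hηne : classInner (fun x : M' => (η : K → ℂ) x) ψ' ≠ 0 := by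
    rw [hηM, classInner_smul_left, classInner_self_of_irr hψ', mul_one]
    exact div_ne_zero he0 hf0
  have hψ'inv : ∀ k : K, cj hM' k ψ' = ψ' := by
    intro k
    ext x
    exact congrFun (hψinv (k : G)) (E x)
  obtain ⟨g, hg1, hg2⟩ := ratio_dvd_index_invariant hM' η.2 hψ' hψ'inv hηne
  rw [hηM, classInner_smul_left, classInner_self_of_irr hψ', mul_one] at hg1
  have hefg : e = f * g := by
    have h1 : (e : ℂ) = f * g := by
      rw [← hg1]; field_simp
    exact_mod_cast h1
  have hg3 : g = 1 := by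
    obtain ⟨t, ht⟩ := relIndex_of_pGroup_map hM hMK.le hKr
    obtain ⟨s, hs⟩ := relIndex_of_pGroup_map hZn hZM.le hMp
    have h1 : g ∣ r ^ t := by rw [← ht]; exact hg2
    have h2 : (Z.subgroupOf M).index = H.index := by
      rw [← hidx M le_rfl]
      congr 1
      ext x
      rw [Subgroup.mem_subgroupOf, Subgroup.mem_subgroupOf, ← hHM]
      exact ⟨fun hx => hx.1, fun hx => ⟨hx, x.2⟩⟩
    have h3 : g ∣ p ^ s := by
      rw [← hs, h2, ← he2, hefg]
      exact Dvd.dvd.trans (dvd_mul_left g f) (dvd_pow_self _ (by norm_num))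
    have h4 : Nat.Coprime (r ^ t) (p ^ s) :=
      Nat.Coprime.pow _ _ ((Nat.coprime_primes hr hp).2 hpr.symm)
    exact Nat.eq_one_of_dvd_coprimes h4 h1 h3
  rw [hg3, mul_one] at hefg
  -- apply the norm lemma in `K`
  have hUirr : ∀ (U : Subgroup K) (hU : U ≤ H.subgroupOf K) (hLU : L.subgroupOf K ≤ U),
      IsIrrCharacter U (fun x => ϑ ⟨((x : K) : G), hU x.2⟩) := by
    intro U hU hLU
    have hc : IsCharacter U (fun x => ϑ ⟨((x : K) : G), hU x.2⟩) :=
      isChar_comp (irr_isChar hϑ) (⟨⟨fun x => ⟨((x : K) : G), hU x.2⟩, rfl⟩, fun _ _ => rfl⟩ :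
        U →* H)
    refine isIrr_of_restrict hc ((L.subgroupOf K).subgroupOf U) ?_
    have hLK : L ≤ K := hLZ.trans (hZM.le.trans hMK.le)
    have h1 := (isIrr_comp_equiv_iff ((Subgroup.subgroupOfEquivOfLe hLU).trans
      (Subgroup.subgroupOfEquivOfLe hLK))).2 hϑL
    exact h1
  have hLK' : L.subgroupOf K ≤ (H.subgroupOf K).normalCore := by
    haveI : (L.subgroupOf K).Normal := hL.subgroupOf K
    rw [Subgroup.normal_le_normalCore]
    intro x hx
    exact hLH hx
  have hUnorm : (H.subgroupOf K).Normal := by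
    refine normal_of_norm_max (θ := fun x => ϑ ⟨((x : K) : G), x.2⟩)
      (hUirr (H.subgroupOf K) le_rfl (hLK'.trans (Subgroup.normalCore_le _)))
      (hUirr _ (Subgroup.normalCore_le _) hLK') η.2 (f := e) ?_ ?_
    · rw [he2, hidx K hMK.le]
    · ext k
      have h1 := indFun_restrict_of_mul H K (hfac' K hMK.le) (irr_classFun hϑ) k
      rw [← h1, hefg]
      exact congrFun hfeq k
  apply hKM
  apply hnorm K hK hMK.le
  intro x hx m hm
  refine ⟨?_, hK.conj_mem x hx.2 m⟩
  have h1 := hUnorm.conj_mem (⟨x, hx.2⟩ : K) (by rw [Subgroup.mem_subgroupOf]; exact hx.1)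
    (⟨m, hMK.le hm⟩ : K)
  exact h1

end

end Cfsg.Agent.H3
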