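import Cfsg.Agent.H4.ZStarB
import Cfsg.Agent.H2.NComp
import Mathlib.GroupTheory.SpecificGroups.Quaternion
import Mathlib.GroupTheory.SpecificGroups.Cyclic

/-!
# Local structure with generalized quaternion Sylow 2-subgroups (helper3)
-/

set_option autoImplicit false
set_option linter.style.haveILetI false
set_option linter.unusedSimpArgs false
set_option linter.unusedSectionVars false
set_option linter.unusedVariables false
open Cfsg
open scoped commutatorElement

namespace Cfsg.Agent.H3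

open Cfsg.Agent.H4 QuaternionGroup

universe u v w

section

variable {G : Type u} [Group G]

/-- the standard generators -/
theorem qsyl_of_equiv {P : Subgroup G} {n : ℕ} (e : P ≃* QuaternionGroup (2 ^ (n + 2))) :
    ∃ a x : G, QSyl P (n + 3) a x := by
  let m : ℕ := 2 ^ (n + 2)
  haveI : NeZero m := ⟨by positivity⟩
  have hzp : ∀ y : P, (y : G) ∈ Subgroup.zpowers ((e.symm (a 1) : P) : G) ↔
      ∃ i : ZMod (2 * m), e y = a i := by
    intro y
    constructor
    · rintro ⟨k, hk⟩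
      have h1 : y = (e.symm (a 1)) ^ k := Subtype.ext hk.symm
      have h2 : ∀ k : ℤ, ∃ i : ZMod (2 * m), (a 1 : QuaternionGroup m) ^ k = a i := by
        intro k
        rcases k.eq_nat_or_neg with ⟨j, rfl | rfl⟩
        · exact ⟨j, by rw [zpow_natCast, a_one_pow]⟩
        · refine ⟨-j, ?_⟩
          rw [zpow_neg, zpow_natCast, a_one_pow]; rfl
      obtain ⟨i, hi⟩ := h2 k
      refine ⟨i, ?_⟩
      rw [h1, map_zpow, MulEquiv.apply_symm_apply, hi]
    · rintro ⟨i, hi⟩
      refine ⟨(i.val : ℤ), ?_⟩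
      have h1 : y = (e.symm (a 1)) ^ i.val := by
        rw [← map_pow, MulEquiv.eq_symm_apply, hi, a_one_pow, ZMod.natCast_val, ZMod.cast_id]
      rw [h1]
      show ((e.symm (a 1) : P) : G) ^ ((i.val : ℕ) : ℤ) = _
      rw [zpow_natCast]
      rfl
  have hcast : ((m : ℕ) : ZMod (2 * m)) = ((2 ^ (n + 3 - 1) : ℕ) : ZMod (2 * m)) := by
    congr 1
  refine ⟨(e.symm (a 1) : P), (e.symm (xa 0) : P), ⟨by omega, (e.symm (a 1)).2, (e.symm (xa 0)).2,
    ?_, ?_, ?_, ?_, ?_⟩⟩
  · rw [Subgroup.orderOf_coe, MulEquiv.orderOf_eq, orderOf_a_one]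
    show 2 * 2 ^ (n + 2) = _
    ring
  · have h1 : (xa 0 : QuaternionGroup m) * a 1 * (xa 0)⁻¹ = (a 1)⁻¹ := by
      rw [mul_inv_eq_iff_eq_mul]
      show xa (0 + 1) = a (-1) * xa 0
      rw [a_mul_xa]; simp
    have h2 : e.symm (xa 0) * e.symm (a 1) * (e.symm (xa 0))⁻¹ = (e.symm (a 1))⁻¹ := by
      rw [← map_mul, ← map_inv, ← map_mul, h1, map_inv]
    exact congrArg Subtype.val h2
  · have h1 : (xa 0 : QuaternionGroup m) * xa 0 = (a 1) ^ (2 ^ (n + 3 - 1)) := by
      rw [xa_mul_xa, a_one_pow]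
      simp [m]
    have h2 : e.symm (xa 0) * e.symm (xa 0) = (e.symm (a 1)) ^ (2 ^ (n + 3 - 1)) := by
      rw [← map_mul, h1, map_pow]
    exact congrArg Subtype.val h2
  · rw [hzp (e.symm (xa 0))]
    rintro ⟨i, hi⟩
    rw [MulEquiv.apply_symm_apply] at hi
    cases hi
  · intro g hg
    rcases h : e ⟨g, hg⟩ with i | i
    · left
      exact (hzp ⟨g, hg⟩).2 ⟨i, h⟩
    · right
      refine (hzp (e.symm (xa 0) * ⟨g, hg⟩)).2 ⟨m + i, ?_⟩
      rw [map_mul, MulEquiv.apply_symm_apply, h, xa_mul_xa, sub_zero]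

variable {P : Subgroup G} {m : ℕ} {a x : G}

theorem QSyl.mul_mem_out (h : QSyl P m a x) {g k : G} (hg : g ∈ P) (hga : g ∉ Subgroup.zpowers a)
    (hk : k ∈ P) (hka : k ∉ Subgroup.zpowers a) : k⁻¹ * g ∈ Subgroup.zpowers a := by
  have h1 := (h.cov g hg).resolve_left hga
  have h2 := (h.cov k hk).resolve_left hka
  have h3 : k⁻¹ * g = (x * k)⁻¹ * (x * g) := by group
  rw [h3]
  exact mul_mem (inv_mem h2) h1

theorem qsyl_commutator (h : QSyl P m a x) : ⁅P, P⁆ = Subgroup.zpowers (a ^ 2) := by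
  have hsq : ∀ v ∈ Subgroup.zpowers a, v * v ∈ Subgroup.zpowers (a ^ 2) := by
    rintro v ⟨k, rfl⟩
    refine ⟨k, ?_⟩
    show (a ^ 2) ^ k = a ^ k * a ^ k
    rw [← zpow_natCast, ← zpow_mul, ← zpow_add]
    congr 1
    push_cast; ring
  apply le_antisymm
  · rw [Subgroup.commutator_le]
    intro g hg k hk
    rw [commutatorElement_def]
    by_cases hga : g ∈ Subgroup.zpowers a
    · by_cases hka : k ∈ Subgroup.zpowers a
      · rw [comm_zpowers hga hka]
        simp
      · have h1 := h.out_inv hk hka (inv_mem hga)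
        have h2 : g * k * g⁻¹ * k⁻¹ = g * (k * g⁻¹ * k⁻¹) := by group
        rw [h2, h1, inv_inv]
        exact hsq g hga
    · by_cases hka : k ∈ Subgroup.zpowers a
      · have h1 := h.out_inv hg hga hka
        rw [h1]
        exact hsq _ (inv_mem hka)
      · have h1 := QSyl.mul_mem_out h hg hga hk hka
        set c := k⁻¹ * g with hc
        have hg' : g = k * c := by rw [hc]; group
        have h2 := h.out_inv hk hka (inv_mem h1)
        have h3 := h.out_inv hk hka h1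
        have h4 : g * k * g⁻¹ * k⁻¹ = (k * c * k⁻¹) * (k * (k * c⁻¹ * k⁻¹) * k⁻¹) := by
          rw [hg']; group
        rw [h4, h3, h2, inv_inv, h3]
        exact hsq _ (inv_mem h1)
  · rw [Subgroup.zpowers_le]
    have h1 : a ^ 2 = ⁅x, a⁻¹⁆ := by
      rw [commutatorElement_def, inv_inv]
      have := h.conj_mem (inv_mem (Subgroup.mem_zpowers a))
      rw [this, inv_inv, pow_two]
    rw [h1]
    exact Subgroup.commutator_mem_commutator h.hx (P.inv_mem h.ha)

theorem qsyl_sq_ne (h : QSyl P m a x) (hm : 3 ≤ m) : a ^ 2 * a ^ 2 ≠ 1 := by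
  intro h1
  rw [← pow_add] at h1
  have h2 := orderOf_dvd_of_pow_eq_one h1
  rw [h.ord] at h2
  have h3 : 2 ^ 3 ∣ 2 ^ m := pow_dvd_pow 2 hm
  have h4 := Nat.le_of_dvd (by norm_num) (h3.trans h2)
  omega

theorem centralizer_sq (a : G) : Subgroup.centralizer ((Subgroup.zpowers (a ^ 2) : Subgroup G) : Set G) =
    Subgroup.centralizer ({a ^ 2} : Set G) := by
  rw [Subgroup.zpowers_eq_closure, Subgroup.centralizer_closure]

theorem zpowers_sq_le (a : G) : Subgroup.zpowers (a ^ 2) ≤ Subgroup.zpowers a := by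
  rw [Subgroup.zpowers_le]; exact Subgroup.pow_mem _ (Subgroup.mem_zpowers a) 2

theorem zpowers_le_centralizer_sq (a : G) :
    Subgroup.zpowers a ≤ Subgroup.centralizer ({a ^ 2} : Set G) := by
  intro w hw
  rw [Subgroup.mem_centralizer_singleton_iff]
  exact comm_zpowers hw (Subgroup.pow_mem _ (Subgroup.mem_zpowers a) 2)

/-- an element of the normalizer of `⟨a²⟩` is in `C` or `x⁻¹ C`. -/
theorem normalizer_cases [Finite G] {P : Sylow 2 G} (h : QSyl (P : Subgroup G) m a x) (hm : 3 ≤ m)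
    {g : G} (hg : g ∈ Subgroup.normalizer ((Subgroup.zpowers (a ^ 2) : Subgroup G) : Set G)) :
    g ∈ Subgroup.centralizer ({a ^ 2} : Set G) ∨ x * g ∈ Subgroup.centralizer ({a ^ 2} : Set G) := by
  have hv : a ^ 2 ∈ Subgroup.zpowers a := Subgroup.pow_mem _ (Subgroup.mem_zpowers a) 2
  have h1 : g * a ^ 2 * g⁻¹ ∈ Subgroup.zpowers (a ^ 2) :=
    (Subgroup.mem_normalizer_iff.1 hg (a ^ 2)).1 (Subgroup.mem_zpowers _)
  have h2 : g * a ^ 2 * g⁻¹ ∈ Subgroup.zpowers a := zpowers_sq_le a h1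
  rcases h.conj_iff hv (qsyl_sq_ne h hm) h2 (isConj_iff.2 ⟨g, rfl⟩) with h3 | h3
  · left
    rw [Subgroup.mem_centralizer_singleton_iff]
    exact mul_inv_eq_iff_eq_mul.1 h3
  · right
    rw [Subgroup.mem_centralizer_singleton_iff]
    have h4 : x * g * a ^ 2 * (x * g)⁻¹ = a ^ 2 := by
      calc x * g * a ^ 2 * (x * g)⁻¹ = x * (g * a ^ 2 * g⁻¹) * x⁻¹ := by group
        _ = x * (a ^ 2)⁻¹ * x⁻¹ := by rw [h3]
        _ = a ^ 2 := by rw [h.conj_mem (inv_mem hv), inv_inv]
    exact mul_inv_eq_iff_eq_mul.1 h4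

theorem x_mem_normalizer (h : QSyl P m a x) :
    x ∈ Subgroup.normalizer ((Subgroup.zpowers (a ^ 2) : Subgroup G) : Set G) := by
  rw [Subgroup.mem_normalizer_iff]
  intro y
  constructor
  · intro hy
    rw [h.conj_mem (zpowers_sq_le a hy)]
    exact inv_mem hy
  · intro hy
    have h1 := h.conj_mem (zpowers_sq_le a hy)
    -- x (x y x⁻¹) x⁻¹ = (x y x⁻¹)⁻¹, and x * x is a power of a
    have h2 : y = x⁻¹ * (x * y * x⁻¹) * x := by group
    have h3 : x⁻¹ * (x * y * x⁻¹) * x = (x * y * x⁻¹)⁻¹ := by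
      have h4 := h.conj_mem (inv_mem (zpowers_sq_le a hy))
      rw [inv_inv] at h4
      calc x⁻¹ * (x * y * x⁻¹) * x = x⁻¹ * (x * (x * y * x⁻¹)⁻¹ * x⁻¹) * x := by rw [h4]
        _ = (x * y * x⁻¹)⁻¹ := by group
    rw [h2, h3]
    exact inv_mem hy

theorem x_not_mem_centralizer (h : QSyl P m a x) (hm : 3 ≤ m) :
    x ∉ Subgroup.centralizer ({a ^ 2} : Set G) := by
  intro hx
  rw [Subgroup.mem_centralizer_singleton_iff] at hx
  have h1 := h.conj_mem (Subgroup.pow_mem _ (Subgroup.mem_zpowers a) 2)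
  have h2 : x * a ^ 2 * x⁻¹ = a ^ 2 := mul_inv_eq_iff_eq_mul.2 hx
  rw [h2] at h1
  apply qsyl_sq_ne h hm
  nth_rewrite 1 [h1]
  exact inv_mul_cancel _

theorem centralizer_le_normalizer' (a : G) : Subgroup.centralizer ({a ^ 2} : Set G) ≤
    Subgroup.normalizer ((Subgroup.zpowers (a ^ 2) : Subgroup G) : Set G) := by
  intro g hg
  rw [← centralizer_sq, Subgroup.mem_centralizer_iff] at hg
  rw [Subgroup.mem_normalizer_iff]
  intro y
  constructor
  · intro hy
    rw [← hg y hy, mul_inv_cancel_right]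
    exact hy
  · intro hy
    have h1 := hg _ hy
    have h2 : y = g * y * g⁻¹ := by
      calc y = g⁻¹ * (g * y * g⁻¹ * g) := by group
        _ = g⁻¹ * (g * (g * y * g⁻¹)) := by rw [h1]
        _ = g * y * g⁻¹ := by group
    rw [h2]; exact hy

/-- `C` is normalized by `N`. -/
theorem conj_mem_centralizer {g y : G}
    (hg : g ∈ Subgroup.normalizer ((Subgroup.zpowers (a ^ 2) : Subgroup G) : Set G))
    (hy : y ∈ Subgroup.centralizer ({a ^ 2} : Set G)) :
    g * y * g⁻¹ ∈ Subgroup.centralizer ({a ^ 2} : Set G) := by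
  rw [← centralizer_sq] at hy ⊢
  rw [Subgroup.mem_centralizer_iff] at hy ⊢
  intro d hd
  have h1 : g⁻¹ * d * g ∈ Subgroup.zpowers (a ^ 2) := by
    have := (Subgroup.mem_normalizer_iff.1 (inv_mem hg) d).1 hd
    rwa [inv_inv] at this
  have h2 := hy _ h1
  calc d * (g * y * g⁻¹) = g * ((g⁻¹ * d * g) * y) * g⁻¹ := by group
    _ = g * (y * (g⁻¹ * d * g)) * g⁻¹ := by rw [h2]
    _ = g * y * g⁻¹ * d := by group

theorem index_centralizer_normalizer [Finite G] {P : Sylow 2 G}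
    (h : QSyl (P : Subgroup G) m a x) (hm : 3 ≤ m) :
    ((Subgroup.centralizer ({a ^ 2} : Set G)).subgroupOf
      (Subgroup.normalizer ((Subgroup.zpowers (a ^ 2) : Subgroup G) : Set G))).index = 2 := by
  rw [Subgroup.index_eq_two_iff]
  refine ⟨⟨x, x_mem_normalizer h⟩, fun b => ?_⟩
  rw [Subgroup.mem_subgroupOf, Subgroup.mem_subgroupOf]
  show Xor ((b : G) * x ∈ _) ((b : G) ∈ _)
  have hx := x_not_mem_centralizer h hm
  by_cases hb : (b : G) ∈ Subgroup.centralizer ({a ^ 2} : Set G)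
  · right
    refine ⟨hb, fun h2 => hx ?_⟩
    have : x = (b : G)⁻¹ * ((b : G) * x) := by group
    rw [this]; exact mul_mem (inv_mem hb) h2
  · left
    refine ⟨?_, hb⟩
    have h1 := (normalizer_cases h hm b.2).resolve_left hb
    have h2 : (b : G) * x = x⁻¹ * (x * b) * x⁻¹⁻¹ := by group
    rw [h2]
    exact conj_mem_centralizer (inv_mem (x_mem_normalizer h)) h1

end

end Cfsg.Agent.H3
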