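import Cfsg.Agent.H3.Quat

/-!
# Local structure with generalized quaternion Sylow 2-subgroups, part 2 (helper3)
-/

set_option autoImplicit false
set_option linter.style.haveILetI false
set_option linter.unusedSimpArgs false
set_option linter.unusedSectionVars false
set_option linter.unusedVariables false
open Cfsg
open scoped commutatorElement

namespace Cfsg.Agent.H3

open Cfsg.Agent.H4

universe u v w

section

variable {G : Type u} [Group G]

theorem mem_normalizer_of_conj_le [Finite G] {D : Subgroup G} {g : G}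
    (h : ∀ y ∈ D, g * y * g⁻¹ ∈ D) : g ∈ Subgroup.normalizer (D : Set G) := by
  have h1 : D.map (MulAut.conj g).toMonoidHom ≤ D := by
    rintro _ ⟨y, hy, rfl⟩
    exact h y hy
  have h2 : D.map (MulAut.conj g).toMonoidHom = D := by
    apply Subgroup.eq_of_le_of_card_ge h1
    rw [Subgroup.card_map_of_injective (MulAut.conj g).injective]
  rw [Subgroup.mem_normalizer_iff]
  intro y
  refine ⟨h y, fun hy => ?_⟩
  rw [← h2] at hy
  obtain ⟨z, hz, hzy⟩ := hy
  have : z = y := (MulAut.conj g).injective hzy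
  rwa [← this]

variable {m : ℕ} {a x : G}

theorem sq_mem_of_order {w : G} (hm : 3 ≤ m) (ha : orderOf a = 2 ^ m)
    (hw : w ∈ Subgroup.zpowers a) (hd : 2 ^ (m - 1) ∣ orderOf w) : a ^ 2 ∈ Subgroup.zpowers w := by
  obtain ⟨k, rfl⟩ := Subgroup.mem_zpowers_iff.1 hw
  obtain ⟨n, rfl⟩ : ∃ n, m = n + 1 := ⟨m - 1, by omega⟩
  simp only [Nat.add_sub_cancel] at hd
  have ha' : (a : G) ^ ((2 : ℤ) ^ (n + 1)) = 1 := by
    have := pow_orderOf_eq_one a
    rw [ha] at this
    exact_mod_cast this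
  by_cases hk : (2 : ℤ) ∣ k
  · obtain ⟨j, rfl⟩ := hk
    -- `j` is odd
    have hj : ¬ (2 : ℤ) ∣ j := by
      rintro ⟨i, rfl⟩
      have h1 : orderOf (a ^ (2 * (2 * i))) ∣ 2 ^ (n - 1) := by
        apply orderOf_dvd_of_pow_eq_one
        rw [← zpow_natCast, ← zpow_mul]
        have h2 : 2 * (2 * i) * ((2 ^ (n - 1) : ℕ) : ℤ) = 2 ^ (n + 1) * i := by
          obtain ⟨l, rfl⟩ : ∃ l, n = l + 1 := ⟨n - 1, by omega⟩
          simp only [Nat.add_sub_cancel]
          push_cast; ring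
        rw [h2, zpow_mul, ha', one_zpow]
      have h2 := Nat.le_of_dvd (by positivity) (hd.trans h1)
      have h3 : 2 ^ (n - 1) < 2 ^ n := Nat.pow_lt_pow_right (by norm_num) (by omega)
      omega
    have hcop : IsCoprime j ((2 : ℤ) ^ n) := by
      apply IsCoprime.pow_right
      rw [Int.isCoprime_iff_gcd_eq_one]
      have h5 : Int.gcd j 2 ∣ 2 := by
        have := Int.gcd_dvd_right (a := j) (b := 2)
        exact_mod_cast this
      rcases (Nat.dvd_prime Nat.prime_two).1 h5 with h6 | h6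
      · exact h6
      · exfalso; apply hj
        have := Int.gcd_dvd_left (a := j) (b := 2)
        rw [h6] at this
        exact_mod_cast this
    obtain ⟨s, t, hst⟩ := hcop
    refine Subgroup.mem_zpowers_iff.2 ⟨s, ?_⟩
    rw [← zpow_mul, ← zpow_natCast]
    have h5 : 2 * j * s = ((2 : ℕ) : ℤ) + 2 ^ (n + 1) * (-t) := by
      push_cast
      linear_combination 2 * hst
    rw [h5, zpow_add, zpow_mul a ((2 : ℤ) ^ (n + 1)), ha', one_zpow, mul_one]
  · have hcop : IsCoprime k ((2 : ℤ) ^ (n + 1)) := by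
      apply IsCoprime.pow_right
      rw [Int.isCoprime_iff_gcd_eq_one]
      have h5 : Int.gcd k 2 ∣ 2 := by
        have := Int.gcd_dvd_right (a := k) (b := 2)
        exact_mod_cast this
      rcases (Nat.dvd_prime Nat.prime_two).1 h5 with h6 | h6
      · exact h6
      · exfalso; apply hk
        have := Int.gcd_dvd_left (a := k) (b := 2)
        rw [h6] at this
        exact_mod_cast this
    obtain ⟨s, t, hst⟩ := hcop
    refine Subgroup.mem_zpowers_iff.2 ⟨2 * s, ?_⟩
    rw [← zpow_mul, ← zpow_natCast]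
    have h5 : k * (2 * s) = ((2 : ℕ) : ℤ) + 2 ^ (n + 1) * (-2 * t) := by
      push_cast
      linear_combination 2 * hst
    rw [h5, zpow_add, zpow_mul a ((2 : ℤ) ^ (n + 1)), ha', one_zpow, mul_one]

variable [Finite G] {P : Sylow 2 G}

theorem card_zpowers_sq (h : QSyl (P : Subgroup G) m a x) :
    Nat.card (Subgroup.zpowers (a ^ 2)) = 2 ^ (m - 1) := by
  rw [Nat.card_zpowers, orderOf_pow, h.ord]
  obtain ⟨n, rfl⟩ : ∃ n, m = n + 1 := ⟨m - 1, by have := h.hm; omega⟩
  have : Nat.gcd (2 ^ (n + 1)) 2 = 2 := Nat.gcd_eq_right (dvd_pow_self 2 (Nat.succ_ne_zero n))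
  rw [this, pow_succ, Nat.mul_div_cancel _ (by norm_num)]
  rfl

/-- elements of `X` have `D` among their powers -/
theorem le_zpowers_of_mem (h : QSyl (P : Subgroup G) m a x) (hm : 3 ≤ m) {y : G}
    (hy : y ∈ Subgroup.centralizer ({a ^ 2} : Set G)) (hd : 2 ^ (m - 1) ∣ orderOf y) :
    a ^ 2 ∈ Subgroup.zpowers y := by
  haveI : Fact (Nat.Prime 2) := ⟨Nat.prime_two⟩
  set C := Subgroup.centralizer ({a ^ 2} : Set G) with hC
  have haC : Subgroup.zpowers a ≤ C := zpowers_le_centralizer_sq a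
  have hv : a ^ 2 ∈ Subgroup.zpowers a := Subgroup.pow_mem _ (Subgroup.mem_zpowers a) 2
  -- the Sylow subgroup of `C`
  have hpa : IsPGroup 2 ((Subgroup.zpowers a).subgroupOf C) := by
    have h1 : IsPGroup 2 (Subgroup.zpowers a) := P.2.to_le h.le
    exact h1.comap_subtype
  obtain ⟨Q, hQ⟩ := hpa.exists_le_sylow
  have hQG : (Q : Subgroup C).map C.subtype = Subgroup.zpowers a := by
    apply h.sylow_centralizer hv (qsyl_sq_ne h hm) (Q.2.map _)
    · intro w hw
      exact ⟨⟨w, haC hw⟩, hQ (by rw [Subgroup.mem_subgroupOf]; exact hw), rfl⟩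
    · rintro _ ⟨g, -, rfl⟩
      exact Subgroup.mem_centralizer_singleton_iff.1 g.2
  -- the 2-part of `y`
  obtain ⟨s, r, hr, hsr⟩ := Nat.exists_eq_pow_mul_and_not_dvd (orderOf_pos y).ne' 2 (by norm_num)
  set u : G := y ^ r with hu
  have hr0 : r ≠ 0 := by
    rintro rfl
    exact hr (dvd_zero 2)
  have huo : orderOf u = 2 ^ s := by
    rw [hu, orderOf_pow' y hr0, hsr, Nat.gcd_eq_right (dvd_mul_left r _),
      Nat.mul_div_cancel _ (Nat.pos_of_ne_zero hr0)]
  have hs : 2 ^ (m - 1) ∣ 2 ^ s := by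
    have h1 : Nat.Coprime (2 ^ (m - 1)) r :=
      Nat.Coprime.pow_left _ ((Nat.Prime.coprime_iff_not_dvd Nat.prime_two).2 hr)
    rw [hsr] at hd
    exact h1.dvd_of_dvd_mul_right hd
  have huC : u ∈ C := Subgroup.pow_mem _ hy r
  have hup : IsPGroup 2 (Subgroup.zpowers (⟨u, huC⟩ : C)) := by
    rw [IsPGroup.iff_card]
    exact ⟨s, by rw [Nat.card_zpowers, Subgroup.orderOf_mk, huo]⟩
  obtain ⟨c, hc⟩ := exists_map_conj_le_sylow Q _ hup
  have h1 : (c : G) * u * (c : G)⁻¹ ∈ Subgroup.zpowers a := by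
    rw [← hQG]
    exact ⟨c * ⟨u, huC⟩ * c⁻¹, hc ⟨_, Subgroup.mem_zpowers _, rfl⟩, rfl⟩
  have h2 : a ^ 2 ∈ Subgroup.zpowers ((c : G) * u * (c : G)⁻¹) := by
    apply sq_mem_of_order hm h.ord h1
    rw [orderOf_conj, huo]; exact hs
  obtain ⟨l, hl⟩ := Subgroup.mem_zpowers_iff.1 h2
  rw [conj_zpow] at hl
  have h3 : u ^ l = a ^ 2 := by
    have h4 : (c : G) * a ^ 2 = a ^ 2 * c := Subgroup.mem_centralizer_singleton_iff.1 c.2
    calc u ^ l = (c : G)⁻¹ * (c * u ^ l * (c : G)⁻¹) * c := by group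
      _ = (c : G)⁻¹ * (a ^ 2 * c) := by rw [hl]; group
      _ = a ^ 2 := by rw [← h4]; group
  rw [← h3, hu]
  exact Subgroup.zpow_mem _ (Subgroup.pow_mem _ (Subgroup.mem_zpowers y) r) l

/-- uniqueness of subgroups in cyclic groups -/
theorem mem_of_pow_card {D : Subgroup G} {z w : G} (hD : D ≤ Subgroup.zpowers z)
    (hw : w ∈ Subgroup.zpowers z) (hwD : w ^ Nat.card D = 1) : w ∈ D := by
  classical
  haveI := Fintype.ofFinite (Subgroup.zpowers z)
  have h1 := IsCyclic.card_pow_eq_one_le (α := Subgroup.zpowers z) (n := Nat.card D) Nat.card_pos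
  let T : Finset (Subgroup.zpowers z) := Finset.univ.filter fun y => (y : G) ∈ D
  have hT : T.card = Nat.card D := by
    have h2 : Nat.card (D.subgroupOf (Subgroup.zpowers z)) = Nat.card D :=
      Nat.card_congr (Subgroup.subgroupOfEquivOfLe hD).toEquiv
    rw [← h2, Nat.card_eq_fintype_card, Fintype.card_subtype]
    congr 1
  have hsub : T ⊆ Finset.univ.filter fun y : Subgroup.zpowers z => y ^ Nat.card D = 1 := by
    intro y hy
    rw [Finset.mem_filter] at hy ⊢
    refine ⟨Finset.mem_univ _, ?_⟩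
    have h3 : (⟨(y : G), hy.2⟩ : D) ^ Nat.card D = 1 := pow_card_eq_one'
    apply Subtype.ext
    exact congrArg (fun t : D => (t : G)) h3
  have heq := Finset.eq_of_subset_of_card_le hsub (by rw [hT]; exact h1)
  have h4 : (⟨w, hw⟩ : Subgroup.zpowers z) ∈ T := by
    rw [heq, Finset.mem_filter]
    exact ⟨Finset.mem_univ _, Subtype.ext hwD⟩
  exact (Finset.mem_filter.1 h4).2

theorem no_fusion_X (h : QSyl (P : Subgroup G) m a x) (hm : 3 ≤ m) {g y : G}
    (hy : y ∈ Subgroup.centralizer ({a ^ 2} : Set G)) (hd : 2 ^ (m - 1) ∣ orderOf y)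
    (hgy : g * y * g⁻¹ ∈ Subgroup.centralizer ({a ^ 2} : Set G)) :
    g ∈ Subgroup.normalizer ((Subgroup.zpowers (a ^ 2) : Subgroup G) : Set G) := by
  have h1 := le_zpowers_of_mem h hm hy hd
  have h2 := le_zpowers_of_mem h hm hgy (by rw [orderOf_conj]; exact hd)
  apply mem_normalizer_of_conj_le
  intro d hd'
  obtain ⟨k, rfl⟩ := Subgroup.mem_zpowers_iff.1 hd'
  apply mem_of_pow_card (z := g * y * g⁻¹) (by rw [Subgroup.zpowers_le]; exact h2)
  · obtain ⟨l, hl⟩ := Subgroup.mem_zpowers_iff.1 h1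
    rw [← hl, ← conj_zpow, ← conj_zpow]
    exact Subgroup.zpow_mem _ (Subgroup.zpow_mem _ (Subgroup.mem_zpowers _) l) k
  · rw [conj_pow, ← zpow_natCast, ← zpow_mul, mul_comm, zpow_mul, zpow_natCast, Nat.card_zpowers,
      pow_orderOf_eq_one, one_zpow]
    group

/-- S0842 -/
theorem quat_complement (h : QSyl (P : Subgroup G) m a x) (hm : 3 ≤ m) :
    ∃ K : Subgroup G, Odd (Nat.card K) ∧ K ≤ Subgroup.centralizer ({a ^ 2} : Set G) ∧
      (∀ g ∈ Subgroup.normalizer ((Subgroup.zpowers (a ^ 2) : Subgroup G) : Set G),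
        g ∈ Subgroup.normalizer (K : Set G)) ∧
      K ⊔ (P : Subgroup G) = Subgroup.normalizer ((Subgroup.zpowers (a ^ 2) : Subgroup G) : Set G) ∧
      K ⊔ ((P : Subgroup G) ⊓ Subgroup.centralizer ({a ^ 2} : Set G)) =
        Subgroup.centralizer ({a ^ 2} : Set G) := by
  haveI : Fact (Nat.Prime 2) := ⟨Nat.prime_two⟩
  have hv : a ^ 2 ∈ Subgroup.zpowers a := Subgroup.pow_mem _ (Subgroup.mem_zpowers a) 2
  have hcomp := h.complement hv (qsyl_sq_ne h hm)
  have haC := zpowers_le_centralizer_sq a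
  have hCN := centralizer_le_normalizer' a
  have hconj : ∀ g ∈ Subgroup.normalizer ((Subgroup.zpowers (a ^ 2) : Subgroup G) : Set G),
    ∀ y ∈ Subgroup.centralizer ({a ^ 2} : Set G),
      g * y * g⁻¹ ∈ Subgroup.centralizer ({a ^ 2} : Set G) :=
    fun g hg y hy => conj_mem_centralizer hg hy
  have hcases : ∀ g ∈ Subgroup.normalizer ((Subgroup.zpowers (a ^ 2) : Subgroup G) : Set G),
    g ∈ Subgroup.centralizer ({a ^ 2} : Set G) ∨ x * g ∈ Subgroup.centralizer ({a ^ 2} : Set G) :=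
    fun g hg => normalizer_cases h hm hg
  generalize Subgroup.centralizer ({a ^ 2} : Set G) = C at *
  obtain ⟨K₀, hK₀, h2, hidx, hdec⟩ := hcomp
  haveI := hK₀
  have hmem : ∀ y : G, y ∈ K₀.map C.subtype ↔ y ∈ C ∧ Nat.Coprime (orderOf y) 2 := by
    intro y
    constructor
    · rintro ⟨z, hz, rfl⟩
      refine ⟨z.2, ?_⟩
      replace hz : z ∈ K₀ := hz
      rw [H2.mem_normal_complement_iff h2 hidx] at hz
      rw [show C.subtype z = (z : G) from rfl, Subgroup.orderOf_coe]
      exact hz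
    · rintro ⟨hy, ho⟩
      refine ⟨⟨y, hy⟩, ?_, rfl⟩
      show (⟨y, hy⟩ : C) ∈ K₀
      rw [H2.mem_normal_complement_iff h2 hidx, Subgroup.orderOf_mk]
      exact ho
  have hKC : K₀.map C.subtype ≤ C := Subgroup.map_subtype_le _
  refine ⟨K₀.map C.subtype, ?_, hKC, ?_, ?_, ?_⟩
  · rw [Subgroup.card_map_of_injective C.subtype_injective, ← Nat.not_even_iff_odd, even_iff_two_dvd]
    exact h2
  · intro g hg
    apply mem_normalizer_of_conj_le
    intro y hy
    rw [hmem] at hy ⊢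
    exact ⟨hconj g hg y hy.1, by rw [orderOf_conj]; exact hy.2⟩
  · apply le_antisymm
    · refine sup_le (hKC.trans hCN) ?_
      intro s hs
      rcases h.cov s hs with h3 | h3
      · exact hCN (haC h3)
      · have h4 := hCN (haC h3)
        have h5 : s = x⁻¹ * (x * s) := by group
        rw [h5]
        exact mul_mem (inv_mem (x_mem_normalizer h)) h4
    · have key : ∀ g ∈ C, g ∈ K₀.map C.subtype ⊔ (P : Subgroup G) := by
        intro g hg
        obtain ⟨k, hk, w, hw, hgw⟩ := hdec ⟨g, hg⟩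
        have hgw' : g = k * w := hgw
        rw [hgw']
        exact mul_mem (Subgroup.mem_sup_left ⟨k, hk, rfl⟩) (Subgroup.mem_sup_right (h.le hw))
      intro g hg
      rcases hcases g hg with h3 | h3
      · exact key g h3
      · have h4 := key _ h3
        have h5 : g = x⁻¹ * (x * g) := by group
        rw [h5]
        exact mul_mem (inv_mem (Subgroup.mem_sup_right h.hx)) h4
  · apply le_antisymm
    · exact sup_le hKC inf_le_right
    · intro g hg
      obtain ⟨k, hk, w, hw, hgw⟩ := hdec ⟨g, hg⟩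
      have hgw' : g = k * w := hgw
      rw [hgw']
      exact mul_mem (Subgroup.mem_sup_left ⟨k, hk, rfl⟩)
        (Subgroup.mem_sup_right ⟨h.le hw, haC hw⟩)

end

end Cfsg.Agent.H3
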