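import Cfsg.Agent.H3.Quat2
import Cfsg.Agent.H3.Isometry
import Cfsg.Agent.H3.DetExt

/-!
# Brauer–Suzuki exceptional characters (helper3)
-/

set_option autoImplicit false
set_option linter.style.haveILetI false
set_option linter.unusedSimpArgs false
set_option linter.unusedSectionVars false
set_option linter.unusedVariables false
open Cfsg
open scoped ComplexConjugate commutatorElement

namespace Cfsg.Agent.H3

open Cfsg.Agent.H4

universe u v w

theorem gen_norm_two_signed {G : Type u} [Group G] [Fintype G] {τ : G → ℂ}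
    (hτ : IsGeneralizedCharacter G τ) (h2 : classInner τ τ = 2) :
    ∃ (a b : IrrCharacter G) (ε δ : ℤ), a ≠ b ∧ (ε = 1 ∨ ε = -1) ∧ (δ = 1 ∨ δ = -1) ∧
      τ = (ε : ℂ) • (a : G → ℂ) + (δ : ℂ) • (b : G → ℂ) := by
  classical
  haveI := Fintype.ofFinite (IrrCharacter G)
  obtain ⟨m, hm, hexp⟩ := gen_expand hτ
  rw [classInner_eq_sum (isGen_classFun hτ)] at h2
  simp only [hm, map_intCast] at h2
  have h3 : ∑ ψ : IrrCharacter G, m ψ * m ψ = 2 := by exact_mod_cast h2
  obtain ⟨a, ha⟩ : ∃ ψ, m ψ ≠ 0 := by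
    by_contra hcon
    push Not at hcon
    simp [hcon] at h3
  rw [← Finset.add_sum_erase _ _ (Finset.mem_univ a)] at h3
  have h4 : 0 ≤ ∑ x ∈ Finset.univ.erase a, m x * m x :=
    Finset.sum_nonneg fun x _ => mul_self_nonneg _
  have h5 : 0 < m a * m a := mul_self_pos.mpr ha
  have hsq : ∀ x : ℤ, x * x ≤ 2 → x * x ≠ 0 → x * x = 1 := by
    intro x hx hx0
    have hb1 : x ≤ 1 := by nlinarith
    have hb2 : -1 ≤ x := by nlinarith
    interval_cases x <;> simp_all
  have h6 : m a * m a = 1 := hsq _ (by omega) h5.ne'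
  have h7 : ∑ x ∈ Finset.univ.erase a, m x * m x = 1 := by omega
  obtain ⟨b, hba, hb⟩ : ∃ b ∈ Finset.univ.erase a, m b ≠ 0 := by
    by_contra hcon
    push Not at hcon
    rw [Finset.sum_eq_zero (fun x hx => by rw [hcon x hx]; simp)] at h7
    exact absurd h7 (by norm_num)
  rw [← Finset.add_sum_erase _ _ hba] at h7
  have h8 : 0 ≤ ∑ x ∈ (Finset.univ.erase a).erase b, m x * m x :=
    Finset.sum_nonneg fun x _ => mul_self_nonneg _
  have h9 : 0 < m b * m b := mul_self_pos.mpr hb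
  have h10 : m b * m b = 1 := hsq _ (by omega) h9.ne'
  have h11 : ∑ x ∈ (Finset.univ.erase a).erase b, m x * m x = 0 := by omega
  have hba' : b ≠ a := (Finset.mem_erase.mp hba).1
  have h12 : ∀ x, x ≠ a → x ≠ b → m x = 0 := fun x hx hx' => by
    have := (Finset.sum_eq_zero_iff_of_nonneg (fun x _ => mul_self_nonneg (m x))).mp h11 x
      (Finset.mem_erase.mpr ⟨hx', Finset.mem_erase.mpr ⟨hx, Finset.mem_univ x⟩⟩)
    exact mul_self_eq_zero.mp this
  have h13 : τ = (m a : ℂ) • (a : G → ℂ) + (m b : ℂ) • (b : G → ℂ) := by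
    rw [hexp, ← Finset.add_sum_erase _ _ (Finset.mem_univ a), ← Finset.add_sum_erase _ _ hba,
      Finset.sum_eq_zero, add_zero]
    intro x hx
    have hx1 := Finset.mem_erase.mp hx
    have hx2 := Finset.mem_erase.mp hx1.2
    rw [h12 x hx2.1 hx1.1]; simp
  exact ⟨a, b, m a, m b, hba'.symm, Int.isUnit_iff.mp (IsUnit.of_mul_eq_one _ h6),
    Int.isUnit_iff.mp (IsUnit.of_mul_eq_one _ h10), h13⟩

section

variable {G : Type u} [Group G] [Fintype G] {m : ℕ} {a x : G} {P : Sylow 2 G}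

/-- the linear character of order four -/
theorem exists_lambda (h : QSyl (P : Subgroup G) m a x) (hm : 3 ≤ m) :
    ∃ lam : Subgroup.centralizer ({a ^ 2} : Set G) →* ℂˣ,
      (∀ ha : a ∈ Subgroup.centralizer ({a ^ 2} : Set G), ((lam ⟨a, ha⟩ : ℂˣ) : ℂ) = Complex.I) ∧
      (∀ y : Subgroup.centralizer ({a ^ 2} : Set G), Nat.Coprime (orderOf y) 2 → lam y = 1) ∧
      (∀ y : Subgroup.centralizer ({a ^ 2} : Set G), ∃ k : Subgroup.centralizer ({a ^ 2} : Set G),
        ∃ w ∈ Subgroup.zpowers a, Nat.Coprime (orderOf k) 2 ∧ (y : G) = k * w ∧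
          orderOf w ∣ orderOf y) := by
  haveI : Fact (Nat.Prime 2) := ⟨Nat.prime_two⟩
  have hv : a ^ 2 ∈ Subgroup.zpowers a := Subgroup.pow_mem _ (Subgroup.mem_zpowers a) 2
  have hcomp := h.complement hv (qsyl_sq_ne h hm)
  have haC := zpowers_le_centralizer_sq a
  generalize Subgroup.centralizer ({a ^ 2} : Set G) = C at *
  obtain ⟨K₀, hK₀, h2, hidx, hdec⟩ := hcomp
  haveI := hK₀
  let α : C := ⟨a, haC (Subgroup.mem_zpowers a)⟩
  have hα : orderOf α = 2 ^ m := by rw [Subgroup.orderOf_mk, h.ord]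
  have hgen : ∀ y : C ⧸ K₀, y ∈ Subgroup.zpowers (QuotientGroup.mk' K₀ α) := by
    intro y
    obtain ⟨y, rfl⟩ := QuotientGroup.mk'_surjective K₀ y
    obtain ⟨k, hk, w, hw, hyw⟩ := hdec y
    obtain ⟨j, rfl⟩ := Subgroup.mem_zpowers_iff.1 hw
    have h3 : y = k * α ^ j := Subtype.ext hyw
    refine Subgroup.mem_zpowers_iff.2 ⟨j, ?_⟩
    rw [h3, map_mul, map_zpow, (QuotientGroup.eq_one_iff k).2 hk |> fun t => (show
      QuotientGroup.mk' K₀ k = 1 from t), one_mul]
  -- the order of the image of `α ^ i`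
  have hinj : ∀ z ∈ Subgroup.zpowers α, z ∈ K₀ → z = 1 := by
    intro z hz hzK
    have h3 : Nat.Coprime (orderOf z) 2 := (H2.mem_normal_complement_iff h2 hidx z).1 hzK
    have h4 : orderOf z ∣ 2 ^ m := by
      have := orderOf_dvd_natCard (⟨z, hz⟩ : Subgroup.zpowers α)
      rwa [Subgroup.orderOf_mk, Nat.card_zpowers, hα] at this
    exact orderOf_eq_one_iff.1 (Nat.eq_one_of_dvd_coprimes (Nat.Coprime.pow_right m h3) dvd_rfl h4)
  have hordq : ∀ z ∈ Subgroup.zpowers α, orderOf (QuotientGroup.mk' K₀ z) = orderOf z := by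
    intro z hz
    apply Nat.dvd_antisymm (orderOf_map_dvd _ z)
    apply orderOf_dvd_of_pow_eq_one
    apply hinj _ (Subgroup.pow_mem _ hz _)
    rw [← QuotientGroup.eq_one_iff]
    show QuotientGroup.mk' K₀ _ = 1
    rw [map_pow, pow_orderOf_eq_one]
  let iu : ℂˣ := Units.mk0 Complex.I Complex.I_ne_zero
  have hiu : orderOf iu ∣ orderOf (QuotientGroup.mk' K₀ α) := by
    rw [hordq α (Subgroup.mem_zpowers α), hα]
    have h3 : orderOf iu ∣ 4 := by
      apply orderOf_dvd_of_pow_eq_one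
      apply Units.ext
      rw [Units.val_pow_eq_pow_val]
      exact Complex.I_pow_four
    refine h3.trans ?_
    exact (by norm_num : (4 : ℕ) = 2 ^ 2) ▸ pow_dvd_pow 2 (by omega)
  let φ := monoidHomOfForallMemZpowers hgen hiu
  have hφ : φ (QuotientGroup.mk' K₀ α) = iu := monoidHomOfForallMemZpowers_apply_gen hgen hiu
  refine ⟨φ.comp (QuotientGroup.mk' K₀), ?_, ?_, ?_⟩
  · intro ha
    rw [MonoidHom.comp_apply]
    show ((φ (QuotientGroup.mk' K₀ α) : ℂˣ) : ℂ) = _
    rw [hφ]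
    rfl
  · intro y hy
    rw [MonoidHom.comp_apply]
    have h3 : y ∈ K₀ := (H2.mem_normal_complement_iff h2 hidx y).2 hy
    have h4 : QuotientGroup.mk' K₀ y = 1 := (QuotientGroup.eq_one_iff y).2 h3
    rw [h4, map_one]
  · intro y
    obtain ⟨k, hk, w, hw, hyw⟩ := hdec y
    refine ⟨k, w, hw, (H2.mem_normal_complement_iff h2 hidx k).1 hk, hyw, ?_⟩
    obtain ⟨j, rfl⟩ := Subgroup.mem_zpowers_iff.1 hw
    have h3 : y = k * α ^ j := Subtype.ext hyw
    have h4 : QuotientGroup.mk' K₀ y = QuotientGroup.mk' K₀ (α ^ j) := by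
      rw [h3, map_mul, (show QuotientGroup.mk' K₀ k = 1 from (QuotientGroup.eq_one_iff k).2 hk),
        one_mul]
    have h5 : orderOf (a ^ j) = orderOf (α ^ j) := by
      rw [← Subgroup.orderOf_coe (α ^ j)]; rfl
    rw [h5, ← hordq _ (Subgroup.zpow_mem _ (Subgroup.mem_zpowers α) j), ← h4]
    exact orderOf_map_dvd _ y

/-- elements where `λ ≠ 1` lie in `X` -/
theorem lambda_X (h : QSyl (P : Subgroup G) m a x) (hm : 3 ≤ m)
    (lam : Subgroup.centralizer ({a ^ 2} : Set G) →* ℂˣ)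
    (h1' : ∀ ha : a ∈ Subgroup.centralizer ({a ^ 2} : Set G), ((lam ⟨a, ha⟩ : ℂˣ) : ℂ) = Complex.I)
    (h2 : ∀ y : Subgroup.centralizer ({a ^ 2} : Set G), Nat.Coprime (orderOf y) 2 → lam y = 1)
    (h3 : ∀ y : Subgroup.centralizer ({a ^ 2} : Set G), ∃ k : Subgroup.centralizer ({a ^ 2} : Set G),
        ∃ w ∈ Subgroup.zpowers a, Nat.Coprime (orderOf k) 2 ∧ (y : G) = k * w ∧
          orderOf w ∣ orderOf y)
    (y : Subgroup.centralizer ({a ^ 2} : Set G)) (hy : lam y ≠ 1) :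
    2 ^ (m - 1) ∣ orderOf (y : G) := by
  have h1 := h1' (zpowers_le_centralizer_sq a (Subgroup.mem_zpowers a))
  obtain ⟨k, w, hw, hk, hyw, hd⟩ := h3 y
  rw [Subgroup.orderOf_coe]
  refine Dvd.dvd.trans ?_ hd
  obtain ⟨j, rfl⟩ := Subgroup.mem_zpowers_iff.1 hw
  set α : Subgroup.centralizer ({a ^ 2} : Set G) :=
    ⟨a, zpowers_le_centralizer_sq a (Subgroup.mem_zpowers a)⟩ with hα
  have hy' : y = k * α ^ j := Subtype.ext hyw
  have h4 : lam y = (lam α) ^ j := by
    rw [hy', map_mul, map_zpow, h2 k hk, one_mul]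
  have hj : ¬ (4 : ℤ) ∣ j := by
    rintro ⟨i, rfl⟩
    apply hy
    rw [h4, zpow_mul]
    have h5 : (lam α) ^ (4 : ℤ) = 1 := by
      apply Units.ext
      rw [Units.val_zpow_eq_zpow_val, h1]
      have : (Complex.I) ^ (4 : ℤ) = Complex.I ^ 4 := by norm_cast
      rw [this, Complex.I_pow_four]; rfl
    rw [h5, one_zpow]
  -- order of `a ^ j`
  obtain ⟨n, rfl⟩ : ∃ n, m = n + 2 := ⟨m - 2, by omega⟩
  have hdvd : orderOf (a ^ j) ∣ 2 ^ (n + 2) := by
    apply orderOf_dvd_of_pow_eq_one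
    rw [← zpow_natCast, ← zpow_mul, mul_comm, zpow_mul, zpow_natCast, ← h.ord,
      pow_orderOf_eq_one, one_zpow]
  obtain ⟨l, hl, hlo⟩ := (Nat.dvd_prime_pow Nat.prime_two).1 hdvd
  rw [hlo]
  apply pow_dvd_pow
  by_contra hlt
  have hln : l ≤ n := by omega
  apply hj
  have h5 : (a ^ j) ^ (2 ^ n) = 1 := by
    apply orderOf_dvd_iff_pow_eq_one.1
    rw [hlo]; exact pow_dvd_pow 2 hln
  rw [← zpow_natCast, ← zpow_mul, ← orderOf_dvd_iff_zpow_eq_one, h.ord] at h5
  obtain ⟨i, hi⟩ := h5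
  refine ⟨i, ?_⟩
  push_cast at hi
  have h6 : (2 : ℤ) ^ n * j = 2 ^ n * (4 * i) := by rw [mul_comm, hi]; ring
  exact mul_left_cancel₀ (by positivity) h6

/-- `x` inverts `λ` -/
theorem lambda_conj (h : QSyl (P : Subgroup G) m a x) (hm : 3 ≤ m)
    (lam : Subgroup.centralizer ({a ^ 2} : Set G) →* ℂˣ)
    (h2 : ∀ y : Subgroup.centralizer ({a ^ 2} : Set G), Nat.Coprime (orderOf y) 2 → lam y = 1)
    (h3 : ∀ y : Subgroup.centralizer ({a ^ 2} : Set G), ∃ k : Subgroup.centralizer ({a ^ 2} : Set G),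
        ∃ w ∈ Subgroup.zpowers a, Nat.Coprime (orderOf k) 2 ∧ (y : G) = k * w ∧
          orderOf w ∣ orderOf y)
    (y : G) (hy : y ∈ Subgroup.centralizer ({a ^ 2} : Set G))
    (hy' : x * y * x⁻¹ ∈ Subgroup.centralizer ({a ^ 2} : Set G)) :
    lam ⟨x * y * x⁻¹, hy'⟩ = (lam ⟨y, hy⟩)⁻¹ := by
  obtain ⟨k, w, hw, hk, hyw, -⟩ := h3 ⟨y, hy⟩
  have hyw' : y = k * w := hyw
  have hwC := zpowers_le_centralizer_sq a hw
  have hxk : x * (k : G) * x⁻¹ ∈ Subgroup.centralizer ({a ^ 2} : Set G) :=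
    conj_mem_centralizer (x_mem_normalizer h) k.2
  have e1 : (⟨y, hy⟩ : Subgroup.centralizer ({a ^ 2} : Set G)) = k * ⟨w, hwC⟩ := Subtype.ext hyw'
  have e2 : (⟨x * y * x⁻¹, hy'⟩ : Subgroup.centralizer ({a ^ 2} : Set G)) =
      ⟨x * (k : G) * x⁻¹, hxk⟩ * ⟨w, hwC⟩⁻¹ := by
    apply Subtype.ext
    show x * y * x⁻¹ = x * (k : G) * x⁻¹ * w⁻¹
    rw [← h.conj_mem hw, hyw']
    group
  have h4 : lam ⟨x * (k : G) * x⁻¹, hxk⟩ = 1 := by
    apply h2
    rw [Subgroup.orderOf_mk, orderOf_conj, Subgroup.orderOf_coe]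
    exact hk
  rw [e1, e2, map_mul, map_mul, h4, h2 k hk, one_mul, one_mul, map_inv]

open Classical in
/-- **Brauer–Suzuki characters** (S0844) -/
theorem brauer_suzuki_chars (h : QSyl (P : Subgroup G) m a x) (hm : 3 ≤ m) :
    ∃ χ₁ χ₂ : G → ℂ, IsIrrCharacter G χ₁ ∧ IsIrrCharacter G χ₂ ∧ χ₁ ≠ (fun _ => 1) ∧
      χ₂ ≠ (fun _ => 1) ∧ χ₁ 1 = χ₂ 1 + 1 ∧ ∀ g : G, ¬ 4 ∣ orderOf g → χ₁ g - χ₂ g = 1 := by
  obtain ⟨lam, h1, h2, h3⟩ := exists_lambda h hm
  have hX := lambda_X h hm lam h1 h2 h3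
  have hconj := lambda_conj h hm lam h2 h3
  have hcm := fun (y : G) (hy : y ∈ Subgroup.centralizer ({a ^ 2} : Set G)) =>
    conj_mem_centralizer (x_mem_normalizer h) hy
  have hxC := x_not_mem_centralizer h hm
  have hnf : ∀ g y : G, y ∈ Subgroup.centralizer ({a ^ 2} : Set G) → 2 ^ (m - 1) ∣ orderOf y →
      g * y * g⁻¹ ∈ Subgroup.centralizer ({a ^ 2} : Set G) →
      g ∈ Subgroup.centralizer ({a ^ 2} : Set G) ∨ x * g ∈ Subgroup.centralizer ({a ^ 2} : Set G) :=
    fun g y hy hd hgy => normalizer_cases h hm (no_fusion_X h hm hy hd hgy)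
  have haC : a ∈ Subgroup.centralizer ({a ^ 2} : Set G) :=
    zpowers_le_centralizer_sq a (Subgroup.mem_zpowers a)
  have hla := h1 haC
  have hxn := x_mem_normalizer h
  have hcm' := fun (g : G) (hg : g ∈ Subgroup.normalizer
      ((Subgroup.zpowers (a ^ 2) : Subgroup G) : Set G)) (y : G)
      (hy : y ∈ Subgroup.centralizer ({a ^ 2} : Set G)) => conj_mem_centralizer hg hy
  -- abbreviations
  generalize hCdef : Subgroup.centralizer ({a ^ 2} : Set G) = C at *
  haveI := Fintype.ofFinite C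
  let f : C → ℂ := fun y => 1 - (lam y : ℂ)
  have hfgen : IsGeneralizedCharacter C f :=
    isGen_sub (isGen_of_irr isIrr_one) (isGen_of_irr (isIrr_hf lam))
  have hfcl : IsClassFunction C f := isGen_classFun hfgen
  let g' : C → ℂ := fun y => 1 - ((lam y)⁻¹ : ℂˣ)
  have hC0 : (Nat.card C : ℂ) ≠ 0 := card_ne_zeroC
  have hfX : ∀ y : C, f y ≠ 0 → 2 ^ (m - 1) ∣ orderOf (y : G) := by
    intro y hy
    apply hX y
    intro hl
    apply hy
    show 1 - (lam y : ℂ) = 0
    rw [hl]; simp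
  -- the induced function on `X`
  have hind : ∀ y : C, f y ≠ 0 → indFun C f y = f y + g' y := by
    intro y hy
    have hd := hfX y hy
    have hF : ∀ g : G, extendByZero C f (g⁻¹ * y * g) =
        extendByZero C (fun _ => f y) g + extendByZero C (fun _ => g' y) (x * g) := by
      intro g
      by_cases hg : g ∈ C
      · have hxg : x * g ∉ C := fun hh => hxC (by
          have : x = x * g * g⁻¹ := by group
          rw [this]; exact C.mul_mem hh (C.inv_mem hg))
        have h4 : g⁻¹ * y * g ∈ C := C.mul_mem (C.mul_mem (C.inv_mem hg) y.2) hg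
        rw [extendByZero_mem C _ h4, extendByZero_mem C _ hg, extendByZero_not_mem C _ hxg, add_zero]
        have h5 := hfcl y (⟨g, hg⟩⁻¹ : C)
        rw [← h5]
        congr 1
        apply Subtype.ext
        simp
      · by_cases hxg : x * g ∈ C
        · have h4 : x * (y : G) * x⁻¹ ∈ C := hcm y y.2
          have h5 : g⁻¹ * y * g = (x * g)⁻¹ * (x * y * x⁻¹) * (x * g) := by group
          have h6 : g⁻¹ * y * g ∈ C := by
            rw [h5]
            exact C.mul_mem (C.mul_mem (C.inv_mem hxg) h4) hxg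
          rw [extendByZero_mem C _ h6, extendByZero_not_mem C _ hg, extendByZero_mem C _ hxg, zero_add]
          have h7 := hfcl ⟨x * y * x⁻¹, h4⟩ (⟨x * g, hxg⟩⁻¹ : C)
          have h8 : (⟨g⁻¹ * y * g, h6⟩ : C) = ⟨x * g, hxg⟩⁻¹ * ⟨x * y * x⁻¹, h4⟩ * (⟨x * g, hxg⟩⁻¹)⁻¹ := by
            apply Subtype.ext
            simp [h5]
          rw [h8, h7]
          show 1 - (lam _ : ℂ) = 1 - ((lam y)⁻¹ : ℂˣ)
          rw [hconj y y.2 h4]
        · rw [extendByZero_not_mem C _ hg, extendByZero_not_mem C _ hxg, add_zero]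
          apply extendByZero_not_mem
          intro hmem
          rcases hnf g⁻¹ y y.2 hd (by simpa using hmem) with h4 | h4
          · exact hg (by simpa using C.inv_mem h4)
          · -- x g⁻¹ ∈ C, then x g ∈ C
            apply hxg
            have h5 : x * (x * g⁻¹)⁻¹ * x⁻¹ ∈ C := hcm _ (C.inv_mem h4)
            have h6 : x * g = (x * (x * g⁻¹)⁻¹ * x⁻¹) * (x * x) := by group
            rw [h6]
            refine C.mul_mem h5 ?_
            rw [h.sq, ← hCdef]
            exact zpowers_le_centralizer_sq a (Subgroup.pow_mem _ (Subgroup.mem_zpowers a) _)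
    rw [indFun, Finset.sum_congr rfl fun g _ => hF g, Finset.sum_add_distrib]
    have h6 := sum_extendByZero_mul C (fun _ => f y) (fun _ => (1 : ℂ))
    have h7 := sum_extendByZero_mul C (fun _ => g' y) (fun _ => (1 : ℂ))
    simp only [mul_one] at h6 h7
    have h8 : ∑ g : G, extendByZero C (fun _ => g' y) (x * g) =
        ∑ g : G, extendByZero C (fun _ => g' y) g :=
      Fintype.sum_equiv (Equiv.mulLeft x) _ _ fun g => rfl
    rw [h8, h6, h7, Finset.sum_const, Finset.sum_const, Finset.card_univ, nsmul_eq_mul,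
      nsmul_eq_mul, ← Nat.card_eq_fintype_card]
    field_simp
  -- norms
  have hlam2 : hf lam ≠ hf lam⁻¹ := by
    intro heq
    have h4 := congrFun heq ⟨a, haC⟩
    have h5 : hf lam ⟨a, haC⟩ = Complex.I := hla
    have h6 : hf lam⁻¹ ⟨a, haC⟩ = -Complex.I := by
      show (((lam⁻¹) ⟨a, haC⟩ : ℂˣ) : ℂ) = _
      rw [MonoidHom.inv_apply, Units.val_inv_eq_inv_val, hla, Complex.inv_I]
    rw [h5, h6] at h4
    have h7 := congrArg Complex.im h4
    norm_num at h7
  have hlam1 : (fun _ : C => (1 : ℂ)) ≠ hf lam := by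
    intro heq
    have h4 := congrFun heq ⟨a, haC⟩
    have h5 : hf lam ⟨a, haC⟩ = Complex.I := hla
    rw [h5] at h4
    have h7 := congrArg Complex.im h4
    norm_num at h7
  have hlam3 : (fun _ : C => (1 : ℂ)) ≠ hf lam⁻¹ := by
    intro heq
    have h4 := congrFun heq ⟨a, haC⟩
    have h6 : hf lam⁻¹ ⟨a, haC⟩ = -Complex.I := by
      show (((lam⁻¹) ⟨a, haC⟩ : ℂˣ) : ℂ) = _
      rw [MonoidHom.inv_apply, Units.val_inv_eq_inv_val, hla, Complex.inv_I]
    rw [h6] at h4
    have h7 := congrArg Complex.im h4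
    norm_num at h7
  have hf_eq : f = (fun _ : C => (1 : ℂ)) - hf lam := rfl
  have hg_eq : g' = (fun _ : C => (1 : ℂ)) - hf lam⁻¹ := by
    ext y; rfl
  have hone : IsIrrCharacter C (fun _ : C => (1 : ℂ)) := isIrr_one
  have hl := isIrr_hf lam
  have hl' := isIrr_hf lam⁻¹
  have hnorm : classInner (indFun C f) (indFun C f) = 3 := by
    rw [frobenius_reciprocity C f (indFun_classFun C f)]
    have h4 : classInner f (fun y : C => indFun C f y) = classInner f (f + g') := by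
      unfold classInner
      congr 1
      refine Finset.sum_congr rfl fun y _ => ?_
      by_cases hy : f y = 0
      · rw [hy, zero_mul, zero_mul]
      · show f y * conj (indFun C f y) = _
        rw [hind y hy]; rfl
    rw [h4, classInner_add_right, hf_eq, hg_eq]
    simp only [classInner_sub_left, classInner_sub_right]
    rw [classInner_self_of_irr hone, classInner_self_of_irr hl, classInner_of_irr_ne hone hl hlam1,
      classInner_of_irr_ne hl hone hlam1.symm, classInner_of_irr_ne hone hl' hlam3,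
      classInner_of_irr_ne hl hl' hlam2]
    norm_num
  have hΘ1 : classInner (indFun C f) (fun _ => 1) = 1 := by
    rw [frobenius_reciprocity C f (irr_classFun isIrr_one)]
    rw [hf_eq, classInner_sub_left, classInner_self_of_irr hone,
      classInner_of_irr_ne hl hone hlam1.symm, sub_zero]
  have hgen : IsGeneralizedCharacter G (indFun C f - fun _ => 1) :=
    isGen_sub (isGen_ind C hfgen) (isGen_of_irr isIrr_one)
  have hΘ1' : classInner (fun _ => 1) (indFun C f) = 1 := by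
    rw [← classInner_conj_symm, hΘ1, map_one]
  have honeG : IsIrrCharacter G (fun _ : G => (1 : ℂ)) := isIrr_one
  have hn2 : classInner (indFun C f - fun _ => 1) (indFun C f - fun _ => 1) = 2 := by
    rw [classInner_sub_left, classInner_sub_right, classInner_sub_right, hnorm, hΘ1, hΘ1',
      classInner_self_of_irr honeG]
    norm_num
  have hn1 : classInner (indFun C f - fun _ => 1) (fun _ => 1) = 0 := by
    rw [classInner_sub_left, hΘ1, classInner_self_of_irr honeG, sub_self]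
  have hval1 : indFun C f 1 = 0 := by
    rw [indFun_one_apply]
    show _ * (1 - (lam 1 : ℂ)) = 0
    rw [map_one]; simp
  have hvan : ∀ g : G, ¬ 4 ∣ orderOf g → indFun C f g = 0 := by
    intro g hg
    rw [indFun, Finset.sum_eq_zero, mul_zero]
    intro y _
    by_cases hy : y⁻¹ * g * y ∈ C
    · rw [extendByZero_mem C _ hy]
      by_contra hne
      apply hg
      have h4 := hfX ⟨_, hy⟩ hne
      have h5 : orderOf (y⁻¹ * g * y) = orderOf g := by
        have h6 : y⁻¹ * g * y = y⁻¹ * g * y⁻¹⁻¹ := by rw [inv_inv]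
        rw [h6, orderOf_conj]
      have h6 : (2 : ℕ) ^ 2 ∣ 2 ^ (m - 1) := pow_dvd_pow 2 (by omega)
      have h7 : (2 : ℕ) ^ 2 ∣ orderOf g := by
        rw [← h5]
        exact h6.trans h4
      exact h7
    · exact extendByZero_not_mem C _ hy
  obtain ⟨p, q, ε, δ, hpq, hε, hδ, hτ⟩ := gen_norm_two_signed hgen hn2
  obtain ⟨dp, hdp0, hdp⟩ := irr_one_eq_nat p.2
  obtain ⟨dq, hdq0, hdq⟩ := irr_one_eq_nat q.2
  have hdeg : ε * dp + δ * dq = -1 := by
    have h4 := congrFun hτ 1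
    simp only [Pi.sub_apply, Pi.add_apply, Pi.smul_apply, smul_eq_mul, hval1, hdp, hdq] at h4
    have h5 : ((ε * dp + δ * dq : ℤ) : ℂ) = ((-1 : ℤ) : ℂ) := by
      push_cast; rw [← h4]; ring
    exact_mod_cast h5
  have hdp0' : (0 : ℤ) < dp := by exact_mod_cast hdp0
  have hdq0' : (0 : ℤ) < dq := by exact_mod_cast hdq0
  -- a constituent of `Θ - 1` is not principal
  have hnt : ∀ (r s : IrrCharacter G) (c : ℂ), r ≠ s → (c = 1 ∨ c = -1) →
      indFun C f - (fun _ => 1) = c • (r : G → ℂ) + (-c) • (s : G → ℂ) →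
      (r : G → ℂ) ≠ (fun _ => 1) ∧ (s : G → ℂ) ≠ (fun _ => 1) := by
    intro r s c hrs hc heq
    have hrs' : (r : G → ℂ) ≠ (s : G → ℂ) := fun hh => hrs (Subtype.ext hh)
    rw [heq, classInner_add_left, classInner_smul_left, classInner_smul_left] at hn1
    have hc0 : c ≠ 0 := by rcases hc with rfl | rfl <;> norm_num
    constructor
    · intro hr
      rw [hr] at hn1 hrs'
      rw [classInner_self_of_irr honeG, classInner_of_irr_ne s.2 honeG hrs'.symm] at hn1
      apply hc0; linear_combination hn1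
    · intro hs
      rw [hs] at hn1 hrs'
      rw [classInner_self_of_irr honeG, classInner_of_irr_ne r.2 honeG hrs'] at hn1
      apply hc0; linear_combination -hn1
  have main : ∀ (r s : IrrCharacter G), r ≠ s →
      indFun C f - (fun _ => 1) = (r : G → ℂ) - (s : G → ℂ) →
      ∃ χ₁ χ₂ : G → ℂ, IsIrrCharacter G χ₁ ∧ IsIrrCharacter G χ₂ ∧ χ₁ ≠ (fun _ => 1) ∧
      χ₂ ≠ (fun _ => 1) ∧ χ₁ 1 = χ₂ 1 + 1 ∧ ∀ g : G, ¬ 4 ∣ orderOf g → χ₁ g - χ₂ g = 1 := by
    intro r s hrs heq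
    obtain ⟨k1, k2⟩ := hnt r s 1 hrs (Or.inl rfl) (by rw [heq]; ext g; simp; ring)
    refine ⟨s, r, s.2, r.2, k2, k1, ?_, ?_⟩
    · have h4 := congrFun heq 1
      simp only [Pi.sub_apply, hval1] at h4
      linear_combination h4
    · intro g hg
      have h4 := congrFun heq g
      simp only [Pi.sub_apply, hvan g hg] at h4
      linear_combination h4
  rcases hε with rfl | rfl <;> rcases hδ with rfl | rfl
  · exfalso; omega
  · exact main p q hpq (by rw [hτ]; ext g; simp; ring)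
  · exact main q p hpq.symm (by rw [hτ]; ext g; simp; ring)
  · exfalso; omega

end

end Cfsg.Agent.H3
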