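import Cfsg.Agent.H3.IndCoh3

/-!
# Sibley's theorem: the core (helper3)
-/

set_option autoImplicit false
set_option linter.style.haveILetI false
set_option linter.unusedSimpArgs false
set_option linter.unusedSectionVars false
set_option linter.unusedVariables false
open Cfsg
open scoped ComplexConjugate commutatorElement

namespace Cfsg.Agent.H3

universe u v w

section bound

variable {L : Type u} [Group L] [Fintype L] {G : Type v} [Group G] [Fintype G]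
variable {τ : (L → ℂ) → (G → ℂ)}

/-- the bound in (5.6) without assumption on the sum -/
theorem ext_bound {S : Set (L → ℂ)} {R : (L → ℂ) → Finset (G → ℂ)} (hS : IsCoherenceSystem S τ R)
    {d n : (L → ℂ) → ℕ} (hd : ∀ φ ∈ S, φ 1 = (d φ : ℂ))
    (hn : ∀ φ ∈ S, classInner φ φ = (n φ : ℂ)) (S₁ : Finset (L → ℂ))
    (hS₁ : (↑S₁ : Set (L → ℂ)) ⊆ S) (hS₁c : ∀ φ ∈ S₁, conjFun φ ∈ S₁)
    {τ₁ : (L → ℂ) → (G → ℂ)} (h₁ : CohMap (↑S₁ : Set (L → ℂ)) τ τ₁) {χ : L → ℂ} (hχ : χ ∈ S)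
    (hχ₁ : χ ∉ S₁) (hχ₂ : conjFun χ ∉ S₁) {χ₁ : L → ℂ} (hχ₁S : χ₁ ∈ S₁) {a : ℕ}
    (ha : d χ = d χ₁ * a) {b : ℤ}
    (hb : classInner (τ (χ - (a : ℤ) • χ₁)) (τ₁ χ₁) = (b : ℂ) - a * n χ₁) :
    (b : ℝ) ^ 2 * (∑ φ ∈ S₁, (d φ : ℝ) ^ 2 / n φ) / (d χ₁ : ℝ) ^ 2 - 2 * a * b ≤ 0 ∧
      ∀ φ ∈ S₁, φ ≠ χ₁ → (d χ₁ : ℂ) * classInner (τ (χ - (a : ℤ) • χ₁)) (τ₁ φ) = d φ * b := by
  classical
  have hn0 : ∀ φ ∈ S, n φ ≠ 0 := by
    intro φ hφ h0
    obtain ⟨m, hm0, hm, -⟩ := sys_norm hS hφ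
    rw [hn φ hφ, h0] at hm
    have : m = 0 := by exact_mod_cast hm.symm
    omega
  have hd0 : ∀ φ ∈ S, d φ ≠ 0 := by
    intro φ hφ h0
    obtain ⟨m, hm, hm1⟩ := char_ne_zero_pos (hS.isCharacter φ hφ) (sys_ne_zero hS hφ)
    rw [hd φ hφ, h0] at hm1
    have : m = 0 := by exact_mod_cast hm1.symm
    omega
  have hχ₁' : χ₁ ∈ S := hS₁ hχ₁S
  have ha1 : χ 1 = a * χ₁ 1 := by
    rw [hd χ hχ, hd χ₁ hχ₁', ha]; push_cast; ring
  have hne : ∀ φ ∈ S₁, χ ≠ φ := fun φ hφ h => hχ₁ (h ▸ hφ)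
  have hne' : ∀ φ ∈ S₁, conjFun χ ≠ φ := fun φ hφ h => hχ₂ (h ▸ hφ)
  have hχS₁ : ∀ φ ∈ (↑S₁ : Set (L → ℂ)), classInner χ φ = 0 := fun φ hφ =>
    hS.orthogonal χ hχ φ (hS₁ hφ) (hne φ hφ)
  have hτS : ∀ T : Set (L → ℂ), T ⊆ S → IsLinearIsometryOn (zspanOn T ({1}ᶜ : Set L)) τ :=
    fun T hT => iso_mono hS.isometry (fun α hα => zspanOn_mono hT hα)
  have hins : Insert.insert χ (↑S₁ : Set (L → ℂ)) ⊆ S := Set.insert_subset hχ hS₁
  have hmem : χ - (a : ℤ) • χ₁ ∈ zspanOn S ({1}ᶜ : Set L) := by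
    rw [zspanOn_one]
    refine ⟨zspan_sub (zspan_mem hχ) (zspan_smul _ (zspan_mem hχ₁')), ?_⟩
    rw [Pi.sub_apply, zsmul_eq_smul, Pi.smul_apply, ha1, smul_eq_mul]; simp
  set β : G → ℂ := τ (χ - (a : ℤ) • χ₁) with hβ
  have hβgen : IsGeneralizedCharacter G β := hS.isometry.2.2.2 _ hmem
  have hβn : classInner β β = n χ + (a : ℂ) ^ 2 * n χ₁ := by
    rw [hβ, hS.isometry.2.2.1 _ hmem _ hmem]
    have h1 : classInner χ₁ χ = 0 := by
      rw [← classInner_conj_symm, hχS₁ χ₁ hχ₁S, map_zero]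
    simp only [classInner_sub_left, classInner_sub_right, classInner_zsmul_left,
      classInner_zsmul_right, hχS₁ χ₁ hχ₁S, h1, hn χ hχ, hn χ₁ hχ₁']
    push_cast; ring
  -- the projection on `R χ`
  have hcsub := sys_conj_sub_mem hS hχ
  have hβc : classInner β (τ (χ - conjFun χ)) = n χ := by
    rw [hβ, hS.isometry.2.2.1 _ hmem _ hcsub]
    have h1 : classInner χ₁ χ = 0 := by
      rw [← classInner_conj_symm, hχS₁ χ₁ hχ₁S, map_zero]
    have h2 : classInner χ₁ (conjFun χ) = 0 :=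
      hS.orthogonal χ₁ hχ₁' _ (hS.conj_mem χ hχ) (hne' χ₁ hχ₁S).symm
    simp only [classInner_sub_left, classInner_sub_right, classInner_zsmul_left,
      classInner_zsmul_right, h1, h2, hn χ hχ, sys_orth_conj hS hχ]
    ring
  obtain ⟨k, hk, hkle, hksum⟩ := sys_proj hS hχ (hn χ hχ) hβgen hβc
  have horthR : ∀ φ ∈ S₁, ∀ α ∈ R χ, classInner (τ₁ φ) α = 0 := fun φ hφ α hα =>
    coh_orth hS hS₁ h₁ hφ (hS₁c φ hφ) hχ (hne φ hφ) (hne' φ hφ) α hα
  have hinner : ∀ φ ∈ S₁, φ ≠ χ₁ → (d χ₁ : ℂ) * classInner β (τ₁ φ) = d φ * b := by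
    intro φ hφ hφne
    exact ext_inner h₁ (hτS _ hins) hχS₁ hχ₁S (fun ψ hψ hψne =>
      hS.orthogonal χ₁ hχ₁' ψ (hS₁ hψ) hψne.symm) (fun ψ hψ => hd ψ (hS₁ hψ)) ha1 (hn χ₁ hχ₁') hb
      hφ hφne
  refine ⟨?_, hinner⟩
  have hsum := ext_sum (τ₁ := τ₁) hχ₁S (fun φ hφ => hn0 φ (hS₁ hφ)) (hd0 χ₁ hχ₁') hb hinner
  -- Bessel
  let P : G → ℂ := ∑ α ∈ R χ, (classInner β α / ((1 : ℝ) : ℂ)) • α
  have hP1 : classInner (β - P) (β - P) =
      classInner β β - ((∑ α ∈ R χ, ‖classInner β α‖ ^ 2 / 1 : ℝ) : ℂ) :=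
    bessel_eq (R χ) (fun α => α) (fun _ => (1 : ℝ)) (fun _ _ => one_ne_zero)
      (fun α hα α' hα' => by rw [hS.orthonormal χ hχ α hα α' hα']; simp) β
  have hP2 : ∀ φ ∈ S₁, classInner (β - P) (τ₁ φ) = classInner β (τ₁ φ) := by
    intro φ hφ
    rw [classInner_sub_left, classInner_sum_left, Finset.sum_eq_zero, sub_zero]
    intro α hα
    rw [classInner_smul_left, ← classInner_conj_symm (τ₁ φ) α, horthR φ hφ α hα]; simp
  have hbes := bessel_le S₁ τ₁ (fun φ => (n φ : ℝ)) (fun φ hφ => by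
    exact_mod_cast hn0 φ (hS₁ hφ)) (fun φ hφ ψ hψ => by
      rw [h₁.inner (zspan_mem hφ) (zspan_mem hψ)]
      by_cases h : φ = ψ
      · subst h
        rw [if_pos rfl, hn φ (hS₁ hφ)]; simp
      · rw [if_neg h, hS.orthogonal φ (hS₁ hφ) ψ (hS₁ hψ) h]) (β - P)
  rw [Finset.sum_congr rfl (fun φ hφ => by rw [hP2 φ hφ]), hsum, hP1, hβn] at hbes
  have hksq : ∑ α ∈ R χ, ‖classInner β α‖ ^ 2 / (1 : ℝ) = ((∑ α ∈ R χ, k α ^ 2 : ℤ) : ℝ) := by
    push_cast
    refine Finset.sum_congr rfl fun α hα => ?_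
    rw [hk α hα, Complex.norm_intCast, sq_abs, div_one]
  have hre : ((n χ : ℂ) + (a : ℂ) ^ 2 * n χ₁ -
      ((∑ α ∈ R χ, ‖classInner β α‖ ^ 2 / (1 : ℝ) : ℝ) : ℂ)).re =
      n χ + (a : ℝ) ^ 2 * n χ₁ - ((∑ α ∈ R χ, k α ^ 2 : ℤ) : ℝ) := by
    rw [hksq]
    have : ((n χ : ℂ) + (a : ℂ) ^ 2 * n χ₁ - (((∑ α ∈ R χ, k α ^ 2 : ℤ) : ℝ) : ℂ)) =
        ((n χ + (a : ℝ) ^ 2 * n χ₁ - ((∑ α ∈ R χ, k α ^ 2 : ℤ) : ℝ) : ℝ) : ℂ) := by
      push_cast; ring
    rw [this, Complex.ofReal_re]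
  rw [hre] at hbes
  have hkle' : (n χ : ℝ) ≤ ((∑ α ∈ R χ, k α ^ 2 : ℤ) : ℝ) := by exact_mod_cast hkle
  linarith

end bound


section core

variable {G : Type v} [Group G] [Fintype G] {L : Subgroup G} [Fintype L] {K : Subgroup L}
  {R : (L → ℂ) → Finset (G → ℂ)}

/-- averaging over `Z` -/
theorem sum_inner_Z (hK : K.Normal) [Fintype K] [Fintype (IrrCharacter K)] {Z : Subgroup L}
    (hZ : Z.Normal) (hZK : Z ≤ K) {f : K → ℂ} (hf : IsClassFunction K f)
    {c : ℂ} (hc : ∀ z : K, (z : L) ∈ Z → z ≠ 1 → f 1 - f z = c) :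
    (Nat.card Z : ℂ) * ∑ θ ∈ Fa (K := K) (⊥ : Subgroup L) \ Fa (K := K) Z,
      classInner f (θ : K → ℂ) * dg (θ : K → ℂ) = ((Nat.card Z : ℂ) - 1) * c := by
  classical
  haveI := Fintype.ofFinite (Z.subgroupOf K)
  have hN : (Z.subgroupOf K).Normal := inferInstance
  have hcard : Nat.card (Z.subgroupOf K) = Nat.card Z :=
    Nat.card_congr (Subgroup.subgroupOfEquivOfLe hZK).toEquiv
  have h1 : ∑ z : Z.subgroupOf K, (f 1 - f z) = ((Nat.card Z : ℂ) - 1) * c := by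
    rw [← Finset.add_sum_erase _ _ (Finset.mem_univ (1 : Z.subgroupOf K))]
    rw [Finset.sum_congr rfl (g := fun _ => c), Finset.sum_const,
      Finset.card_erase_of_mem (Finset.mem_univ _), Finset.card_univ, nsmul_eq_mul,
      ← Nat.card_eq_fintype_card, Nat.cast_sub Nat.card_pos, hcard]
    · simp
    · intro z hz
      exact hc z z.2 (fun h => (Finset.mem_erase.1 hz).1 (Subtype.ext h))
  rw [← h1]
  have h2 : ∀ z : Z.subgroupOf K, f 1 - f z = ∑ θ : IrrCharacter K,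
      classInner f (θ : K → ℂ) * ((θ : K → ℂ) 1 - (θ : K → ℂ) z) := by
    intro z
    rw [classFun_expand_apply hf 1, classFun_expand_apply hf z, ← Finset.sum_sub_distrib]
    exact Finset.sum_congr rfl fun θ _ => by ring
  rw [Finset.sum_congr rfl fun z _ => h2 z, Finset.sum_comm]
  have h3 : ∀ θ : IrrCharacter K, ∑ z : Z.subgroupOf K,
      classInner f (θ : K → ℂ) * ((θ : K → ℂ) 1 - (θ : K → ℂ) z) =
      if θ ∈ Fa (K := K) (⊥ : Subgroup L) \ Fa (K := K) Z then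
        (Nat.card Z : ℂ) * (classInner f (θ : K → ℂ) * dg (θ : K → ℂ)) else 0 := by
    intro θ
    have h4 : ∑ z : Z.subgroupOf K, ((θ : K → ℂ) 1 - (θ : K → ℂ) z) =
        if θ ∈ Fa (K := K) (⊥ : Subgroup L) \ Fa (K := K) Z then
          (Nat.card Z : ℂ) * dg (θ : K → ℂ) else 0 := by
      rw [Finset.sum_sub_distrib, sum_normal_eq hN θ.2, Finset.sum_const, Finset.card_univ,
        nsmul_eq_mul, ← Nat.card_eq_fintype_card, hcard]
      by_cases h5 : ∀ n ∈ Z.subgroupOf K, (θ : K → ℂ) n = (θ : K → ℂ) 1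
      · rw [if_pos h5, if_neg, sub_self]
        intro h6
        obtain ⟨h7, h8⟩ := Finset.mem_sdiff.1 h6
        exact h8 (mem_Fa.2 ⟨(mem_Fa.1 h7).1, fun a ha => h5 a ha⟩)
      · rw [if_neg h5, if_pos, sub_zero, dg_eq (irr_isChar θ.2)]
        rw [Finset.mem_sdiff]
        refine ⟨mem_Fa.2 ⟨?_, ?_⟩, fun h6 => h5 fun n hn => (mem_Fa.1 h6).2 n hn⟩
        · intro h6
          apply h5
          intro n _
          rw [h6]
        · intro a ha
          rw [Subgroup.mem_bot] at ha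
          rw [show a = 1 from Subtype.ext ha]
    rw [← Finset.mul_sum, h4]
    split_ifs
    · ring
    · ring
  rw [Finset.sum_congr rfl fun θ _ => h3 θ, Finset.mul_sum, ← Finset.sum_filter]
  refine Finset.sum_congr ?_ fun _ _ => rfl
  ext θ
  simp

/-- Frobenius reciprocity twice -/
theorem inner_ind_ind (hK : K.Normal) [Fintype K] {θ : K → ℂ} (hθ : IsClassFunction K θ)
    {ξ : G → ℂ} (hξ : IsClassFunction G ξ) :
    classInner (fun x : L => ξ x) (indFun K θ) = classInner (fun k : K => ξ (k : L)) θ :=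
  frobenius_reciprocity' K θ (classFun_restrict L hξ)

/-- **the core of Sibley's theorem** -/
theorem core68 (hK : K.Normal) (hS : IsCoherenceSystem (inducedIrrAbove K ⊥)
      (fun α : L → ℂ => indFun L α) R) {K' Z : Subgroup L} (hK' : K'.Normal) (hK'K : K' < K)
    (hZ : Z.Normal) (hZ1 : Z ≠ ⊥) (hZK' : Z ≤ K')
    (hYirr : ∀ φ ∈ inducedIrrAbove K K', IsIrrCharacter L φ)
    (hYdeg : ∀ φ ∈ inducedIrrAbove K K', φ 1 = K.index)
    {τ₂ : (L → ℂ) → (G → ℂ)} (h₂ : CohMap (inducedIrrAbove K K') (fun α => indFun L α) τ₂)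
    (hcong : ∀ ψ ∈ inducedIrrAbove K K', ∃ b : ℤ, ∀ z : L, z ∈ Z → z ≠ 1 →
      τ₂ ψ 1 - τ₂ ψ (z : G) = b * Nat.card K) :
    ∃ τ₃, CohMap (inducedIrrAbove K K' ∪ (inducedIrrAbove K ⊥ \ inducedIrrAbove K Z))
      (fun α => indFun L α) τ₃ := by
  classical
  haveI := Fintype.ofFinite K
  haveI := Fintype.ofFinite (IrrCharacter K)
  have hZK : Z ≤ K := hZK'.trans hK'K.le
  set Y : Finset (L → ℂ) := Sa (K := K) K' with hY
  have hYc : (↑Y : Set (L → ℂ)) = inducedIrrAbove K K' := coe_Sa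
  have hYS : inducedIrrAbove K K' ⊆ inducedIrrAbove K ⊥ := above_mono bot_le
  obtain ⟨ψ, hψ⟩ := exists_above hK hK' hK'K
  have hψc := conj_above hψ
  have hψψ : conjFun ψ ≠ ψ := hS.conj_ne ψ (hYS hψ)
  have he0 : 0 < K.index := Nat.pos_of_ne_zero Subgroup.index_ne_zero_of_finite
  have hYd : ∀ φ ∈ inducedIrrAbove K K', dg φ = K.index := fun φ hφ => dg_of_eq (hYdeg φ hφ)
  have hYn : ∀ φ ∈ inducedIrrAbove K K', nm φ = 1 := fun φ hφ => nm_irr (hYirr φ hφ)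
  have hYcard : 2 ≤ Y.card := by
    have : ({ψ, conjFun ψ} : Finset (L → ℂ)) ⊆ Y := by
      intro φ hφ
      rw [Finset.mem_insert, Finset.mem_singleton] at hφ
      rcases hφ with rfl | rfl
      · exact mem_Sa.2 hψ
      · exact mem_Sa.2 hψc
    calc 2 = ({ψ, conjFun ψ} : Finset (L → ℂ)).card := (Finset.card_pair hψψ.symm).symm
      _ ≤ _ := Finset.card_le_card this
  have hτ₂n : ∀ φ ∈ inducedIrrAbove K K', ∀ φ' ∈ inducedIrrAbove K K',
      classInner (τ₂ φ) (τ₂ φ') = if φ = φ' then 1 else 0 := by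
    intro φ hφ φ' hφ'
    rw [h₂.inner (zspan_mem hφ) (zspan_mem hφ')]
    split_ifs with h
    · rw [← h, classInner_self_of_irr (hYirr φ hφ)]
    · exact hS.orthogonal φ (hYS hφ) φ' (hYS hφ') h
  -- the set `F`
  set F : Finset (IrrCharacter K) := Fa (K := K) (⊥ : Subgroup L) \ Fa (K := K) Z with hF
  have hFX : ∀ θ ∈ F, indFun K (θ : K → ℂ) ∈ inducedIrrAbove K ⊥ \ inducedIrrAbove K Z := by
    intro θ hθ
    obtain ⟨h1, h2⟩ := Finset.mem_sdiff.1 hθ
    exact ⟨(ind_mem_above_iff hK inferInstance θ.2).2 (mem_Fa.1 h1),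
      fun h => h2 (mem_Fa.2 ((ind_mem_above_iff hK hZ θ.2).1 h))⟩
  have hXF : ∀ χ ∈ inducedIrrAbove K ⊥ \ inducedIrrAbove K Z, ∃ θ ∈ F,
      χ = indFun K (θ : K → ℂ) := by
    rintro χ ⟨⟨θ, hθ, h1, h2, rfl⟩, h3⟩
    refine ⟨⟨θ, hθ⟩, Finset.mem_sdiff.2 ⟨mem_Fa.2 ⟨h1, h2⟩, fun h => h3 ?_⟩, rfl⟩
    exact (ind_mem_above_iff hK hZ hθ).2 (mem_Fa.1 h)
  have hXY : ∀ χ ∈ inducedIrrAbove K ⊥ \ inducedIrrAbove K Z, χ ∉ inducedIrrAbove K K' :=
    fun χ hχ h => hχ.2 (above_mono hZK' h)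
  have hXc : ∀ χ ∈ inducedIrrAbove K ⊥ \ inducedIrrAbove K Z,
      conjFun χ ∈ inducedIrrAbove K ⊥ \ inducedIrrAbove K Z := fun χ hχ =>
    ⟨conj_above hχ.1, fun h => hχ.2 (by rw [← conjFun_conjFun χ]; exact conj_above h)⟩
  -- the difference
  let β : IrrCharacter K → (G → ℂ) := fun θ =>
    indFun L (indFun K (θ : K → ℂ) - ((dg (θ : K → ℂ) : ℕ) : ℤ) • ψ)
  have hmemθ : ∀ θ ∈ F, indFun K (θ : K → ℂ) - ((dg (θ : K → ℂ) : ℕ) : ℤ) • ψ ∈
      zspanOn (inducedIrrAbove K ⊥) ({1}ᶜ : Set L) := by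
    intro θ hθ
    rw [zspanOn_one]
    refine ⟨zspan_sub (zspan_mem (hFX θ hθ).1) (zspan_smul _ (zspan_mem (hYS hψ))), ?_⟩
    rw [Pi.sub_apply, zsmul_eq_smul, Pi.smul_apply, hYdeg ψ hψ, indFun_one_apply,
      dg_eq (irr_isChar θ.2)]
    simp [mul_comm]
  have hβgen : ∀ θ ∈ F, IsGeneralizedCharacter G (β θ) := fun θ hθ =>
    hS.isometry.2.2.2 _ (hmemθ θ hθ)
  have hkey : ∀ θ : IrrCharacter K, ∃ b : ℤ, θ ∈ F →
      (classInner (β θ) (τ₂ ψ) = b - dg (θ : K → ℂ) ∧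
      (∀ φ ∈ inducedIrrAbove K K', φ ≠ ψ → classInner (β θ) (τ₂ φ) = b) ∧
      0 ≤ b ∧ (Y.card : ℤ) * b ≤ 2 * dg (θ : K → ℂ)) := by
    intro θ
    by_cases hθ : θ ∈ F
    · obtain ⟨m, hm⟩ := classInner_gen_int (hβgen θ hθ) (h₂.gen (zspan_mem hψ))
      refine ⟨m + dg (θ : K → ℂ), fun _ => ?_⟩
      have hχ := hFX θ hθ
      have hYc' : (↑Y : Set (L → ℂ)) ⊆ inducedIrrAbove K ⊥ := by rw [hYc]; exact hYS
      have h₂' : CohMap (↑Y : Set (L → ℂ)) (fun α : L → ℂ => indFun L α) τ₂ := by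
        rw [hYc]; exact h₂
      obtain ⟨h3, h4⟩ := ext_bound hS (d := dg) (n := nm)
        (fun φ hφ => dg_eq (hS.isCharacter φ hφ))
        (fun φ hφ => nm_eq (isGen_of_char (hS.isCharacter φ hφ))) Y hYc'
        (fun φ hφ => mem_Sa.2 (conj_above (mem_Sa.1 hφ))) h₂' hχ.1
        (fun h => hXY _ hχ (mem_Sa.1 h)) (fun h => hXY _ (hXc _ hχ) (mem_Sa.1 h))
        (mem_Sa.2 hψ) (a := dg (θ : K → ℂ)) (b := m + dg (θ : K → ℂ)) (by
          rw [dg_ind (irr_isChar θ.2), hYd ψ hψ]) (by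
          rw [hYn ψ hψ]
          show classInner (β θ) (τ₂ ψ) = _
          rw [hm]; push_cast; ring)
      set b : ℤ := m + dg (θ : K → ℂ) with hb
      have hsumY : ∑ φ ∈ Y, ((dg φ : ℝ) ^ 2 / nm φ) = Y.card * (K.index : ℝ) ^ 2 := by
        rw [Finset.sum_congr rfl (g := fun _ => (K.index : ℝ) ^ 2), Finset.sum_const,
          nsmul_eq_mul]
        intro φ hφ
        rw [hYd φ (mem_Sa.1 hφ), hYn φ (mem_Sa.1 hφ)]; simp
      have he : (K.index : ℝ) ≠ 0 := by exact_mod_cast he0.ne'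
      rw [hsumY, hYd ψ hψ] at h3
      have h5 : (b : ℝ) ^ 2 * Y.card - 2 * dg (θ : K → ℂ) * b ≤ 0 := by
        have h6 : (b : ℝ) ^ 2 * (Y.card * (K.index : ℝ) ^ 2) / (K.index : ℝ) ^ 2 =
            (b : ℝ) ^ 2 * Y.card := by field_simp
        rw [h6] at h3
        exact h3
      have h6 : b ^ 2 * Y.card - 2 * dg (θ : K → ℂ) * b ≤ 0 := by exact_mod_cast h5
      have hY0 : (2 : ℤ) ≤ Y.card := by exact_mod_cast hYcard
      have hd0 : (0 : ℤ) ≤ dg (θ : K → ℂ) := Int.natCast_nonneg _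
      refine ⟨?_, ?_, ?_, ?_⟩
      · rw [hm, hb]; push_cast; ring
      · intro φ hφ hne
        have h7 := h4 φ (mem_Sa.2 hφ) hne
        rw [hYd ψ hψ, hYd φ hφ] at h7
        exact mul_left_cancel₀ (by exact_mod_cast he0.ne') h7
      · by_contra hneg
        push Not at hneg
        nlinarith [mul_nonneg hd0 (show (0 : ℤ) ≤ -b by omega), sq_nonneg b,
          mul_pos (show (0 : ℤ) < -b by omega) (show (0 : ℤ) < -b by omega)]
      · rcases lt_trichotomy b 0 with hb0 | hb0 | hb0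
        · nlinarith
        · rw [hb0]; simp
        · have h8 : b * (Y.card * b - 2 * dg (θ : K → ℂ)) ≤ 0 := by nlinarith
          by_contra hcon
          push Not at hcon
          have : 0 < b * (Y.card * b - 2 * dg (θ : K → ℂ)) := mul_pos hb0 (by linarith)
          linarith
    · exact ⟨0, fun h => absurd h hθ⟩
  choose b hb using hkey
  -- the sum of the `b θ`
  obtain ⟨c, hc⟩ := hcong (conjFun ψ) hψc
  set ξ : G → ℂ := τ₂ (conjFun ψ) with hξ
  have hξgen : IsGeneralizedCharacter G ξ := h₂.gen (zspan_mem hψc)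
  have hξc : IsClassFunction G ξ := isGen_classFun hξgen
  obtain ⟨k, hk⟩ := classInner_gen_int (isGen_restrict L hξgen) (isGen_of_irr (hYirr ψ hψ))
  have hbn : ∀ θ ∈ F, classInner (fun x : K => ξ (x : L)) (θ : K → ℂ) =
      b θ + dg (θ : K → ℂ) * k := by
    intro θ hθ
    have h1 := (hb θ hθ).2.1 (conjFun ψ) hψc hψψ
    have h2 : classInner ξ (β θ) = b θ := by
      rw [← classInner_conj_symm, h1]; simp
    rw [← h2]
    show _ = classInner ξ (indFun L _) + _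
    rw [frobenius_reciprocity' L _ hξc, classInner_sub_right, classInner_zsmul_right, hk,
      inner_ind_ind hK (irr_classFun θ.2) hξc]
    push_cast; ring
  have hZcard : 1 < Nat.card Z := by
    haveI : Nontrivial Z := (Subgroup.nontrivial_iff_ne_bot Z).2 hZ1
    exact Finite.one_lt_card
  have hcardZ : Z.relIndex K * Nat.card Z = Nat.card K := by
    rw [mul_comm, ← Subgroup.relIndex_bot_left Z, ← Subgroup.relIndex_bot_left K]
    exact Subgroup.relIndex_mul_relIndex ⊥ Z K bot_le hZK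
  have hZrel : 0 < Z.relIndex K := Nat.pos_of_ne_zero Subgroup.index_ne_zero_of_finite
  have hsumn := sum_inner_Z hK hZ hZK (f := fun x : K => ξ (x : L))
    (classFun_restrict K (classFun_restrict L hξc)) (c := (c : ℂ) * Nat.card K) (by
      intro z hz hz1
      exact hc z hz (fun h => hz1 (Subtype.ext h)))
  have hFsq : ∑ θ ∈ F, dg (θ : K → ℂ) ^ 2 + Z.relIndex K = Nat.card K := by
    have h1 := sum_Fa (K := K) hK (A := ⊥) inferInstance bot_le
    have h2 := sum_Fa (K := K) hK hZ hZK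
    have hsub : Fa (K := K) Z ⊆ Fa (K := K) (⊥ : Subgroup L) := by
      intro θ hθ
      rw [mem_Fa] at hθ ⊢
      refine ⟨hθ.1, fun a ha => hθ.2 a ?_⟩
      rw [Subgroup.mem_bot] at ha
      rw [ha]; exact Z.one_mem
    have h3 := Finset.sum_sdiff (f := fun θ : IrrCharacter K => dg (θ : K → ℂ) ^ 2) hsub
    rw [Subgroup.relIndex_bot_left] at h1
    rw [← hF] at h3
    omega
  set T : ℤ := ∑ θ ∈ F, (dg (θ : K → ℂ) : ℤ) ^ 2 with hT
  have hTeq : T = Z.relIndex K * (Nat.card Z - 1 : ℤ) := by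
    have h1 : T + Z.relIndex K = Nat.card K := by rw [hT]; exact_mod_cast hFsq
    rw [← hcardZ] at h1
    push_cast at h1
    linarith
  have hTpos : 0 < T := by
    rw [hTeq]
    apply mul_pos (by exact_mod_cast hZrel)
    have : (1 : ℤ) < Nat.card Z := by exact_mod_cast hZcard
    linarith
  have hBsum : ∑ θ ∈ F, b θ * dg (θ : K → ℂ) = T * (c - k) := by
    have hZ0 : (Nat.card Z : ℂ) ≠ 0 := card_ne_zeroC
    have h1 : ∑ θ ∈ F, classInner (fun x : K => ξ (x : L)) (θ : K → ℂ) * dg (θ : K → ℂ) =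
        ((Nat.card Z : ℂ) - 1) * c * Z.relIndex K := by
      apply mul_left_cancel₀ hZ0
      rw [hsumn]
      have : (Nat.card K : ℂ) = Z.relIndex K * Nat.card Z := by exact_mod_cast hcardZ.symm
      rw [this]; ring
    have h2 : ∑ θ ∈ F, classInner (fun x : K => ξ (x : L)) (θ : K → ℂ) * dg (θ : K → ℂ) =
        ((∑ θ ∈ F, b θ * dg (θ : K → ℂ) + k * T : ℤ) : ℂ) := by
      rw [hT, Finset.mul_sum, ← Finset.sum_add_distrib]
      push_cast
      refine Finset.sum_congr rfl fun θ hθ => ?_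
      rw [hbn θ hθ]; ring
    rw [h2] at h1
    have h3 : ∑ θ ∈ F, b θ * dg (θ : K → ℂ) + k * T = ((Nat.card Z : ℤ) - 1) * c * Z.relIndex K := by
      exact_mod_cast h1
    rw [hTeq] at h3 ⊢
    linarith
  have hBnn : 0 ≤ ∑ θ ∈ F, b θ * dg (θ : K → ℂ) :=
    Finset.sum_nonneg fun θ hθ => mul_nonneg (hb θ hθ).2.2.1 (Int.natCast_nonneg _)
  have hBle : (Y.card : ℤ) * ∑ θ ∈ F, b θ * dg (θ : K → ℂ) ≤ 2 * T := by
    rw [hT, Finset.mul_sum, Finset.mul_sum]
    refine Finset.sum_le_sum fun θ hθ => ?_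
    have := mul_le_mul_of_nonneg_right (hb θ hθ).2.2.2 (Int.natCast_nonneg (dg (θ : K → ℂ)))
    nlinarith
  have hj0 : 0 ≤ c - k := by
    by_contra hneg
    push Not at hneg
    have : T * (c - k) < 0 := mul_neg_of_pos_of_neg hTpos hneg
    linarith
  have hj1 : (Y.card : ℤ) * (c - k) ≤ 2 := by
    rw [hBsum] at hBle
    have h1 : T * (Y.card * (c - k)) ≤ T * 2 := by linarith
    exact le_of_mul_le_mul_left h1 hTpos
  -- the pivot
  have hpiv : ∀ X : G → ℂ, IsGeneralizedCharacter G X → classInner X X = 1 →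
      (∀ φ ∈ inducedIrrAbove K K', φ ≠ ψ → classInner X (indFun L (φ - ψ)) = -1) →
      (∀ θ ∈ F, classInner X (β θ) = -(dg (θ : K → ℂ) : ℂ)) →
      ∃ τ₃, CohMap (inducedIrrAbove K K' ∪ (inducedIrrAbove K ⊥ \ inducedIrrAbove K Z))
        (fun α => indFun L α) τ₃ := by
    intro X hX hXn hXY' hXX
    have hUS : inducedIrrAbove K K' ∪ (inducedIrrAbove K ⊥ \ inducedIrrAbove K Z) ⊆
        inducedIrrAbove K ⊥ := Set.union_subset hYS Set.diff_subset
    have he1 : (K.index : ℂ) ≠ 0 := by exact_mod_cast he0.ne'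
    obtain ⟨τ₃, h₃, -⟩ := cohMap_pivot (S := inducedIrrAbove K K' ∪
      (inducedIrrAbove K ⊥ \ inducedIrrAbove K Z)) (τ := fun α : L → ℂ => indFun L α)
      (iso_mono hS.isometry (fun α hα => zspanOn_mono hUS hα)) (χ₁ := ψ) (Or.inl hψ)
      (by rw [hYdeg ψ hψ]; exact he1) (by
        rintro φ (hφ | hφ)
        · exact ⟨1, by rw [hYdeg φ hφ, hYdeg ψ hψ]; simp⟩
        · obtain ⟨θ, hθ, rfl⟩ := hXF φ hφ
          exact ⟨dg (θ : K → ℂ), by
            rw [indFun_one_apply, hYdeg ψ hψ, dg_eq (irr_isChar θ.2)]; push_cast; ring⟩)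
      hX (by rw [hXn, classInner_self_of_irr (hYirr ψ hψ)]) (by
        intro φ hφ a ha
        rw [hYdeg ψ hψ] at ha
        rcases hφ with hφ | hφ
        · have ha1 : a = 1 := by
            rw [hYdeg φ hφ] at ha
            have h1 : (1 : ℂ) * K.index = a * K.index := by rw [one_mul]; exact ha
            have h2 := mul_right_cancel₀ he1 h1
            exact_mod_cast h2.symm
          rw [ha1, one_smul]
          by_cases hφψ : φ = ψ
          · rw [hφψ, sub_self, indFun_zero]; simp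
          · rw [hXY' φ hφ hφψ, classInner_sub_right, classInner_self_of_irr (hYirr ψ hψ),
              hS.orthogonal ψ (hYS hψ) φ (hYS hφ) (fun h => hφψ h.symm)]
            ring
        · obtain ⟨θ, hθ, rfl⟩ := hXF φ hφ
          have ha1 : a = dg (θ : K → ℂ) := by
            rw [indFun_one_apply, dg_eq (irr_isChar θ.2), mul_comm] at ha
            have h2 := mul_right_cancel₀ he1 ha
            exact_mod_cast h2.symm
          rw [ha1]
          have h3 := hXX θ hθ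
          show classInner X (β θ) = _
          rw [h3, classInner_sub_right, classInner_zsmul_right,
            classInner_self_of_irr (hYirr ψ hψ), hS.orthogonal ψ (hYS hψ) _ hφ.1 (fun h => by
              apply hXY _ hφ
              rw [← h]; exact hψ)]
          push_cast; ring)
    exact ⟨τ₃, h₃⟩
  have hτψ : ∀ φ ∈ inducedIrrAbove K K', indFun L (φ - ψ) = τ₂ φ - τ₂ ψ := by
    intro φ hφ
    have h1 : φ - ψ ∈ zspanOn (inducedIrrAbove K K') ({1}ᶜ : Set L) := by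
      rw [zspanOn_one]
      exact ⟨zspan_sub (zspan_mem hφ) (zspan_mem hψ), by
        rw [Pi.sub_apply, hYdeg φ hφ, hYdeg ψ hψ, sub_self]⟩
    rw [← h₂.sub (zspan_mem hφ) (zspan_mem hψ), h₂.2 _ h1]
  have hjcase : c - k = 0 ∨ (c - k = 1 ∧ Y.card = 2) := by
    have hY0 : (2 : ℤ) ≤ Y.card := by exact_mod_cast hYcard
    rcases hj0.eq_or_lt with h | h
    · exact Or.inl h.symm
    · right
      have h1 : c - k = 1 := by nlinarith
      rw [h1] at hj1
      exact ⟨h1, by omega⟩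
  rcases hjcase with hj | ⟨hj, hY2⟩
  · -- all `b θ` are zero
    have hb0 : ∀ θ ∈ F, b θ = 0 := by
      intro θ hθ
      rw [hj, mul_zero] at hBsum
      have h1 := (Finset.sum_eq_zero_iff_of_nonneg (fun θ hθ =>
        mul_nonneg (hb θ hθ).2.2.1 (Int.natCast_nonneg (dg ((θ : IrrCharacter K) : K → ℂ))))).1
        hBsum θ hθ
      exact (mul_eq_zero.1 h1).resolve_right (by
        have := dg_pos θ.2
        omega)
    refine hpiv (τ₂ ψ) (h₂.gen (zspan_mem hψ)) (by rw [hτ₂n ψ hψ ψ hψ, if_pos rfl]) ?_ ?_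
    · intro φ hφ hφψ
      rw [hτψ φ hφ, classInner_sub_right, hτ₂n ψ hψ φ hφ, hτ₂n ψ hψ ψ hψ, if_pos rfl,
        if_neg (fun h => hφψ h.symm)]
      ring
    · intro θ hθ
      rw [← classInner_conj_symm, (hb θ hθ).1, hb0 θ hθ]; simp
  · -- all `b θ` are equal to `dg θ`, and `Y = {ψ, conj ψ}`
    have hbd : ∀ θ ∈ F, b θ = dg (θ : K → ℂ) := by
      have h1 : ∑ θ ∈ F, ((dg (θ : K → ℂ) : ℤ) - b θ) * dg (θ : K → ℂ) = 0 := by
        have h2 : ∀ θ : IrrCharacter K, ((dg (θ : K → ℂ) : ℤ) - b θ) * dg (θ : K → ℂ) =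
          (dg (θ : K → ℂ) : ℤ) ^ 2 - b θ * dg (θ : K → ℂ) := fun θ => by ring
        rw [Finset.sum_congr rfl fun θ _ => h2 θ, Finset.sum_sub_distrib, hBsum, hj, ← hT]
        ring
      have h3 : ∀ θ ∈ F, 0 ≤ ((dg (θ : K → ℂ) : ℤ) - b θ) * dg (θ : K → ℂ) := by
        intro θ hθ
        have h4 := (hb θ hθ).2.2.2
        rw [hY2] at h4
        push_cast at h4
        exact mul_nonneg (by linarith) (Int.natCast_nonneg _)
      intro θ hθ
      have h5 := (Finset.sum_eq_zero_iff_of_nonneg h3).1 h1 θ hθ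
      have h6 := (mul_eq_zero.1 h5).resolve_right (by
        have := dg_pos θ.2
        omega)
      linarith
    have hYeq : ∀ φ ∈ inducedIrrAbove K K', φ = ψ ∨ φ = conjFun ψ := by
      intro φ hφ
      by_contra hcon
      push Not at hcon
      have h1 : ({φ, ψ, conjFun ψ} : Finset (L → ℂ)) ⊆ Y := by
        intro φ' hφ'
        simp only [Finset.mem_insert, Finset.mem_singleton] at hφ'
        rcases hφ' with rfl | rfl | rfl
        · exact mem_Sa.2 hφ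
        · exact mem_Sa.2 hψ
        · exact mem_Sa.2 hψc
      have h2 := Finset.card_le_card h1
      rw [Finset.card_eq_three.2 ⟨φ, ψ, conjFun ψ, hcon.1, hcon.2, hψψ.symm, rfl⟩, hY2] at h2
      omega
    refine hpiv (-ξ) (isGen_neg hξgen) (by
      rw [classInner_neg_left, classInner_neg_right, neg_neg, hξ, hτ₂n _ hψc _ hψc,
        if_pos rfl]) ?_ ?_
    · intro φ hφ hφψ
      rcases hYeq φ hφ with h | h
      · exact absurd h hφψ
      · rw [hτψ φ hφ, h, classInner_neg_left, classInner_sub_right, hξ, hτ₂n _ hψc _ hψc,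
          hτ₂n _ hψc _ hψ, if_pos rfl, if_neg hψψ]
        ring
    · intro θ hθ
      rw [classInner_neg_left, ← classInner_conj_symm, (hb θ hθ).2.1 _ hψc hψψ, hbd θ hθ]; simp

end core

end Cfsg.Agent.H3
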