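import Cfsg.Agent.H3.Sibley1
import Cfsg.Agent.H3.Congr68
import Cfsg.Agent.H3.Frob
import Cfsg.Agent.H3.Isometry

/-!
# Sibley's theorem (helper3)
-/

set_option autoImplicit false
set_option linter.style.haveILetI false
set_option linter.unusedSimpArgs false
set_option linter.unusedSectionVars false
set_option linter.unusedVariables false
open Cfsg
open scoped ComplexConjugate commutatorElement

namespace Cfsg.Agent.H3

universe u v w

section finish

variable {L : Type u} [Group L] [Fintype L] {G : Type v} [Group G] [Fintype G]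
variable {τ : (L → ℂ) → (G → ℂ)} {K : Subgroup L} {R : (L → ℂ) → Finset (G → ℂ)}

theorem sib_finish (hK : K.Normal) (hS : IsCoherenceSystem (inducedIrrAbove K ⊥) τ R)
    {K' Z : Subgroup L} (hK' : K'.Normal) (hK'K : K' < K) (hZ : Z.Normal) (hZK' : Z ≤ K')
    (hYdeg : ∀ φ ∈ inducedIrrAbove K K', φ 1 = K.index) {τ₃ : (L → ℂ) → (G → ℂ)}
    (h₃ : CohMap (inducedIrrAbove K K' ∪ (inducedIrrAbove K ⊥ \ inducedIrrAbove K Z)) τ τ₃)
    (hbound : ∀ θ : K → ℂ, IsIrrCharacter K θ → (∀ a : K, (a : L) ∈ Z → θ a = θ 1) →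
      2 * K.index * dg θ + 1 < K'.relIndex K + Z.relIndex K * (Nat.card Z - 1)) :
    ∃ τ₄, CohMap (inducedIrrAbove K ⊥) τ τ₄ := by
  classical
  haveI := Fintype.ofFinite (IrrCharacter K)
  have hZK : Z ≤ K := hZK'.trans hK'K.le
  have hYS : inducedIrrAbove K K' ⊆ inducedIrrAbove K ⊥ := above_mono bot_le
  obtain ⟨ψ, hψ⟩ := exists_above hK hK' hK'K
  have he0 : 0 < K.index := Nat.pos_of_ne_zero Subgroup.index_ne_zero_of_finite
  set X : Finset (L → ℂ) := Sa (K := K) K' ∪ (Sa (K := K) ⊥ \ Sa (K := K) Z) with hX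
  have hXcoe : (↑X : Set (L → ℂ)) =
      inducedIrrAbove K K' ∪ (inducedIrrAbove K ⊥ \ inducedIrrAbove K Z) := by
    rw [hX, Finset.coe_union, Finset.coe_sdiff, coe_Sa, coe_Sa, coe_Sa]
  have hXS : (↑X : Set (L → ℂ)) ⊆ inducedIrrAbove K ⊥ := by
    rw [hXcoe]; exact Set.union_subset hYS Set.diff_subset
  obtain ⟨τ₄, h₄, -⟩ := coh_extend hS X (Sa (K := K) ⊥) hXS (by rw [coe_Sa]) (by
      intro φ hφ
      have h1 : φ ∈ (↑X : Set (L → ℂ)) := hφ
      show conjFun φ ∈ (↑X : Set (L → ℂ))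
      rw [hXcoe] at h1 ⊢
      rcases h1 with h1 | h1
      · exact Or.inl (conj_above h1)
      · exact Or.inr ⟨conj_above h1.1, fun h => h1.2 (by rw [← conjFun_conjFun φ]; exact conj_above h)⟩)
    (fun φ hφ => mem_Sa.2 (conj_above (mem_Sa.1 hφ))) (by rw [hXcoe]; exact h₃) (by
      intro S₁ hX1 hS1 hc hY
      obtain ⟨χ, hχY, hχ⟩ := Finset.not_subset.1 hY
      have hψX : ψ ∈ X := by
        have : ψ ∈ (↑X : Set (L → ℂ)) := by rw [hXcoe]; exact Or.inl hψ
        exact this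
      refine ⟨χ, hχY, hχ, ψ, hX1 hψX, ?_, ?_⟩
      · obtain ⟨θ, hθ, -, -, rfl⟩ := mem_Sa.1 hχY
        rw [dg_of_eq (hYdeg ψ hψ), dg_ind (irr_isChar hθ)]
        exact Dvd.intro _ rfl
      · obtain ⟨θ, hθ, hθ1, -, rfl⟩ := mem_Sa.1 hχY
        have hθZ : ∀ a : K, (a : L) ∈ Z → θ a = θ 1 := by
          have h1 : indFun K θ ∈ inducedIrrAbove K Z := by
            by_contra h2
            apply hχ
            apply hX1
            have : indFun K θ ∈ (↑X : Set (L → ℂ)) := by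
              rw [hXcoe]; exact Or.inr ⟨mem_Sa.1 hχY, h2⟩
            exact this
          exact ((ind_mem_above_iff hK hZ hθ).1 h1).2
        have h4 : ∑ φ ∈ X, ((dg φ : ℝ) ^ 2 / nm φ) ≤ ∑ φ ∈ S₁, ((dg φ : ℝ) ^ 2 / nm φ) :=
          Finset.sum_le_sum_of_subset_of_nonneg hX1 fun _ _ _ => by positivity
        refine lt_of_lt_of_le ?_ h4
        have hsub : Sa (K := K) Z ⊆ Sa (K := K) ⊥ := by
          intro φ hφ
          rw [mem_Sa] at hφ ⊢
          exact above_mono bot_le hφ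
        have hdisj : Disjoint (Sa (K := K) K') (Sa (K := K) ⊥ \ Sa (K := K) Z) := by
          rw [Finset.disjoint_left]
          intro φ hφ hφ'
          exact (Finset.mem_sdiff.1 hφ').2 (mem_Sa.2 (above_mono hZK' (mem_Sa.1 hφ)))
        have h5 := Finset.sum_sdiff (f := fun φ => ((dg φ : ℝ) ^ 2 / nm φ)) hsub
        rw [sum_Sa hK hZ hZK, sum_Sa (K := K) hK (A := ⊥) inferInstance bot_le,
          Subgroup.relIndex_bot_left] at h5
        rw [hX, Finset.sum_union hdisj, sum_Sa hK hK' hK'K.le, dg_of_eq (hYdeg ψ hψ),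
          dg_ind (irr_isChar hθ)]
        have hcardZ : Z.relIndex K * Nat.card Z = Nat.card K := by
          rw [mul_comm, ← Subgroup.relIndex_bot_left Z, ← Subgroup.relIndex_bot_left K]
          exact Subgroup.relIndex_mul_relIndex ⊥ Z K bot_le hZK
        have h6 := hbound θ hθ hθZ
        obtain ⟨m, hm⟩ : ∃ m, Nat.card Z = m + 1 := ⟨Nat.card Z - 1, by
          have : 0 < Nat.card Z := Nat.card_pos
          omega⟩
        rw [hm, Nat.add_sub_cancel] at h6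
        rw [hm] at hcardZ
        have h7 : (2 * K.index * dg θ + 1 : ℝ) < K'.relIndex K + Z.relIndex K * m := by
          exact_mod_cast h6
        have h8 : (Nat.card K : ℝ) = Z.relIndex K * (m + 1) := by exact_mod_cast hcardZ.symm
        have h9 : ∑ φ ∈ Sa (K := K) ⊥ \ Sa (K := K) Z, ((dg φ : ℝ) ^ 2 / nm φ) =
            K.index * (Z.relIndex K * m : ℝ) := by
          rw [h8] at h5
          linear_combination h5
        rw [h9]
        have h10 : (0 : ℝ) < K.index := by exact_mod_cast he0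
        push_cast
        nlinarith)
  exact ⟨τ₄, h₄.mono (by
    intro φ hφ
    exact Finset.mem_coe.2 (Finset.mem_union_right _ (mem_Sa.2 hφ)))⟩

end finish

section cong

variable {G : Type v} [Group G] [Fintype G] {L : Subgroup G} [Fintype L] {K : Subgroup L}
  {R : (L → ℂ) → Finset (G → ℂ)}

/-- coherence of `S ∖ S(Z)` implies that the images of `S(K')` are constant on `Z ∖ 1` -/
theorem cong_const (hK : K.Normal) (hS : IsCoherenceSystem (inducedIrrAbove K ⊥)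
      (fun α : L → ℂ => indFun L α) R) {K' Z : Subgroup L} (hK' : K'.Normal) (hK'K : K' < K)
    (hZ : Z.Normal) (hZ1 : Z ≠ ⊥) (hZK' : Z ≤ K')
    {τ₁ τ₂ : (L → ℂ) → (G → ℂ)}
    (h₁ : CohMap (inducedIrrAbove K ⊥ \ inducedIrrAbove K Z) (fun α => indFun L α) τ₁)
    (h₂ : CohMap (inducedIrrAbove K K') (fun α => indFun L α) τ₂) {ψ : L → ℂ}
    (hψ : ψ ∈ inducedIrrAbove K K') :
    ∃ c : ℂ, ∀ z : L, z ∈ Z → z ≠ 1 → τ₂ ψ 1 - τ₂ ψ (z : G) = c * Nat.card K := by
  classical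
  haveI := Fintype.ofFinite K
  haveI := Fintype.ofFinite (IrrCharacter K)
  have hZK : Z ≤ K := hZK'.trans hK'K.le
  have hYS : inducedIrrAbove K K' ⊆ inducedIrrAbove K ⊥ := above_mono bot_le
  have hXY : ∀ χ ∈ inducedIrrAbove K ⊥ \ inducedIrrAbove K Z, χ ∉ inducedIrrAbove K K' :=
    fun χ hχ h => hχ.2 (above_mono hZK' h)
  have hXc : ∀ χ ∈ inducedIrrAbove K ⊥ \ inducedIrrAbove K Z,
      conjFun χ ∈ inducedIrrAbove K ⊥ \ inducedIrrAbove K Z := fun χ hχ =>
    ⟨conj_above hχ.1, fun h => hχ.2 (by rw [← conjFun_conjFun χ]; exact conj_above h)⟩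
  set ξ : G → ℂ := τ₂ ψ with hξ
  have hξc : IsClassFunction G ξ := isGen_classFun (h₂.gen (zspan_mem hψ))
  -- orthogonality
  have horth : ∀ χ ∈ inducedIrrAbove K ⊥ \ inducedIrrAbove K Z, classInner ξ (τ₁ χ) = 0 := by
    intro χ hχ
    have h3 := coh_mem_span hS (Set.diff_subset (t := inducedIrrAbove K Z)) h₁ hχ (hXc χ hχ)
    have h4 : ∀ α ∈ R χ, classInner ξ α = 0 := fun α hα =>
      coh_orth hS hYS h₂ hψ (conj_above hψ) hχ.1 (fun h => hXY χ hχ (h ▸ hψ))
        (fun h => hXY _ (hXc χ hχ) (h ▸ hψ)) α hα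
    rw [h3, classInner_sum_right]
    refine Finset.sum_eq_zero fun α hα => ?_
    rw [classInner_smul_right, h4 α hα, mul_zero]
  set F : Finset (IrrCharacter K) := Fa (K := K) (⊥ : Subgroup L) \ Fa (K := K) Z with hF
  have hFX : ∀ θ ∈ F, indFun K (θ : K → ℂ) ∈ inducedIrrAbove K ⊥ \ inducedIrrAbove K Z := by
    intro θ hθ
    obtain ⟨h1, h2⟩ := Finset.mem_sdiff.1 hθ
    exact ⟨(ind_mem_above_iff hK inferInstance θ.2).2 (mem_Fa.1 h1),
      fun h => h2 (mem_Fa.2 ((ind_mem_above_iff hK hZ θ.2).1 h))⟩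
  let n : IrrCharacter K → ℂ := fun θ => classInner (fun x : K => ξ (x : L)) (θ : K → ℂ)
  have hprop : ∀ θ ∈ F, ∀ η ∈ F, (dg (η : K → ℂ) : ℂ) * n θ = dg (θ : K → ℂ) * n η := by
    intro θ hθ η hη
    have hmem : ((dg (η : K → ℂ) : ℕ) : ℤ) • indFun K (θ : K → ℂ) -
        ((dg (θ : K → ℂ) : ℕ) : ℤ) • indFun K (η : K → ℂ) ∈
        zspanOn (inducedIrrAbove K ⊥ \ inducedIrrAbove K Z) ({1}ᶜ : Set L) := by
      rw [zspanOn_one]
      refine ⟨zspan_sub (zspan_smul _ (zspan_mem (hFX θ hθ)))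
        (zspan_smul _ (zspan_mem (hFX η hη))), ?_⟩
      rw [Pi.sub_apply, zsmul_eq_smul, zsmul_eq_smul, Pi.smul_apply, Pi.smul_apply,
        indFun_one_apply, indFun_one_apply, dg_eq (irr_isChar θ.2), dg_eq (irr_isChar η.2)]
      simp; ring
    have h1 : classInner ξ (indFun L (((dg (η : K → ℂ) : ℕ) : ℤ) • indFun K (θ : K → ℂ) -
        ((dg (θ : K → ℂ) : ℕ) : ℤ) • indFun K (η : K → ℂ))) = 0 := by
      have h2 : τ₁ _ = indFun L _ := h₁.2 _ hmem
      rw [← h2, h₁.sub (zspan_smul _ (zspan_mem (hFX θ hθ))) (zspan_smul _ (zspan_mem (hFX η hη))),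
        h₁.smul _ (zspan_mem (hFX θ hθ)), h₁.smul _ (zspan_mem (hFX η hη)), classInner_sub_right,
        classInner_zsmul_right, classInner_zsmul_right, horth _ (hFX θ hθ), horth _ (hFX η hη)]
      ring
    rw [frobenius_reciprocity' L _ hξc, classInner_sub_right, classInner_zsmul_right,
      classInner_zsmul_right, inner_ind_ind hK (irr_classFun θ.2) hξc,
      inner_ind_ind hK (irr_classFun η.2) hξc] at h1
    push_cast at h1
    linear_combination h1
  obtain ⟨χ₀, hχ₀⟩ := exists_compl_above hK hZ hZK hZ1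
  have hFne : F.Nonempty := by
    obtain ⟨⟨θ, hθ, h1, h2, rfl⟩, h3⟩ := hχ₀
    exact ⟨⟨θ, hθ⟩, Finset.mem_sdiff.2 ⟨mem_Fa.2 ⟨h1, h2⟩, fun h =>
      h3 ((ind_mem_above_iff hK hZ hθ).2 (mem_Fa.1 h))⟩⟩
  obtain ⟨θ₀, hθ₀⟩ := hFne
  have hd0 : ∀ θ : IrrCharacter K, (dg (θ : K → ℂ) : ℂ) ≠ 0 := fun θ => by
    exact_mod_cast (dg_pos θ.2).ne'
  set c : ℂ := n θ₀ / dg (θ₀ : K → ℂ) with hc
  have hn : ∀ θ ∈ F, n θ = c * dg (θ : K → ℂ) := by
    intro θ hθ
    rw [hc, div_mul_eq_mul_div, eq_div_iff (hd0 θ₀)]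
    linear_combination hprop θ hθ θ₀ hθ₀
  refine ⟨c, fun z hz hz1 => ?_⟩
  have hf : IsClassFunction K (fun x : K => ξ (x : L)) :=
    classFun_restrict K (classFun_restrict L hξc)
  have h2 : ξ 1 - ξ (z : G) = ∑ θ : IrrCharacter K, n θ * ((θ : K → ℂ) 1 -
      (θ : K → ℂ) ⟨z, hZK hz⟩) := by
    have e1 := classFun_expand_apply hf 1
    have e2 := classFun_expand_apply hf ⟨z, hZK hz⟩
    have e3 : ξ 1 - ξ (z : G) = (fun x : K => ξ (x : L)) 1 -
        (fun x : K => ξ (x : L)) ⟨z, hZK hz⟩ := rfl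
    rw [e3]
    have e4 := congrArg₂ (fun a b : ℂ => a - b) e1 e2
    simp only at e4
    refine Eq.trans ?_ (e4.trans ?_)
    · rfl
    · rw [← Finset.sum_sub_distrib]
      exact Finset.sum_congr rfl fun θ _ => by ring
  rw [h2]
  have h3 : ∀ θ : IrrCharacter K, n θ * ((θ : K → ℂ) 1 - (θ : K → ℂ) ⟨z, hZK hz⟩) =
      c * ((θ : K → ℂ) 1 * (θ : K → ℂ) 1 - (θ : K → ℂ) 1 * (θ : K → ℂ) ⟨z, hZK hz⟩) := by
    intro θ
    by_cases hθ : θ ∈ F
    · rw [hn θ hθ, dg_eq (irr_isChar θ.2)]; ring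
    · have h5 : (θ : K → ℂ) ⟨z, hZK hz⟩ = (θ : K → ℂ) 1 := by
        by_cases h6 : (θ : K → ℂ) = fun _ => 1
        · rw [h6]
        · by_contra h7
          apply hθ
          refine Finset.mem_sdiff.2 ⟨mem_Fa.2 ⟨h6, fun a ha => ?_⟩, fun h8 => h7 ((mem_Fa.1 h8).2 _ hz)⟩
          rw [Subgroup.mem_bot] at ha
          rw [show a = 1 from Subtype.ext ha]
      rw [h5]; ring
  rw [Finset.sum_congr rfl fun θ _ => h3 θ, ← Finset.mul_sum, Finset.sum_sub_distrib,
    sum_degree_mul, sum_degree_mul, if_pos rfl, if_neg, sub_zero]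
  intro h
  exact hz1 (congrArg Subtype.val h)

/-- integrality of the constant -/
theorem cong_int {H : Subgroup G} (hHL : H ≤ L) (hKH : K = H.subgroupOf L)
    (hTI : IsTISubset (H : Set G)) (hN : Subgroup.normalizer (H : Set G) = L)
    (hodd : Odd (Nat.card L)) (hcop : Nat.Coprime (Nat.card H) K.index)
    {Z : Subgroup L} (hZ : Z.Normal) (hZK : Z ≤ K) (hZ1 : Z ≠ ⊥)
    (hZc : ∀ z ∈ Z, ∀ k ∈ K, z * k = k * z) {ξ : G → ℂ} (hξ : SIrr ξ) {c : ℂ}
    (hc : ∀ z : L, z ∈ Z → z ≠ 1 → ξ 1 - ξ (z : G) = c) :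
    ∃ b : ℤ, ∀ z : L, z ∈ Z → z ≠ 1 → ξ 1 - ξ (z : G) = b * Nat.card K := by
  have hKn : K.Normal := by
    rw [hKH]
    constructor
    intro n hn g
    have hg : (g : G) ∈ Subgroup.normalizer (H : Set G) := by rw [hN]; exact g.2
    exact (Subgroup.mem_set_normalizer_iff.1 hg n).1 hn
  have hcardK : Nat.card K = Nat.card H := by
    rw [hKH]; exact Nat.card_congr (Subgroup.subgroupOfEquivOfLe hHL).toEquiv
  obtain ⟨⟨z₀, hz₀⟩, hz₀1'⟩ := Subgroup.ne_bot_iff_exists_ne_one.1 hZ1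
  have hz₀1 : z₀ ≠ 1 := fun h => hz₀1' (Subtype.ext h)
  -- the irreducible character
  have key : ∀ ψ : G → ℂ, IsIrrCharacter G ψ → ∀ c' : ℂ,
      (∀ z : L, z ∈ Z → z ≠ 1 → ψ 1 - ψ (z : G) = c') → ∃ b : ℤ, c' = b * Nat.card K := by
    intro ψ hψ c' hc'
    obtain ⟨n, d, hn, hd, hdvd⟩ := congr68 (P := H) hTI (by rw [hN]; exact hodd) (by
        intro y hy hg
        obtain ⟨g, hg⟩ := hg
        rw [hN] at hy
        -- `y ^ |H| = 1`, and `|L : H|` is prime to `|H|`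
        have h1 : y ^ Nat.card H = 1 := by
          have h2 : (g * y * g⁻¹) ^ Nat.card H = 1 := by
            have := pow_card_eq_one' (x := (⟨_, hg⟩ : H))
            exact congrArg Subtype.val this
          rw [conj_pow] at h2
          have h5 : y ^ Nat.card H = g⁻¹ * (g * y ^ Nat.card H * g⁻¹) * g := by group
          rw [h5, h2]; group
        have h3 : (⟨y, hy⟩ : L) ∈ K := by
          haveI := hKn
          rw [← QuotientGroup.eq_one_iff, ← orderOf_eq_one_iff]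
          have h4 : orderOf ((⟨y, hy⟩ : L) : L ⧸ K) ∣ K.index := orderOf_dvd_natCard _
          have h5 : orderOf ((⟨y, hy⟩ : L) : L ⧸ K) ∣ Nat.card H := by
            apply orderOf_dvd_of_pow_eq_one
            rw [← QuotientGroup.mk_pow]
            have : (⟨y, hy⟩ : L) ^ Nat.card H = 1 := Subtype.ext h1
            rw [this]; rfl
          exact Nat.eq_one_of_dvd_coprimes hcop h5 h4
        rw [hKH] at h3
        exact h3) (Z := Z.map L.subtype) (by
        rintro _ ⟨z, hz, rfl⟩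
        have := hZK hz
        rw [hKH] at this
        exact this) (by
        rintro x hx _ ⟨z, hz, rfl⟩
        rw [hN] at hx
        exact ⟨⟨x, hx⟩ * z * ⟨x, hx⟩⁻¹, hZ.conj_mem z hz _, rfl⟩) (by
        rintro _ ⟨z, hz, rfl⟩ y hy
        have h6 := hZc z hz ⟨y, hHL hy⟩ (by rw [hKH]; exact hy)
        exact congrArg Subtype.val h6) hψ (z := (z₀ : G)) ⟨z₀, hz₀, rfl⟩
        (fun h => hz₀1 (Subtype.ext h)) (by
        rintro _ ⟨z, hz, rfl⟩ hz1
        have h7 := hc' z hz (fun h => hz1 (by rw [h]; rfl))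
        have h8 := hc' z₀ hz₀ hz₀1
        show ψ (z : G) = ψ (z₀ : G)
        linear_combination h8 - h7)
    obtain ⟨b, hb⟩ := hdvd
    refine ⟨b, ?_⟩
    rw [← hc' z₀ hz₀ hz₀1, hn, hd, hcardK]
    have h9 : (d : ℂ) - n = ((d - n : ℤ) : ℂ) := by push_cast; ring
    rw [h9, hb]; push_cast; ring
  rcases hξ with h | h
  · obtain ⟨b, hb⟩ := key ξ h c hc
    exact ⟨b, fun z hz hz1 => by rw [hc z hz hz1, hb]⟩
  · obtain ⟨b, hb⟩ := key (-ξ) h (-c) (fun z hz hz1 => by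
      rw [Pi.neg_apply, Pi.neg_apply]; linear_combination -hc z hz hz1)
    refine ⟨-b, fun z hz hz1 => ?_⟩
    rw [hc z hz hz1]
    push_cast
    linear_combination -hb

end cong

end Cfsg.Agent.H3
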