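import Cfsg.Agent.H3.Sibley2

/-!
# Sibley's theorem for Frobenius groups of odd order (helper3)
-/

set_option autoImplicit false
set_option linter.style.haveILetI false
set_option linter.unusedSimpArgs false
set_option linter.unusedSectionVars false
set_option linter.unusedVariables false
open Cfsg
open scoped ComplexConjugate commutatorElement

namespace Cfsg.Agent.H3

universe u v w

section frobsys

variable {G : Type v} [Group G] [Fintype G] {L : Subgroup G} [Fintype L] {H : Subgroup G}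

/-- induction from `L` is an isometry on the functions in the span of characters induced from a TI
subgroup `H`, vanishing at `1` -/
theorem ti_isometry (hHL : H ≤ L) (hTI : IsTISubset (H : Set G))
    (hN : Subgroup.normalizer (H : Set G) = L) (hKn : (H.subgroupOf L).Normal)
    {S : Set (L → ℂ)} (hSK : ∀ χ ∈ S, IsCharacter L χ ∧ ∀ x : L, (x : G) ∉ H → χ x = 0) :
    IsLinearIsometryOn (zspanOn S ({1}ᶜ : Set L)) (fun α : L → ℂ => indFun L α) ∧
      ∀ α ∈ zspanOn S ({1}ᶜ : Set L), indFun L α 1 = 0 := by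
  have hgen : ∀ α ∈ zspan S, IsGeneralizedCharacter L α ∧ ∀ x : L, (x : G) ∉ H → α x = 0 := by
    intro α hα
    refine zspan_induction (P := fun α => IsGeneralizedCharacter L α ∧
      ∀ x : L, (x : G) ∉ H → α x = 0) (fun χ hχ => ⟨isGen_of_char (hSK χ hχ).1, (hSK χ hχ).2⟩)
      ⟨isGen_zero, fun _ _ => rfl⟩ ?_ ?_ hα
    · rintro a b - - ⟨h1, h2⟩ ⟨h3, h4⟩
      exact ⟨isGen_add h1 h3, fun x hx => by rw [Pi.add_apply, h2 x hx, h4 x hx, add_zero]⟩
    · rintro n a - ⟨h1, h2⟩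
      exact ⟨isGen_zsmul n h1, fun x hx => by
        rw [zsmul_eq_smul, Pi.smul_apply, h2 x hx, smul_zero]⟩
  have hTI' : ∀ g : G, g ∉ L → ∀ t ∈ (H : Set G), g * t * g⁻¹ ∈ (H : Set G) → t = 1 := by
    intro g hg
    rw [← hN] at hg
    exact hTI g hg
  refine ⟨⟨fun α hα β hβ => indFun_add L α β, fun α hα n => ?_, fun α hα β hβ => ?_,
    fun α hα => isGen_ind L (hgen α hα.1).1⟩, fun α hα => ?_⟩
  · show indFun L (n • α) = n • indFun L α
    rw [zsmul_eq_smul, zsmul_eq_smul, indFun_smul]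
  · obtain ⟨hα1, hα0⟩ := zspanOn_one.1 hα
    obtain ⟨hβ1, hβ0⟩ := zspanOn_one.1 hβ
    exact classInner_indFun_of_TI L (H : Set G) hTI' α β (isGen_classFun (hgen β hβ1).1)
      (hgen α hα1).2 (hgen β hβ1).2 hα0
  · rw [indFun_one_apply, (zspanOn_one.1 hα).2, mul_zero]

theorem odd_conj_ne {L : Type u} [Group L] [Finite L] (hodd : Odd (Nat.card L)) {χ : L → ℂ}
    (hχ : IsIrrCharacter L χ) (h1 : χ ≠ fun _ => 1) : conjFun χ ≠ χ := by
  intro h
  exact h1 (irr_real_of_odd hodd ⟨χ, hχ⟩ (Subtype.ext h))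

/-- the coherence system of a Frobenius group of odd order with TI kernel -/
theorem frob_system (hHL : H ≤ L) (hTI : IsTISubset (H : Set G))
    (hN : Subgroup.normalizer (H : Set G) = L) (hKn : (H.subgroupOf L).Normal)
    (hodd : Odd (Nat.card L)) (hne : (inducedIrrAbove (H.subgroupOf L) ⊥).Nonempty)
    (hirr : ∀ χ ∈ inducedIrrAbove (H.subgroupOf L) ⊥, IsIrrCharacter L χ) :
    ∃ R : (L → ℂ) → Finset (G → ℂ), IsCoherenceSystem (inducedIrrAbove (H.subgroupOf L) ⊥)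
      (fun α : L → ℂ => indFun L α) R := by
  haveI := Fintype.ofFinite (H.subgroupOf L)
  obtain ⟨h1, h2⟩ := ti_isometry (S := inducedIrrAbove (H.subgroupOf L) ⊥) hHL hTI hN hKn (by
    intro χ hχ
    refine ⟨irr_isChar (hirr χ hχ), fun x hx => ?_⟩
    obtain ⟨θ, hθ, -, -, rfl⟩ := hχ
    exact indFun_not_mem_normal hKn θ hx)
  refine irr_system hne hirr (fun χ hχ => ⟨conj_above hχ, odd_conj_ne hodd (hirr χ hχ) ?_⟩) h1 h2
  intro h
  obtain ⟨θ, hθ, hθ1, -, rfl⟩ := hχ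
  -- the principal character is not induced from a nonprincipal one
  have h3 : classInner (indFun (H.subgroupOf L) θ) (fun _ => 1) = 0 := by
    rw [frobenius_reciprocity _ _ (classFun_const 1)]
    exact classInner_of_irr_ne hθ isIrr_one hθ1
  rw [h, classInner_self_of_irr isIrr_one] at h3
  exact one_ne_zero h3

end frobsys

section frob

variable {L : Type u} [Group L] [Fintype L] {K : Subgroup L}

/-- quotients of Frobenius groups -/
theorem frob_lift (hK : K.Normal) (hfpf : ∀ x : L, x ∉ K → ∀ k ∈ K, x * k = k * x → k = 1)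
    {N : Subgroup L} (hN : N.Normal) (hNK : N ≤ K) :
    ∀ k ∈ K, k ∉ N → ∀ x : L, x * k * x⁻¹ * k⁻¹ ∈ N → x ∈ K := by
  intro k hk hkN x hx
  by_contra hxK
  apply hkN
  have h1 : k⁻¹ * (x * k * x⁻¹) ∈ N := by
    have h2 : k⁻¹ * (x * k * x⁻¹) = k⁻¹ * (x * k * x⁻¹ * k⁻¹) * k⁻¹⁻¹ := by group
    rw [h2]
    exact hN.conj_mem _ hx _
  obtain ⟨y, hy, hyc⟩ := exists_commutator_eq hN (x := x)
    (fun n hn hxn => hfpf x hxK n (hNK hn) hxn) h1
  have h3 : x * (k * y⁻¹) = (k * y⁻¹) * x := by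
    have h4 : k⁻¹ * (x * k * x⁻¹) = y⁻¹ * x * y * x⁻¹ := hyc
    have h5 : x * k = k * (y⁻¹ * x * y) := by
      calc x * k = k * (k⁻¹ * (x * k * x⁻¹)) * x := by group
        _ = k * (y⁻¹ * x * y * x⁻¹) * x := by rw [h4]
        _ = _ := by group
    calc x * (k * y⁻¹) = (x * k) * y⁻¹ := by group
      _ = k * (y⁻¹ * x * y) * y⁻¹ := by rw [h5]
      _ = _ := by group
  have h4 := hfpf x hxK _ (K.mul_mem hk (K.inv_mem (hNK hy))) h3
  rw [mul_inv_eq_one.1 h4]
  exact hy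

theorem linear_degree {K' : Subgroup L} (hcomm : ∀ x ∈ K, ∀ y ∈ K, x * y * x⁻¹ * y⁻¹ ∈ K')
    {θ : K → ℂ} (hθ : IsIrrCharacter K θ) (hθH : ∀ a : K, (a : L) ∈ K' → θ a = θ 1) :
    dg θ = 1 := by
  haveI := Fintype.ofFinite K
  have h1 := deg_bound (B := K') (C := K) (D := K) le_rfl le_rfl hcomm hθ hθH
  rw [Subgroup.relIndex_self, one_pow, one_mul] at h1
  have h2 := dg_pos hθ
  nlinarith

/-- a minimal normal subgroup inside `A`, central in the nilpotent normal subgroup `K` -/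
theorem exists_min_central (hK : K.Normal) (hnil : Group.IsNilpotent K) {A : Subgroup L}
    (hA : A.Normal) (hAK : A ≤ K) (hA1 : A ≠ ⊥) : ∃ Z : Subgroup L, Z.Normal ∧ Z ≠ ⊥ ∧ Z ≤ A ∧
      (∀ z ∈ Z, ∀ k ∈ K, z * k = k * z) ∧
      ∀ N : Subgroup L, N.Normal → N ≠ ⊥ → N ≤ Z → N = Z := by
  obtain ⟨Z, hZ⟩ := Set.Finite.exists_minimal (s := {Z : Subgroup L | Z.Normal ∧ Z ≠ ⊥ ∧ Z ≤ A})
    (Set.toFinite _) ⟨A, hA, hA1, le_rfl⟩
  obtain ⟨⟨hZn, hZ1, hZA⟩, hmin⟩ := hZ
  haveI := hZn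
  haveI := hK
  have hmin' : ∀ N : Subgroup L, N.Normal → N ≠ ⊥ → N ≤ Z → N = Z := fun N hN hN1 hNZ =>
    le_antisymm hNZ (hmin ⟨hN, hN1, hNZ.trans hZA⟩ hNZ)
  refine ⟨Z, hZn, hZ1, hZA, ?_, hmin'⟩
  have h1 : ⁅Z, K⁆ = ⊥ := by
    by_contra hne
    have h2 := hmin' ⁅Z, K⁆ inferInstance hne (Subgroup.commutator_le_left Z K)
    obtain ⟨n, hn⟩ := (Subgroup.isNilpotent_iff_lowerCentralSeries K).1 hnil
    exact hZ1 (le_bot_iff.1 (nil_step' (M := ⊥) ⟨n, hn.le⟩ (hZA.trans hAK) le_rfl inferInstance hK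
      (by rw [h2]; exact le_sup_left)))
  intro z hz k hk
  have h2 : ⁅z, k⁆ ∈ (⊥ : Subgroup L) := by
    rw [← h1]; exact Subgroup.commutator_mem_commutator hz hk
  rw [Subgroup.mem_bot, commutatorElement_eq_one_iff_mul_comm] at h2
  exact h2

end frob

section sibley

variable {G : Type v} [Group G] [Fintype G] {L : Subgroup G} [Fintype L] {H : Subgroup G}

/-- **Sibley's theorem** (Frobenius case) -/
theorem sibley_frob (hodd : Odd (Nat.card L)) (hHL : H ≤ L) (hH1 : H ≠ ⊥) (hHL' : H ≠ L)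
    (hnil : Group.IsNilpotent H) (hKn : (H.subgroupOf L).Normal)
    (hfpf : ∀ x : L, x ∉ H.subgroupOf L → ∀ k ∈ H.subgroupOf L, x * k = k * x → k = 1)
    (hTI : IsTISubset (H : Set G)) (hN : Subgroup.normalizer (H : Set G) = L) :
    ∃ τ₁, CohMap (inducedIrrAbove (H.subgroupOf L) ⊥) (fun α : L → ℂ => indFun L α) τ₁ := by
  set K : Subgroup L := H.subgroupOf L with hKdef
  have hcardK : Nat.card K = Nat.card H :=
    Nat.card_congr (Subgroup.subgroupOfEquivOfLe hHL).toEquiv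
  have hnilK : Group.IsNilpotent K :=
    (Group.isNilpotent_congr (Subgroup.subgroupOfEquivOfLe hHL)).2 hnil
  haveI := hnilK
  haveI := hKn
  have hK1 : K ≠ ⊥ := by
    intro h
    apply hH1
    rw [hKdef, Subgroup.subgroupOf_eq_bot] at h
    rw [eq_bot_iff]
    intro x hx
    exact (Subgroup.disjoint_def.1 h) hx (hHL hx)
  have hKtop : K < ⊤ := by
    rw [lt_top_iff_ne_top, hKdef, Ne, Subgroup.subgroupOf_eq_top]
    intro h
    exact hHL' (le_antisymm hHL h)
  have hsolv : Group.IsSolvable K := inferInstance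
  have hodK : Odd (Nat.card K) := by
    rw [← K.card_mul_index] at hodd
    exact (Nat.odd_mul.1 hodd).1
  have hode : Odd K.index := by
    rw [← K.card_mul_index] at hodd
    exact (Nat.odd_mul.1 hodd).2
  have hirr : ∀ χ ∈ inducedIrrAbove K ⊥, IsIrrCharacter L χ := by
    rintro _ ⟨θ, hθ, hθ1, -, rfl⟩
    exact isIrr_ind_of_fpf hKn hfpf hθ hθ1
  obtain ⟨R, hS⟩ := frob_system hHL hTI hN hKn hodd
    (exists_above hKn inferInstance (bot_lt_iff_ne_bot.2 hK1)) hirr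
  -- the derived subgroup
  set K' : Subgroup L := ⁅K, K⁆ with hK'def
  have hK'n : K'.Normal := inferInstance
  have hK'K : K' < K := by
    refine lt_of_le_of_ne (Subgroup.commutator_le_left K K) ?_
    intro h
    obtain ⟨n, hn⟩ := (Subgroup.isNilpotent_iff_lowerCentralSeries K).1 hnilK
    exact hK1 (le_bot_iff.1 (nil_step' (M := ⊥) (A := K) ⟨n, hn.le⟩ le_rfl le_rfl inferInstance hKn
      (by rw [← hK'def, h]; exact le_sup_left)))
  have hYdeg : ∀ φ ∈ inducedIrrAbove K K', φ 1 = K.index := by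
    rintro _ ⟨θ, hθ, -, hθH, rfl⟩
    rw [indFun_one_apply, dg_eq (irr_isChar hθ), linear_degree (K' := K') (fun x hx y hy => by
      have := Subgroup.commutator_mem_commutator (H₁ := K) (H₂ := K) hx hy
      rwa [commutatorElement_def] at this) hθ hθH]
    simp
  have hYS : inducedIrrAbove K K' ⊆ inducedIrrAbove K ⊥ := above_mono bot_le
  have hS' := sys_mono hS hYS (exists_above hKn hK'n hK'K) (fun φ hφ => conj_above hφ)
  obtain ⟨τ₂, h₂⟩ := pf57 hS' (fun φ hφ ψ hψ => by rw [hYdeg φ hφ, hYdeg ψ hψ])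
  by_cases hab : K' = ⊥
  · rw [hab] at h₂; exact ⟨τ₂, h₂⟩
  obtain ⟨Z, hZn, hZ1, hZK', hZc, -⟩ := exists_min_central hKn hnilK hK'n hK'K.le hab
  have hZK : Z ≤ K := hZK'.trans hK'K.le
  have hfrob : ∀ {N : Subgroup L}, N.Normal → N ≤ K → ∀ k ∈ K, k ∉ N → ∀ x : L,
      x * k * x⁻¹ * k⁻¹ ∈ N → x ∈ K := fun hN hNK => frob_lift hKn hfpf hN hNK
  obtain ⟨τ₁, h₁⟩ := pf67 hKn hsolv hS hodd hnilK hK'K hKtop (hfrob hK'n hK'K.le) hZn hZ1 hZK
    hZc (fun χ hχ => hirr χ hχ.1)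
  have hZfrob : K.index ∣ Nat.card Z - 1 := by
    have h1 := frob_dvd (K := K) (H₁ := ⊥) (N := Z) inferInstance hZn bot_le hZK
      (hfrob inferInstance bot_le)
    rwa [Subgroup.relIndex_bot_left] at h1
  have hKfrob : K.index ∣ Nat.card K - 1 := by
    have h1 := frob_dvd (K := K) (H₁ := ⊥) (N := K) inferInstance hKn bot_le le_rfl
      (hfrob inferInstance bot_le)
    rwa [Subgroup.relIndex_bot_left] at h1
  have hcop : Nat.Coprime (Nat.card H) K.index := by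
    rw [← hcardK]
    have h1 : Nat.Coprime (Nat.card K) (Nat.card K - 1) := by
      have h2 : 0 < Nat.card K := Nat.card_pos
      have h3 : Nat.card K = (Nat.card K - 1) + 1 := by omega
      rw [h3, Nat.add_sub_cancel, Nat.coprime_comm]
      exact (Nat.coprime_self_add_right).2 (Nat.coprime_one_right _)
    exact Nat.Coprime.coprime_dvd_right hKfrob h1
  have hZcard : 1 < Nat.card Z := by
    haveI : Nontrivial Z := (Subgroup.nontrivial_iff_ne_bot Z).2 hZ1
    exact Finite.one_lt_card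
  have hZodd : Odd (Nat.card Z) := by
    obtain ⟨m, hm⟩ := Subgroup.card_dvd_of_le hZK
    rw [hm] at hodK
    exact (Nat.odd_mul.1 hodK).1
  have hZ2 : 2 * K.index ≤ Nat.card Z - 1 := by
    have h4 : 2 ∣ Nat.card Z - 1 := by
      obtain ⟨k, hk⟩ := hZodd
      exact ⟨k, by omega⟩
    exact Nat.le_of_dvd (by omega) (Nat.Coprime.mul_dvd_of_dvd_of_dvd
      (Nat.coprime_two_left.2 hode) h4 hZfrob)
  have htwo : ∃ χ ∈ inducedIrrAbove K K', ∃ ψ ∈ inducedIrrAbove K K', χ ≠ ψ := by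
    obtain ⟨χ, hχ⟩ := hS'.nonempty
    exact ⟨χ, hχ, _, conj_above hχ, (hS'.conj_ne χ hχ).symm⟩
  obtain ⟨τ₃, h₃⟩ := core68 hKn hS hK'n hK'K hZn hZ1 hZK' (fun φ hφ => hirr φ (hYS hφ)) hYdeg h₂
    (by
      intro ψ hψ
      obtain ⟨c, hc⟩ := cong_const hKn hS hK'n hK'K hZn hZ1 hZK' h₁ h₂ hψ
      refine cong_int hHL rfl hTI hN hodd hcop hZn hZK hZ1 hZc ?_ hc
      exact sIrr_of_norm (h₂.gen (zspan_mem hψ)) (by
        rw [h₂.inner (zspan_mem hψ) (zspan_mem hψ), classInner_self_of_irr (hirr ψ (hYS hψ))]))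
  refine sib_finish hKn hS hK'n hK'K hZn hZK' hYdeg h₃ ?_
  intro θ hθ hθZ
  have h1 : dg θ ^ 2 ≤ Z.relIndex K := by
    have h2 := deg_bound (B := ⊥) (C := K) (D := Z) hZK le_rfl (by
      intro x hx y hy
      rw [Subgroup.mem_bot, hZc x hx y hy]; group) hθ (by
      intro a ha
      rw [Subgroup.mem_bot] at ha
      rw [show a = 1 from Subtype.ext ha])
    rwa [Subgroup.relIndex_self, one_pow, one_mul] at h2
  have h2 : dg θ ≤ Z.relIndex K := le_trans (Nat.le_self_pow two_ne_zero _) h1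
  have h3 : 1 < K'.relIndex K := by
    have h3 : K'.relIndex K ≠ 1 := by
      rw [Ne, Subgroup.relIndex_eq_one]
      exact not_le_of_gt hK'K
    have h4 : K'.relIndex K ≠ 0 := Subgroup.index_ne_zero_of_finite
    omega
  have h4 : 2 * K.index * dg θ ≤ Z.relIndex K * (Nat.card Z - 1) := by
    rw [mul_comm (Z.relIndex K)]
    exact Nat.mul_le_mul hZ2 h2
  omega

end sibley

end Cfsg.Agent.H3
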