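import Cfsg.Agent.H3.Sibley3
import Cfsg.Agent.H3.PTI3
import Cfsg.Agent.H3.Power
import Cfsg.Agent.H3.TI

/-!
# Coherence for the prime TI case (PF (6.8)(c2)) (helper3)
-/

set_option autoImplicit false
set_option linter.style.haveILetI false
set_option linter.unusedSimpArgs false
set_option linter.unusedSectionVars false
set_option linter.unusedVariables false
open Cfsg
open scoped ComplexConjugate commutatorElement

namespace Cfsg.Agent.H3

universe u v w

section coh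

variable {L : Type u} [Group L] [Fintype L] {G : Type v} [Group G] [Fintype G]

/-- a difference of two distinct irreducible characters determines them -/
theorem irr_sub_eq {a b c d : G → ℂ} (ha : IsIrrCharacter G a) (hb : IsIrrCharacter G b)
    (hc : IsIrrCharacter G c) (hd : IsIrrCharacter G d) (hab : a ≠ b) (h : a - b = c - d) :
    a = c := by
  by_contra hac
  have h1 : classInner (a - b) a = 1 := by
    rw [classInner_sub_left, classInner_self_of_irr ha, classInner_of_irr_ne hb ha hab.symm, sub_zero]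
  rw [h, classInner_sub_left, classInner_of_irr_ne hc ha (fun h => hac h.symm)] at h1
  by_cases hda : d = a
  · rw [hda, classInner_self_of_irr ha] at h1
    norm_num at h1
  · rw [classInner_of_irr_ne hd ha hda] at h1
    norm_num at h1

end coh

section galois

variable {G : Type v} [Group G] [Fintype G] {L : Subgroup G} [Fintype L]

/-- coherent isometries on sets of irreducible characters of equal degrees commute with power maps -/
theorem pw_coh {k : ℕ} (hkG : k.Coprime (Nat.card G)) {Y : Set (L → ℂ)}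
    (hirr : ∀ ψ ∈ Y, IsIrrCharacter L ψ) (hdeg : ∀ ψ ∈ Y, ∀ φ ∈ Y, ψ 1 = φ 1)
    (htwo : ∃ χ ∈ Y, ∃ ψ ∈ Y, χ ≠ ψ) (hpw : ∀ ψ ∈ Y, pw k ψ ∈ Y)
    {τ₂ : (L → ℂ) → (G → ℂ)} (h₂ : CohMap Y (fun α => indFun L α) τ₂) {ψ : L → ℂ} (hψ : ψ ∈ Y) :
    pw k (τ₂ ψ) = τ₂ (pw k ψ) := by
  have hz : ∀ α ∈ zspan Y, α 1 = 0 → τ₂ α 1 = 0 := by
    intro α hα h0
    rw [h₂.2 α (zspanOn_one.2 ⟨hα, h0⟩)]
    show indFun L α 1 = 0
    rw [indFun_one_apply, h0, mul_zero]
  obtain ⟨ε, hε, hε2, hinj⟩ := coh_sign hirr htwo h₂.1 hz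
  have hεne : ε ≠ 0 := by rcases hε with rfl | rfl <;> simp
  obtain ⟨φ, hφ, hφψ⟩ := exists_ne_mem htwo ψ
  have hpw' : ∀ φ ∈ Y, IsIrrCharacter G (pw k (ε • τ₂ φ)) := fun φ hφ => pw_irr hkG (hε2 φ hφ)
  have hsub : ∀ a ∈ Y, ∀ b ∈ Y, τ₂ a - τ₂ b = indFun L (a - b) := by
    intro a ha b hb
    rw [← h₂.sub (zspan_mem ha) (zspan_mem hb)]
    exact h₂.2 _ (zspanOn_one.2 ⟨zspan_sub (zspan_mem ha) (zspan_mem hb), by
      rw [Pi.sub_apply, hdeg a ha b hb, sub_self]⟩)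
  have h1 : pw k (ε • τ₂ ψ) - pw k (ε • τ₂ φ) = ε • τ₂ (pw k ψ) - ε • τ₂ (pw k φ) := by
    rw [← pw_sub, ← smul_sub, ← smul_sub, hsub ψ hψ φ hφ, hsub _ (hpw ψ hψ) _ (hpw φ hφ),
      pw_smul, ← pw_sub, pw_ind hkG L (ψ - φ)]
  have h2 := irr_sub_eq (hpw' ψ hψ) (hpw' φ hφ) (hε2 _ (hpw ψ hψ)) (hε2 _ (hpw φ hφ)) (by
    intro h3
    apply hφψ
    apply hinj φ hφ ψ hψ
    have h4 : ∀ g, (ε • τ₂ ψ) g = (ε • τ₂ φ) g := by
      intro g
      obtain ⟨g', rfl⟩ := (pow_bij hkG).2 g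
      exact congrFun h3 g'
    ext g
    have h5 := h4 g
    rw [Pi.smul_apply, Pi.smul_apply, smul_eq_mul, smul_eq_mul] at h5
    exact (mul_left_cancel₀ hεne h5).symm) h1
  rw [pw_smul] at h2
  ext g
  have h3 := congrFun h2 g
  rw [Pi.smul_apply, Pi.smul_apply, smul_eq_mul, smul_eq_mul] at h3
  exact mul_left_cancel₀ hεne h3

end galois

section frobdvd

variable {L : Type u} [Group L] [Finite L] {K W₁ W₂ : Subgroup L}

/-- a normal subgroup without `W₁`-fixed points -/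
theorem PTI.dvd_card_sub_one (h : PTI K W₁ W₂) {Z : Subgroup L} (hZ : Z.Normal) (hZK : Z ≤ K)
    (hZW : Z ⊓ W₂ = ⊥) (hZc : ∀ z ∈ Z, ∀ k ∈ K, z * k = k * z) :
    K.index ∣ Nat.card Z - 1 := by
  classical
  let X := {q : Z // q ≠ 1}
  letI : MulAction L X := {
    smul g k := ⟨⟨g * k.1 * g⁻¹, hZ.conj_mem _ k.1.2 g⟩, by
      intro h
      apply k.2
      have h1 : g * (k.1 : L) * g⁻¹ = 1 := congrArg Subtype.val h
      ext
      have h2 : (k.1 : L) = g⁻¹ * (g * (k.1 : L) * g⁻¹) * g := by group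
      rw [h2, h1]; simp⟩
    one_smul k := by
      apply Subtype.ext; apply Subtype.ext
      change 1 * (k.1 : L) * 1⁻¹ = _
      simp
    mul_smul a b k := by
      apply Subtype.ext; apply Subtype.ext
      change (a * b) * (k.1 : L) * (a * b)⁻¹ = a * (b * (k.1 : L) * b⁻¹) * a⁻¹
      group }
  have h2 : Nat.card X = Nat.card Z - 1 := by
    haveI := Fintype.ofFinite Z
    rw [Nat.card_eq_fintype_card, Nat.card_eq_fintype_card]
    exact Set.card_ne_eq (1 : Z)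
  rw [← h2]
  apply index_dvd_card_of_stabilizer_le
  rintro ⟨⟨q, hq⟩, hq1⟩ g hg
  have h3 : g * q * g⁻¹ = q :=
    congrArg (fun x : X => ((x.1 : Z) : L)) (MulAction.mem_stabilizer_iff.mp hg)
  obtain ⟨k, hk, y, hy, rfl⟩ := h.exists_mul g
  by_cases hy1 : y = 1
  · rw [hy1, mul_one]; exact hk
  · exfalso
    apply hq1
    apply Subtype.ext
    have h4 : k * (y * q * y⁻¹) * k⁻¹ = q := by
      calc k * (y * q * y⁻¹) * k⁻¹ = k * y * q * (k * y)⁻¹ := by group
        _ = q := h3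
    have h5 : y * q * y⁻¹ ∈ Z := hZ.conj_mem q hq y
    have h6 : k * (y * q * y⁻¹) * k⁻¹ = y * q * y⁻¹ := by
      rw [← hZc _ h5 k hk]; group
    rw [h6] at h4
    exact h.fpf_sub hZK hZW hy hy1 q hq (mul_inv_eq_iff_eq_mul.1 h4)

end frobdvd

section main

variable {G : Type v} [Group G] [Fintype G] {L : Subgroup G} [Fintype L] {H : Subgroup G}

/-- constancy on a central subgroup of prime order, by the Galois action -/
theorem const_galois (hHL : H ≤ L) (hTI : IsTISubset (H : Set G))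
    (hN : Subgroup.normalizer (H : Set G) = L) (hKn : (H.subgroupOf L).Normal)
    {K' Z : Subgroup L} (hK'K : K' < H.subgroupOf L) (hZK' : Z ≤ K')
    (hp : (Nat.card Z).Prime)
    (hirr : ∀ ψ ∈ inducedIrrAbove (H.subgroupOf L) K', IsIrrCharacter L ψ)
    (hYdeg : ∀ φ ∈ inducedIrrAbove (H.subgroupOf L) K', φ 1 = (H.subgroupOf L).index)
    (hK'n : K'.Normal)
    (htwo : ∃ χ ∈ inducedIrrAbove (H.subgroupOf L) K',
      ∃ ψ ∈ inducedIrrAbove (H.subgroupOf L) K', χ ≠ ψ)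
    {τ₂ : (L → ℂ) → (G → ℂ)}
    (h₂ : CohMap (inducedIrrAbove (H.subgroupOf L) K') (fun α => indFun L α) τ₂)
    {ψ : L → ℂ} (hψ : ψ ∈ inducedIrrAbove (H.subgroupOf L) K') :
    ∃ c : ℂ, ∀ z : L, z ∈ Z → z ≠ 1 → τ₂ ψ 1 - τ₂ ψ (z : G) = c := by
  classical
  set K : Subgroup L := H.subgroupOf L with hK
  haveI : Fact (Nat.card Z).Prime := ⟨hp⟩
  haveI : Nontrivial Z := Finite.one_lt_card_iff_nontrivial.1 hp.one_lt
  obtain ⟨z₀, hz₀⟩ := exists_ne (1 : Z)
  refine ⟨τ₂ ψ 1 - τ₂ ψ ((z₀ : L) : G), fun z hz hz1 => ?_⟩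
  -- `z = z₀ ^ j`
  have hmem : (⟨z, hz⟩ : Z) ∈ Subgroup.zpowers z₀ := mem_zpowers_of_prime_card rfl hz₀
  rw [mem_zpowers_iff_mem_range_orderOf, Finset.mem_image] at hmem
  obtain ⟨j, -, hj⟩ := hmem
  have hj' : (z₀ : L) ^ j = z := congrArg Subtype.val hj
  have hord : orderOf z₀ = Nat.card Z := orderOf_eq_prime (pow_card_eq_one') hz₀
  have hpj : ¬ Nat.card Z ∣ j := by
    intro h
    apply hz1
    rw [← hj']
    have h1 : z₀ ^ j = 1 := by rw [← orderOf_dvd_iff_pow_eq_one, hord]; exact h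
    exact congrArg Subtype.val h1
  obtain ⟨k, hk1, hk2⟩ := exists_power (n := Nat.card G) hp hpj Nat.card_pos.ne'
  have hzk : (z₀ : L) ^ k = z := by
    rw [← hj']
    have h1 : z₀ ^ k = z₀ ^ j := by
      rw [pow_eq_pow_iff_modEq, hord]; exact hk2
    exact congrArg Subtype.val h1
  have hkL : k.Coprime (Nat.card L) := Nat.Coprime.coprime_dvd_right L.card_subgroup_dvd_card hk1
  have hkK : k.Coprime (Nat.card K) := Nat.Coprime.coprime_dvd_right K.card_subgroup_dvd_card hkL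
  -- closure under the power map
  have hpw : ∀ φ ∈ inducedIrrAbove K K', pw k φ ∈ inducedIrrAbove K K' := by
    rintro _ ⟨θ, hθ, hθ1, hθK, rfl⟩
    refine ⟨pw k θ, pw_irr hkK hθ, ?_, ?_, (pw_ind hkL K θ).symm⟩
    · intro h
      apply hθ1
      ext x
      obtain ⟨y, rfl⟩ := (pow_bij hkK).2 x
      exact congrFun h y
    · intro a ha
      rw [pw_apply, pw_one]
      exact hθK _ (K'.pow_mem ha k)
  have h1 := pw_coh hk1 hirr (fun a ha b hb => by rw [hYdeg a ha, hYdeg b hb]) htwo hpw h₂ hψ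
  have h2 : τ₂ ψ (z : G) = τ₂ (pw k ψ) ((z₀ : L) : G) := by
    rw [← h1, pw_apply]
    congr 1
    rw [← hzk]; rfl
  -- values at `z₀`
  have hconst : ∀ φ ∈ inducedIrrAbove K K', φ (z₀ : L) = K.index := by
    intro φ hφ
    rw [← hYdeg φ hφ]
    obtain ⟨θ, hθ, hθ1, hθK, rfl⟩ := hφ
    have hzK' : (z₀ : L) ∈ K' := hZK' z₀.2
    rw [indFun, indFun]
    congr 1
    refine Finset.sum_congr rfl fun x _ => ?_
    have h3 : x⁻¹ * (z₀ : L) * x ∈ K' := by
      have := hK'n.conj_mem _ hzK' x⁻¹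
      rwa [inv_inv] at this
    have h4 : x⁻¹ * 1 * x = 1 := by group
    rw [extendByZero_mem K _ (hK'K.le h3), h4, extendByZero_mem K _ K.one_mem, hθK _ h3]
    rfl
  have h3 : τ₂ (pw k ψ) ((z₀ : L) : G) - τ₂ ψ ((z₀ : L) : G) = 0 := by
    have h4 : τ₂ (pw k ψ) - τ₂ ψ = indFun L (pw k ψ - ψ) := by
      rw [← h₂.sub (zspan_mem (hpw ψ hψ)) (zspan_mem hψ)]
      exact h₂.2 _ (zspanOn_one.2 ⟨zspan_sub (zspan_mem (hpw ψ hψ)) (zspan_mem hψ), by
        rw [Pi.sub_apply, hYdeg _ (hpw ψ hψ), hYdeg ψ hψ, sub_self]⟩)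
    have h5 : τ₂ (pw k ψ) ((z₀ : L) : G) - τ₂ ψ ((z₀ : L) : G) =
        indFun L (pw k ψ - ψ) ((z₀ : L) : G) := congrFun h4 _
    have hz₀K : (z₀ : L) ∈ K := hK'K.le (hZK' z₀.2)
    rw [h5, indFun_eq_of_TI L (H : Set G) (by
        intro g hg
        rw [← hN] at hg
        exact hTI g hg) (pw k ψ - ψ) (by
        intro a b
        have e1 := irr_classFun (hirr _ (hpw ψ hψ)) a b
        have e2 := irr_classFun (hirr _ hψ) a b
        rw [Pi.sub_apply, Pi.sub_apply, e1, e2]) (by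
        intro x hx
        have hsupp : ∀ φ ∈ inducedIrrAbove K K', φ x = 0 := by
          rintro _ ⟨θ, hθ, hθ1, hθK, rfl⟩
          exact indFun_not_mem_normal hKn θ hx
        rw [Pi.sub_apply, hsupp _ (hpw ψ hψ), hsupp _ hψ, sub_zero]) (z₀ : L) hz₀K (by
        intro h
        exact hz₀ (Subtype.ext h))]
    rw [Pi.sub_apply, hconst _ (hpw ψ hψ), hconst _ hψ, sub_self]
  rw [h2]
  linear_combination -h3

/-- **PF (6.8), case (c2)** -/
theorem sibley_c2 (hodd : Odd (Nat.card L)) (hHL : H ≤ L) (hnil : Group.IsNilpotent H)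
    (hTI : IsTISubset (H : Set G)) (hN : Subgroup.normalizer (H : Set G) = L)
    {W₁ W₂ : Subgroup L} (h : PTI (H.subgroupOf L) W₁ W₂)
    (hW₂ : W₂ ≤ ⁅H.subgroupOf L, H.subgroupOf L⁆) (hp : (Nat.card W₂).Prime)
    {R : (L → ℂ) → Finset (G → ℂ)} (hS : IsCoherenceSystem (inducedIrrAbove (H.subgroupOf L) ⊥)
      (fun α : L → ℂ => indFun L α) R) :
    ∃ τ₁, CohMap (inducedIrrAbove (H.subgroupOf L) ⊥) (fun α : L → ℂ => indFun L α) τ₁ := by
  set K : Subgroup L := H.subgroupOf L with hKdef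
  have hKn : K.Normal := h.normal
  have hcardK : Nat.card K = Nat.card H :=
    Nat.card_congr (Subgroup.subgroupOfEquivOfLe hHL).toEquiv
  have hnilK : Group.IsNilpotent K :=
    (Group.isNilpotent_congr (Subgroup.subgroupOfEquivOfLe hHL)).2 hnil
  haveI := hnilK
  haveI := hKn
  have hK1 : K ≠ ⊥ := fun h0 => h.ne₂ (le_bot_iff.1 (h0 ▸ h.le))
  have hKtop : K < ⊤ := by
    rw [lt_top_iff_ne_top]
    intro h0
    apply h.ne
    have := h.inf
    rwa [h0, top_inf_eq] at this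
  have hsolv : Group.IsSolvable K := inferInstance
  have hodK : Odd (Nat.card K) := by
    rw [← K.card_mul_index] at hodd
    exact (Nat.odd_mul.1 hodd).1
  have hode : Odd K.index := by
    rw [← K.card_mul_index] at hodd
    exact (Nat.odd_mul.1 hodd).2
  -- the derived subgroup
  set K' : Subgroup L := ⁅K, K⁆ with hK'def
  have hK'n : K'.Normal := inferInstance
  have hK'K : K' < K := by
    refine lt_of_le_of_ne (Subgroup.commutator_le_left K K) ?_
    intro h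
    obtain ⟨n, hn⟩ := (Subgroup.isNilpotent_iff_lowerCentralSeries K).1 hnilK
    exact hK1 (le_bot_iff.1 (nil_step' (M := ⊥) (A := K) ⟨n, hn.le⟩ le_rfl le_rfl inferInstance hKn
      (by rw [← hK'def, h]; exact le_sup_left)))
  have hlin : ∀ θ : K → ℂ, IsIrrCharacter K θ → (∀ a : K, (a : L) ∈ K' → θ a = θ 1) → dg θ = 1 :=
    fun θ hθ hθH => linear_degree (K' := K') (fun x hx y hy => by
      have := Subgroup.commutator_mem_commutator (H₁ := K) (H₂ := K) hx hy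
      rwa [commutatorElement_def] at this) hθ hθH
  have hYdeg : ∀ φ ∈ inducedIrrAbove K K', φ 1 = K.index := by
    rintro _ ⟨θ, hθ, -, hθH, rfl⟩
    rw [indFun_one_apply, dg_eq (irr_isChar hθ), hlin θ hθ hθH]
    simp
  have hYirr : ∀ φ ∈ inducedIrrAbove K K', IsIrrCharacter L φ := by
    rintro _ ⟨θ, hθ, hθ1, hθH, rfl⟩
    exact h.irr_of_ne hθ (h.linear_moved hK'n hW₂ hK'K.le hθ (hlin θ hθ hθH) hθ1 hθH)
  have hYS : inducedIrrAbove K K' ⊆ inducedIrrAbove K ⊥ := above_mono bot_le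
  have hS' := sys_mono hS hYS (exists_above hKn hK'n hK'K) (fun φ hφ => conj_above hφ)
  obtain ⟨τ₂, h₂⟩ := pf57 hS' (fun φ hφ ψ hψ => by rw [hYdeg φ hφ, hYdeg ψ hψ])
  have hK'1 : K' ≠ ⊥ := fun h0 => h.ne₂ (le_bot_iff.1 (h0 ▸ hW₂))
  obtain ⟨Z, hZn, hZ1, hZK', hZc, hZmin⟩ := exists_min_central hKn hnilK hK'n hK'K.le hK'1
  have hZK : Z ≤ K := hZK'.trans hK'K.le
  have hfrob : ∀ {N : Subgroup L}, N.Normal → W₂ ≤ N → N ≤ K → ∀ k ∈ K, k ∉ N → ∀ x : L,
      x * k * x⁻¹ * k⁻¹ ∈ N → x ∈ K := fun hN hW hNK => h.frob_lift hN hW hNK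
  have hcop : Nat.Coprime (Nat.card H) K.index := by
    rw [← hcardK, ← h.cardW]
    exact h.coprime.symm
  have hZcard : 1 < Nat.card Z := by
    haveI : Nontrivial Z := (Subgroup.nontrivial_iff_ne_bot Z).2 hZ1
    exact Finite.one_lt_card
  have hZodd : Odd (Nat.card Z) := by
    obtain ⟨m, hm⟩ := Subgroup.card_dvd_of_le hZK
    rw [hm] at hodK
    exact (Nat.odd_mul.1 hodK).1
  have htwo : ∃ χ ∈ inducedIrrAbove K K', ∃ ψ ∈ inducedIrrAbove K K', χ ≠ ψ := by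
    obtain ⟨χ, hχ⟩ := hS'.nonempty
    exact ⟨χ, hχ, _, conj_above hχ, (hS'.conj_ne χ hχ).symm⟩
  have hsirr : ∀ ψ ∈ inducedIrrAbove K K', SIrr (τ₂ ψ) := by
    intro ψ hψ
    exact sIrr_of_norm (h₂.gen (zspan_mem hψ)) (by
      rw [h₂.inner (zspan_mem hψ) (zspan_mem hψ), classInner_self_of_irr (hYirr ψ hψ)])
  have h3 : 1 < K'.relIndex K := by
    have h3 : K'.relIndex K ≠ 1 := by
      rw [Ne, Subgroup.relIndex_eq_one]
      exact not_le_of_gt hK'K
    have h4 : K'.relIndex K ≠ 0 := Subgroup.index_ne_zero_of_finite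
    omega
  have hdiv2 : ∀ {n : ℕ}, Odd n → 1 < n → K.index ∣ n - 1 → 2 * K.index ≤ n - 1 := by
    intro n hn h1 hd
    have h4 : 2 ∣ n - 1 := by
      obtain ⟨k, hk⟩ := hn
      exact ⟨k, by omega⟩
    exact Nat.le_of_dvd (by omega) (Nat.Coprime.mul_dvd_of_dvd_of_dvd
      (Nat.coprime_two_left.2 hode) h4 hd)
  by_cases hZW : Z ⊓ W₂ = ⊥
  · -- case A
    have hXirr : ∀ χ ∈ inducedIrrAbove K ⊥ \ inducedIrrAbove K Z, IsIrrCharacter L χ := by
      rintro _ ⟨⟨θ, hθ, hθ1, hθb, rfl⟩, hχ⟩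
      refine h.irr_of_ne hθ (h.central_moved hZn hZK hZW hZc hθ fun hθZ => hχ ?_)
      exact (ind_mem_above_iff hKn hZn hθ).2 ⟨hθ1, hθZ⟩
    obtain ⟨τ₁, h₁⟩ := pf67 hKn hsolv hS hodd hnilK hK'K hKtop (hfrob hK'n hW₂ hK'K.le) hZn hZ1 hZK
      hZc hXirr
    have hZ2 : 2 * K.index ≤ Nat.card Z - 1 :=
      hdiv2 hZodd hZcard (h.dvd_card_sub_one hZn hZK hZW hZc)
    obtain ⟨τ₃, h₃⟩ := core68 hKn hS hK'n hK'K hZn hZ1 hZK' hYirr hYdeg h₂
      (by
        intro ψ hψ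
        obtain ⟨c, hc⟩ := cong_const hKn hS hK'n hK'K hZn hZ1 hZK' h₁ h₂ hψ
        exact cong_int hHL rfl hTI hN hodd hcop hZn hZK hZ1 hZc (hsirr ψ hψ) hc)
    refine sib_finish hKn hS hK'n hK'K hZn hZK' hYdeg h₃ ?_
    intro θ hθ hθZ
    have h1 : dg θ ^ 2 ≤ Z.relIndex K := by
      have h2 := deg_bound (B := ⊥) (C := K) (D := Z) hZK le_rfl (by
        intro x hx y hy
        rw [Subgroup.mem_bot, hZc x hx y hy]; group) hθ (by
        intro a ha
        rw [Subgroup.mem_bot] at ha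
        rw [show a = 1 from Subtype.ext ha])
      rwa [Subgroup.relIndex_self, one_pow, one_mul] at h2
    have h2 : dg θ ≤ Z.relIndex K := le_trans (Nat.le_self_pow two_ne_zero _) h1
    have h4 : 2 * K.index * dg θ ≤ Z.relIndex K * (Nat.card Z - 1) := by
      rw [mul_comm (Z.relIndex K)]
      exact Nat.mul_le_mul hZ2 h2
    omega
  · -- case B: `Z = W₂`
    have hWZ : W₂ ≤ Z := by
      haveI : Fact (Nat.card W₂).Prime := ⟨hp⟩
      have h5 : Nat.card ↥(Z ⊓ W₂) ∣ Nat.card W₂ := Subgroup.card_dvd_of_le inf_le_right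
      rcases (Nat.dvd_prime hp).1 h5 with h6 | h6
      · exact absurd (Subgroup.card_eq_one.1 h6) hZW
      · have h7 : Z ⊓ W₂ = W₂ := Subgroup.eq_of_le_of_card_ge inf_le_right h6.ge
        rw [← h7]; exact inf_le_left
    have hW₂n : W₂.Normal := by
      constructor
      intro b hb g
      obtain ⟨k, hk, y, hy, rfl⟩ := h.exists_mul g
      have h5 : k * y * b * (k * y)⁻¹ = b := by
        have e1 := h.comm hy hb
        have e2 := hZc b (hWZ hb) k hk
        calc k * y * b * (k * y)⁻¹ = k * (y * b) * y⁻¹ * k⁻¹ := by group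
          _ = k * (b * y) * y⁻¹ * k⁻¹ := by rw [e1]
          _ = (k * b) * k⁻¹ := by group
          _ = b := by rw [← e2]; group
      rw [h5]; exact hb
    have hZW₂ : W₂ = Z := hZmin W₂ hW₂n h.ne₂ hWZ
    have hpZ : (Nat.card Z).Prime := by rw [← hZW₂]; exact hp
    obtain ⟨τ₃, h₃⟩ := core68 hKn hS hK'n hK'K hZn hZ1 hZK' hYirr hYdeg h₂
      (by
        intro ψ hψ
        obtain ⟨c, hc⟩ := const_galois hHL hTI hN hKn hK'K hZK' hpZ hYirr hYdeg hK'n htwo h₂ hψ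
        exact cong_int hHL rfl hTI hN hodd hcop hZn hZK hZ1 hZc (hsirr ψ hψ) hc)
    refine sib_finish hKn hS hK'n hK'K hZn hZK' hYdeg h₃ ?_
    intro θ hθ hθZ
    have hZ2 : 2 ≤ Nat.card Z - 1 := by
      obtain ⟨m, hm⟩ := hZodd
      omega
    rcases hZK'.eq_or_lt with hZeq | hZlt
    · -- `Z = K'`
      have h5 : dg θ = 1 := hlin θ hθ (fun a ha => hθZ a (hZeq ▸ ha))
      have h6 := frob_dvd (K := K) hK'n hKn hK'K.le le_rfl (hfrob hK'n hW₂ hK'K.le)
      have h7 : Odd (K'.relIndex K) := by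
        have := (K'.subgroupOf K).card_mul_index
        rw [← this] at hodK
        exact (Nat.odd_mul.1 hodK).2
      have h8 := hdiv2 h7 h3 h6
      have h9 : 0 < Z.relIndex K := Nat.pos_of_ne_zero Subgroup.index_ne_zero_of_finite
      have h10 : 0 < Z.relIndex K * (Nat.card Z - 1) := Nat.mul_pos h9 (by omega)
      rw [h5, mul_one]
      omega
    · -- a chief factor above `Z`
      obtain ⟨Z₂, hZ₂⟩ := Set.Finite.exists_minimal
        (s := {A : Subgroup L | A.Normal ∧ Z < A ∧ A ≤ K'}) (Set.toFinite _) ⟨K', hK'n, hZlt, le_rfl⟩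
      obtain ⟨⟨hZ₂n, hZZ₂, hZ₂K'⟩, hmin⟩ := hZ₂
      have hZ₂K : Z₂ ≤ K := hZ₂K'.trans hK'K.le
      have hnil' : ∃ n, K.lowerCentralSeries n ≤ Z := by
        obtain ⟨n, hn⟩ := (Subgroup.isNilpotent_iff_lowerCentralSeries K).1 hnilK
        exact ⟨n, hn.le.trans bot_le⟩
      have h5 : ⁅Z₂, K⁆ ≤ Z := by
        refine nil_chief_central hKn hnil' hZ₂n hZn hZ₂K le_rfl hZZ₂ ?_
        intro N hNn hZN hNZ₂
        rcases hZN.eq_or_lt with h6 | h6
        · exact Or.inl h6.symm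
        · right
          exact le_antisymm hNZ₂ (hmin ⟨hNn, h6, hNZ₂.trans hZ₂K'⟩ hNZ₂)
      have h6 : dg θ ^ 2 ≤ Z₂.relIndex K := by
        have h2 := deg_bound (B := Z) (C := K) (D := Z₂) hZ₂K le_rfl (by
          intro x hx y hy
          have := h5 (Subgroup.commutator_mem_commutator hx hy)
          rwa [commutatorElement_def] at this) hθ hθZ
        rwa [Subgroup.relIndex_self, one_pow, one_mul] at h2
      have h7 := frob_dvd (K := K) hZn hZ₂n hZZ₂.le hZ₂K (hfrob hZn hWZ hZK)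
      have h8 : Z.relIndex Z₂ * Z₂.relIndex K = Z.relIndex K :=
        Subgroup.relIndex_mul_relIndex Z Z₂ K hZZ₂.le hZ₂K
      have h9 : Odd (Z.relIndex Z₂) := by
        have h10 : Odd (Nat.card Z₂) := by
          obtain ⟨m, hm⟩ := Subgroup.card_dvd_of_le hZ₂K
          rw [hm] at hodK
          exact (Nat.odd_mul.1 hodK).1
        have := (Z.subgroupOf Z₂).card_mul_index
        rw [← this] at h10
        exact (Nat.odd_mul.1 h10).2
      have h10 : 1 < Z.relIndex Z₂ := by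
        have h11 : Z.relIndex Z₂ ≠ 1 := by
          rw [Ne, Subgroup.relIndex_eq_one]
          exact not_le_of_gt hZZ₂
        have h12 : Z.relIndex Z₂ ≠ 0 := Subgroup.index_ne_zero_of_finite
        omega
      have h11 := hdiv2 h9 h10 h7
      have h12 : 2 * K.index * dg θ ≤ Z.relIndex K := by
        rw [← h8]
        exact Nat.mul_le_mul (by omega) (le_trans (Nat.le_self_pow two_ne_zero _) h6)
      have h13 : Z.relIndex K ≤ Z.relIndex K * (Nat.card Z - 1) :=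
        Nat.le_mul_of_pos_right _ (by omega)
      omega

/-- changing the map of a coherence system off the degree-zero part -/
theorem sys_congr {L : Type u} [Group L] [Fintype L] {S : Set (L → ℂ)} {τ τ' : (L → ℂ) → (G → ℂ)}
    {R : (L → ℂ) → Finset (G → ℂ)} (hS : IsCoherenceSystem S τ R)
    (hτ : ∀ α ∈ zspanOn S ({1}ᶜ : Set L), τ α = τ' α) : IsCoherenceSystem S τ' R :=
  ⟨hS.nonempty, hS.isCharacter, hS.conj_mem, hS.conj_ne,
    iso_congr (E := zOn S ({1}ᶜ : Set L)) hS.isometry (fun α hα => (hτ α hα).symm),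
    fun α hα => by rw [← hτ α hα]; exact hS.map_one α hα,
    hS.orthogonal, hS.orthonormal, hS.virtual,
    fun χ hχ => by rw [← hτ _ (sys_conj_sub_mem hS hχ)]; exact hS.sum_eq χ hχ,
    hS.disjoint⟩

/-- **PF (6.8), case (c2)**, for an isometry extending induction -/
theorem sibley_c2' (hodd : Odd (Nat.card L)) (hHL : H ≤ L) (hnil : Group.IsNilpotent H)
    (hTI : IsTISubset (H : Set G)) (hN : Subgroup.normalizer (H : Set G) = L)
    {W₁ W₂ : Subgroup L} (h : PTI (H.subgroupOf L) W₁ W₂)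
    (hW₂ : W₂ ≤ ⁅H.subgroupOf L, H.subgroupOf L⁆) (hp : (Nat.card W₂).Prime)
    {τ : (L → ℂ) → (G → ℂ)} {R : (L → ℂ) → Finset (G → ℂ)}
    (hS : IsCoherenceSystem (inducedIrrAbove (H.subgroupOf L) ⊥) τ R)
    (hτ : ∀ α ∈ zspanOn (inducedIrrAbove (H.subgroupOf L) ⊥) ({1}ᶜ : Set L), τ α = indFun L α) :
    ∃ τ₁, CohMap (inducedIrrAbove (H.subgroupOf L) ⊥) τ τ₁ := by
  obtain ⟨τ₁, h₁⟩ := sibley_c2 hodd hHL hnil hTI hN h hW₂ hp (sys_congr hS hτ)
  exact ⟨τ₁, h₁.1, fun α hα => (h₁.2 α hα).trans (hτ α hα).symm⟩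

end main

end Cfsg.Agent.H3
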