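import Mathlib
import Cfsg.Prelude.Def_SporadicB
import Cfsg.Agent.H3.MultA
import Cfsg.Agent.S2530

/-!
3-transpositions: homomorphisms from symmetric groups given by paths.
-/

set_option autoImplicit false
open Equiv Equiv.Perm

namespace Cfsg.Agent.H3

variable {G : Type*} [Group G]

/-- a homomorphism from the symmetric group given by a path -/
theorem exists_path_hom (n : ℕ) (s : Fin n → G) (h2 : ∀ i, s i * s i = 1)
    (h3 : ∀ i j : Fin n, (i : ℕ) + 1 = j → s i * s j * s i = s j * s i * s j)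
    (hc : ∀ i j : Fin n, (i : ℕ) + 1 < j → s i * s j = s j * s i) :
    ∃ φ : Perm (Fin (n + 1)) →* G, ∀ i, φ (swap i.castSucc i.succ) = s i := by
  obtain ⟨cs, hcs⟩ := Cfsg.Agent.S2530.result n
  have hinv : ∀ i, (s i)⁻¹ = s i := fun i => inv_eq_of_mul_eq_one_left (h2 i)
  have h3' : ∀ i j : Fin n, (i : ℕ) + 1 = j → (s i * s j) ^ 3 = 1 := by
    intro i j hij
    have h := h3 i j hij
    calc (s i * s j) ^ 3 = (s i * s j * s i) * (s j * s i * s j) := by
          rw [pow_succ, pow_two]; simp only [mul_assoc]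
      _ = (s j * s i * s j) * (s j * s i * s j) := by rw [h]
      _ = s j * s i * (s j * s j) * s i * s j := by simp only [mul_assoc]
      _ = s j * (s i * s i) * s j := by rw [h2]; simp only [mul_assoc, one_mul, mul_one]
      _ = 1 := by rw [h2, mul_one, h2]
  have h3'' : ∀ i j : Fin n, (i : ℕ) + 1 = j → (s j * s i) ^ 3 = 1 := by
    intro i j hij
    have h := h3' i j hij
    have e1 : s j * s i = (s i * s j)⁻¹ := by rw [mul_inv_rev, hinv, hinv]
    rw [e1, inv_pow, h, inv_one]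
  have h2' : ∀ i j : Fin n, (i : ℕ) + 1 < j → (s i * s j) ^ 2 = 1 := by
    intro i j hij
    rw [pow_two]
    calc s i * s j * (s i * s j) = s i * (s j * s i) * s j := by simp only [mul_assoc]
      _ = s i * (s i * s j) * s j := by rw [hc i j hij]
      _ = (s i * s i) * (s j * s j) := by simp only [mul_assoc]
      _ = 1 := by rw [h2, h2, one_mul]
  have h2'' : ∀ i j : Fin n, (i : ℕ) + 1 < j → (s j * s i) ^ 2 = 1 := by
    intro i j hij
    have h := h2' i j hij
    have e1 : s j * s i = (s i * s j)⁻¹ := by rw [mul_inv_rev, hinv, hinv]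
    rw [e1, inv_pow, h, inv_one]
  have hlift : (CoxeterMatrix.A n).IsLiftable s := by
    intro i j
    show (s i * s j) ^ (if i = j then 1
      else (if (j : ℕ) + 1 = i ∨ (i : ℕ) + 1 = j then 3 else 2)) = 1
    split_ifs with h1 h
    · rw [h1, pow_one, h2]
    · rcases h with h | h
      · exact h3'' j i h
      · exact h3' i j h
    · push Not at h
      have hne : (i : ℕ) ≠ j := fun hh => h1 (Fin.ext hh)
      rcases lt_or_gt_of_ne hne with hlt | hlt
      · exact h2' i j (by omega)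
      · exact h2'' j i (by omega)
  refine ⟨cs.lift ⟨s, hlift⟩, fun i => ?_⟩
  rw [← hcs i]
  exact cs.lift_apply_simple hlift i

/-- sets of 3-transpositions closed under conjugation -/
structure TTS (D : Set G) : Prop where
  sq : ∀ d ∈ D, d * d = 1
  br : ∀ d ∈ D, ∀ e ∈ D, ¬ Commute d e → d * e * d = e * d * e
  cj : ∀ g : G, ∀ d ∈ D, g * d * g⁻¹ ∈ D
  cls : ∀ d ∈ D, ∀ e ∈ D, ∃ g : G, g * d * g⁻¹ = e

theorem TTS.of_class {D : Set G} (hD : Cfsg.IsThreeTranspositionClass D) : TTS D := by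
  obtain ⟨⟨h1, h2⟩, ⟨d₀, hd₀, hD0⟩, -⟩ := hD
  have hsq : ∀ d ∈ D, d * d = 1 := by
    intro d hd
    have := pow_orderOf_eq_one d
    rwa [h1 d hd, pow_two] at this
  refine ⟨hsq, ?_, ?_, ?_⟩
  · intro d hd e he hne
    have hdi : d⁻¹ = d := inv_eq_of_mul_eq_one_left (hsq d hd)
    have hei : e⁻¹ = e := inv_eq_of_mul_eq_one_left (hsq e he)
    rcases h2 d hd e he with h | h
    · exfalso
      apply hne
      show d * e = e * d
      rw [pow_two] at h
      have := eq_inv_of_mul_eq_one_left h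
      rw [this, mul_inv_rev, hdi, hei]
    · have h3 : (d * e * d) * (e * d * e) = 1 := by
        rw [← h, pow_succ, pow_two]; simp only [mul_assoc]
      rw [eq_inv_of_mul_eq_one_left h3, mul_inv_rev, mul_inv_rev, hdi, hei, mul_assoc]
  · intro g d hd
    rw [hD0] at hd ⊢
    have hd' : IsConj d₀ d := hd
    exact hd'.trans (isConj_iff.2 ⟨g, rfl⟩)
  · intro d hd e he
    rw [hD0] at hd he
    have hd' : IsConj d₀ d := hd
    have he' : IsConj d₀ e := he
    exact isConj_iff.1 (hd'.symm.trans he')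

section
variable {D : Set G}

theorem cm_conj {g a b : G} (h : Commute a b) : Commute (g * a * g⁻¹) (g * b * g⁻¹) := by
  show g * a * g⁻¹ * (g * b * g⁻¹) = g * b * g⁻¹ * (g * a * g⁻¹)
  calc g * a * g⁻¹ * (g * b * g⁻¹) = g * (a * b) * g⁻¹ := by group
    _ = g * (b * a) * g⁻¹ := by rw [h.eq]
    _ = _ := by group

theorem cm_conj_iff {g a b : G} : Commute (g * a * g⁻¹) (g * b * g⁻¹) ↔ Commute a b := by
  constructor
  · intro h
    have := cm_conj (g := g⁻¹) h
    have e1 : g⁻¹ * (g * a * g⁻¹) * g⁻¹⁻¹ = a := by group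
    have e2 : g⁻¹ * (g * b * g⁻¹) * g⁻¹⁻¹ = b := by group
    rwa [e1, e2] at this
  · exact cm_conj

/-- homomorphisms from `S₅` sending transpositions to `D` -/
structure SH {n : ℕ} (D : Set G) (φ : Perm (Fin (n + 3)) →* G) : Prop where
  mem : ∀ i j, i ≠ j → φ (swap i j) ∈ D
  nc : ∀ i j k, i ≠ j → j ≠ k → i ≠ k → ¬ Commute (φ (swap i j)) (φ (swap j k))

theorem SH.cm {n : ℕ} {φ : Perm (Fin (n + 3)) →* G} {i j k l : Fin (n + 3)} (hik : i ≠ k)
    (hil : i ≠ l) (hjk : j ≠ k) (hjl : j ≠ l) : Commute (φ (swap i j)) (φ (swap k l)) := by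
  show φ (swap i j) * φ (swap k l) = φ (swap k l) * φ (swap i j)
  rw [← map_mul, ← map_mul]
  have h := Equiv.mul_swap_eq_swap_mul (swap i j) k l
  rw [swap_apply_of_ne_of_ne hik.symm hjk.symm, swap_apply_of_ne_of_ne hil.symm hjl.symm] at h
  rw [h]

theorem map_conj_swap {n : ℕ} (φ : Perm (Fin n) →* G) (σ : Perm (Fin n)) (i j : Fin n) :
    φ σ * φ (swap i j) * (φ σ)⁻¹ = φ (swap (σ i) (σ j)) := by
  rw [← map_inv, ← map_mul, ← map_mul, swap_conj']

theorem exists_perm_emb {n m : ℕ} (x y : Fin m ↪ Fin n) : ∃ σ : Perm (Fin n), ∀ i, σ (x i) = y i := by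
  haveI := Equiv.Perm.isMultiplyPretransitive (Fin n) m
  obtain ⟨σ, hσ⟩ := MulAction.exists_smul_eq (Perm (Fin n)) x y
  exact ⟨σ, fun i => congrFun (congrArg DFunLike.coe hσ) i⟩

theorem exists_perm3 {n : ℕ} {i j k : Fin (n + 3)} (hij : i ≠ j) (hjk : j ≠ k) (hik : i ≠ k) :
    ∃ σ : Perm (Fin (n + 3)), σ 0 = i ∧ σ 1 = j ∧ σ 2 = k := by
  let x : Fin 3 ↪ Fin (n + 3) := Fin.castLEEmb (by omega)
  let y : Fin 3 ↪ Fin (n + 3) := ⟨![i, j, k], by
    intro a b hab
    fin_cases a <;> fin_cases b <;> simp_all [hij, hjk, hik, hij.symm, hjk.symm, hik.symm]⟩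
  obtain ⟨σ, hσ⟩ := exists_perm_emb x y
  refine ⟨σ, ?_, ?_, ?_⟩
  · exact hσ 0
  · have h := hσ 1
    have h1 : x 1 = 1 := by
      apply Fin.ext; simp [x]
    rw [h1] at h
    exact h
  · have h := hσ 2
    have h1 : x 2 = 2 := by
      apply Fin.ext
      show (2 : ℕ) = ((2 : Fin (n + 3)) : ℕ)
      rw [Fin.val_two]
    rw [h1] at h
    exact h

theorem SH.of_path {n : ℕ} (hT : TTS D) {φ : Perm (Fin (n + 3)) →* G} (h0 : φ (swap 0 1) ∈ D)
    (h1 : ¬ Commute (φ (swap 0 1)) (φ (swap 1 2))) : SH D φ := by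
  have key : ∀ i j k : Fin (n + 3), i ≠ j → j ≠ k → i ≠ k → φ (swap i j) ∈ D ∧
      ¬ Commute (φ (swap i j)) (φ (swap j k)) := by
    intro i j k hij hjk hik
    obtain ⟨σ, h2, h3, h4⟩ := exists_perm3 hij hjk hik
    rw [← h2, ← h3, ← h4, ← map_conj_swap, ← map_conj_swap]
    exact ⟨hT.cj _ _ h0, fun h => h1 (cm_conj_iff.1 h)⟩
  refine ⟨?_, fun i j k hij hjk hik => (key i j k hij hjk hik).2⟩
  intro i j hij
  obtain ⟨k, hk⟩ := ex_not_mem ({i, j} : Finset (Fin (n + 3))) (by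
    have := Finset.card_le_two (a := i) (b := j)
    rw [Fintype.card_fin]; omega)
  simp only [Finset.mem_insert, Finset.mem_singleton, not_or] at hk
  exact (key i j k hij (Ne.symm hk.2) (Ne.symm hk.1)).1

end

end Cfsg.Agent.H3
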