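import Mathlib
import Cfsg.Agent.H3.ThreeA
import Cfsg.Agent.S5344

/-!
3-transposition groups of width two.
-/

set_option autoImplicit false
open Equiv Equiv.Perm

namespace Cfsg.Agent.H3

variable {G : Type*} [Group G] {D : Set G}

theorem four_comm (h3 : Cfsg.IsThreeTranspositionSet D) {p b q : G} (hp : p ∈ D) (hb : b ∈ D)
    (hq : q ∈ D) (hpq : p ≠ q) (hc : Commute p q) (hpb : ¬ Commute p b) (hbq : ¬ Commute b q) :
    Commute b ((p * q) * b * (p * q)⁻¹) ∧ b ≠ (p * q) * b * (p * q)⁻¹ := by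
  obtain ⟨φ, hφ, h1, h2, h3⟩ := Cfsg.Agent.S5344.result h3 hp hb hq hpq hc hpb hbq
  have e1 : (p * q) * b * (p * q)⁻¹ = φ (swap 0 3) := by
    rw [← h1, ← h2, ← h3, ← map_mul, ← map_mul, ← map_inv, ← map_mul]
    congr 1
    decide
  rw [e1, ← h2]
  constructor
  · show φ _ * φ _ = φ _ * φ _
    rw [← map_mul, ← map_mul]
    congr 1
    decide
  · intro h
    have := hφ h
    revert this
    decide

/-- no commuting triples -/
def NoTriple (D : Set G) : Prop := ∀ p ∈ D, ∀ q ∈ D, ∀ e ∈ D, p ≠ q → e ≠ p → e ≠ q → Commute p q →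
  Commute e p → Commute e q → False

section
variable {φ : Perm (Fin 5) →* G}

theorem SH.conj (hφ : SH (n := 2) D φ) (σ : Perm (Fin 5)) :
    SH (n := 2) D (φ.comp (MulAut.conj σ).toMonoidHom) := by
  have key : ∀ i j, (φ.comp (MulAut.conj σ).toMonoidHom) (swap i j) = φ (swap (σ i) (σ j)) := by
    intro i j
    show φ (σ * swap i j * σ⁻¹) = _
    rw [swap_conj']
  refine ⟨fun i j hij => ?_, fun i j k hij hjk hik => ?_⟩
  · rw [key]; exact hφ.mem _ _ (σ.injective.ne hij)
  · rw [key, key]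
    exact hφ.nc _ _ _ (σ.injective.ne hij) (σ.injective.ne hjk) (σ.injective.ne hik)

theorem comp_swap (σ : Perm (Fin 5)) (i j : Fin 5) :
    (φ.comp (MulAut.conj σ).toMonoidHom) (swap i j) = φ (swap (σ i) (σ j)) := by
  show φ (σ * swap i j * σ⁻¹) = _
  rw [swap_conj']

theorem SH.ne_disj (hφ : SH (n := 2) D φ) {i j k l : Fin 5} (hij : i ≠ j) (hkl : k ≠ l) (hik : i ≠ k)
    (hil : i ≠ l) (hjk : j ≠ k) (hjl : j ≠ l) : φ (swap i j) ≠ φ (swap k l) := by
  obtain ⟨m, hm⟩ := ex_not_mem ({i, j, k, l} : Finset (Fin 5)) (by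
    have := Finset.card_le_four (a := i) (b := j) (c := k) (d := l)
    rw [Fintype.card_fin]; omega)
  simp only [Finset.mem_insert, Finset.mem_singleton, not_or] at hm
  intro h
  have h1 := hφ.nc i j m hij (Ne.symm hm.2.1) (Ne.symm hm.1)
  rw [h] at h1
  exact h1 (SH.cm (n := 2) (Ne.symm hjk) (Ne.symm hm.2.2.1) (Ne.symm hjl) (Ne.symm hm.2.2.2))

/-- commuting with `b` -/
theorem cdisj (hφ : SH (n := 2) D φ) (hl : NoTriple D) {b : G} (hb : b ∈ D)
    (hbi : ∀ i j, i ≠ j → b ≠ φ (swap i j)) {i j k l : Fin 5} (hij : i ≠ j) (hkl : k ≠ l)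
    (h1 : Commute b (φ (swap i j))) (h2 : Commute b (φ (swap k l))) : k = i ∨ k = j ∨ l = i ∨ l = j := by
  by_contra hcon
  push Not at hcon
  exact hl _ (hφ.mem i j hij) _ (hφ.mem k l hkl) b hb
    (hφ.ne_disj hij hkl (Ne.symm hcon.1) (Ne.symm hcon.2.2.1) (Ne.symm hcon.2.1) (Ne.symm hcon.2.2.2))
    (hbi i j hij) (hbi k l hkl)
    (SH.cm (n := 2) (Ne.symm hcon.1) (Ne.symm hcon.2.2.1) (Ne.symm hcon.2.1) (Ne.symm hcon.2.2.2)) h1 h2

theorem cline {b : G} {i j k : Fin 5} (hij : i ≠ j) (hjk : j ≠ k) (hik : i ≠ k)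
    (h1 : Commute b (φ (swap i j))) (h2 : Commute b (φ (swap i k))) : Commute b (φ (swap j k)) := by
  have e : swap j k = swap i j * swap i k * (swap i j)⁻¹ := by
    rw [swap_conj', swap_apply_left, swap_apply_of_ne_of_ne hik.symm hjk.symm]
  rw [e, map_mul, map_mul, map_inv]
  exact (h1.mul_right h2).mul_right h1.inv_right

theorem b3_aux (hT : TTS D) (h3 : Cfsg.IsThreeTranspositionSet D) (hφ : SH (n := 2) D φ)
    (hl : NoTriple D) {b : G} (hb : b ∈ D) (hbi : ∀ i j, i ≠ j → b ≠ φ (swap i j)) :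
    ∃ i j : Fin 5, i ≠ j ∧ i ≠ 4 ∧ j ≠ 4 ∧ Commute b (φ (swap i j)) := by
  by_contra hcon
  push Not at hcon
  have f1 := four_comm h3 (hφ.mem 0 1 (by decide)) hb (hφ.mem 2 3 (by decide))
    (hφ.ne_disj (by decide) (by decide) (by decide) (by decide) (by decide) (by decide))
    (SH.cm (n := 2) (by decide) (by decide) (by decide) (by decide))
    (fun h => hcon 0 1 (by decide) (by decide) (by decide) h.symm)
    (hcon 2 3 (by decide) (by decide) (by decide))
  have f2 := four_comm h3 (hφ.mem 0 2 (by decide)) hb (hφ.mem 1 3 (by decide))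
    (hφ.ne_disj (by decide) (by decide) (by decide) (by decide) (by decide) (by decide))
    (SH.cm (n := 2) (by decide) (by decide) (by decide) (by decide))
    (fun h => hcon 0 2 (by decide) (by decide) (by decide) h.symm)
    (hcon 1 3 (by decide) (by decide) (by decide))
  have f3 := four_comm h3 (hφ.mem 0 3 (by decide)) hb (hφ.mem 1 2 (by decide))
    (hφ.ne_disj (by decide) (by decide) (by decide) (by decide) (by decide) (by decide))
    (SH.cm (n := 2) (by decide) (by decide) (by decide) (by decide))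
    (fun h => hcon 0 3 (by decide) (by decide) (by decide) h.symm)
    (hcon 1 2 (by decide) (by decide) (by decide))
  have e : φ (swap 0 1) * φ (swap 2 3) * (φ (swap 0 3) * φ (swap 1 2)) =
      φ (swap 0 2) * φ (swap 1 3) := by
    rw [← map_mul, ← map_mul, ← map_mul, ← map_mul]
    congr 1
    decide
  set u := φ (swap 0 1) * φ (swap 2 3)
  set u' := φ (swap 0 2) * φ (swap 1 3)
  set u'' := φ (swap 0 3) * φ (swap 1 2)
  have e2 : u' * b * u'⁻¹ = u * (u'' * b * u''⁻¹) * u⁻¹ := by rw [← e]; group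
  refine hl (u * b * u⁻¹) (hT.cj _ _ hb) (u' * b * u'⁻¹) (hT.cj _ _ hb) b hb ?_ f1.2 f2.2 ?_ f1.1 f2.1
  · rw [e2]
    intro h
    apply f3.2
    exact mul_left_cancel (mul_right_cancel h)
  · rw [e2]
    exact cm_conj f3.1

theorem b3 (hT : TTS D) (h3 : Cfsg.IsThreeTranspositionSet D) (hφ : SH (n := 2) D φ)
    (hl : NoTriple D) {b : G} (hb : b ∈ D) (hbi : ∀ i j, i ≠ j → b ≠ φ (swap i j)) (m : Fin 5) :
    ∃ i j : Fin 5, i ≠ j ∧ i ≠ m ∧ j ≠ m ∧ Commute b (φ (swap i j)) := by
  obtain ⟨i, j, hij, hi, hj, hc⟩ := b3_aux hT h3 (hφ.conj (swap 4 m)) hl hb (fun i j hij => by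
    rw [comp_swap]; exact hbi _ _ ((swap 4 m).injective.ne hij))
  rw [comp_swap] at hc
  refine ⟨_, _, (swap 4 m).injective.ne hij, ?_, ?_, hc⟩
  · intro h
    apply hi
    have h4 : swap 4 m 4 = m := swap_apply_left _ _
    exact (swap 4 m).injective (by rw [h, h4])
  · intro h
    apply hj
    have h4 : swap 4 m 4 = m := swap_apply_left _ _
    exact (swap 4 m).injective (by rw [h, h4])

theorem b6 (hT : TTS D) (h3 : Cfsg.IsThreeTranspositionSet D) (hφ : SH (n := 2) D φ)
    (hl : NoTriple D) {b e : G} (hb : b ∈ D) (he : e ∈ D)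
    (hei : ∀ i j, i ≠ j → e ≠ φ (swap i j))
    (b12 : ¬ Commute b (φ (swap 1 2))) (b23 : Commute b (φ (swap 2 3)))
    (b34 : Commute b (φ (swap 3 4))) (e14 : Commute e (φ (swap 1 4)))
    (e12 : ¬ Commute e (φ (swap 1 2))) (e13 : ¬ Commute e (φ (swap 1 3))) : Commute e b := by
  by_contra hne
  have n12 := hφ.mem 1 2 (by decide)
  have n23 := hφ.mem 2 3 (by decide)
  have n34 := hφ.mem 3 4 (by decide)
  have c1 := hT.br _ hb _ n12 b12
  have c2 := hT.br _ n12 _ n23 (hφ.nc 1 2 3 (by decide) (by decide) (by decide))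
  have c3 := hT.br _ n23 _ n34 (hφ.nc 2 3 4 (by decide) (by decide) (by decide))
  have c4 : Commute (φ (swap 1 2)) (φ (swap 3 4)) :=
    SH.cm (n := 2) (by decide) (by decide) (by decide) (by decide)
  obtain ⟨ψ, hψ⟩ := exists_path_hom 4 ![b, φ (swap 1 2), φ (swap 2 3), φ (swap 3 4)]
    (by
      intro i
      fin_cases i
      · exact hT.sq _ hb
      · exact hT.sq _ n12
      · exact hT.sq _ n23
      · exact hT.sq _ n34)
    (by
      intro i j hij
      fin_cases i <;> fin_cases j <;> simp only [Fin.mk_zero, Fin.mk_one] at hij ⊢ <;>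
        first
          | exact c1
          | exact c2
          | exact c3
          | (exfalso; revert hij; decide))
    (by
      intro i j hij
      fin_cases i <;> fin_cases j <;> simp only [Fin.mk_zero, Fin.mk_one] at hij ⊢ <;>
        first
          | exact b23.eq
          | exact b34.eq
          | exact c4.eq
          | (exfalso; revert hij; decide))
  have p01 : ψ (swap 0 1) = b := hψ 0
  have p12 : ψ (swap 1 2) = φ (swap 1 2) := hψ 1
  have p23 : ψ (swap 2 3) = φ (swap 2 3) := hψ 2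
  have p34 : ψ (swap 3 4) = φ (swap 3 4) := hψ 3
  have p13 : ψ (swap 1 3) = φ (swap 1 3) := by
    have e1 : (swap 1 3 : Perm (Fin 5)) = swap 1 2 * swap 2 3 * swap 1 2 := by decide
    rw [e1, map_mul, map_mul, map_mul, map_mul, p12, p23]
  have p14 : ψ (swap 1 4) = φ (swap 1 4) := by
    have e1 : (swap 1 4 : Perm (Fin 5)) = swap 1 3 * swap 3 4 * swap 1 3 := by decide
    rw [e1, map_mul, map_mul, map_mul, map_mul, p13, p34]
  have hψS : SH (n := 2) D ψ := SH.of_path hT (by rw [p01]; exact hb) (by rw [p01, p12]; exact b12)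
  by_cases him : ∃ k l, k ≠ l ∧ e = ψ (swap k l)
  · obtain ⟨k, l, hkl, rfl⟩ := him
    rw [← p14] at e14
    rw [← p12] at e12
    rw [← p13] at e13
    have hei14 := hei 1 4 (by decide)
    rw [← p14] at hei14
    have hei23 := hei 2 3 (by decide)
    rw [← p23] at hei23
    have hnc : ∀ i j k : Fin 5, i ≠ j → j ≠ k → i ≠ k → ¬ Commute (ψ (swap i j)) (ψ (swap j k)) := hψS.nc
    have hcm : ∀ i j k l : Fin 5, i ≠ k → i ≠ l → j ≠ k → j ≠ l → Commute (ψ (swap i j)) (ψ (swap k l)) :=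
      fun i j k l h1 h2 h3 h4 => SH.cm (n := 2) h1 h2 h3 h4
    have hsw : ∀ i j : Fin 5, ψ (swap i j) = ψ (swap j i) := fun i j => by rw [swap_comm]
    -- `{k,l}` meets `{1,4}` or not
    by_cases hk1 : k = 1
    · subst hk1
      by_cases hl4 : l = 4
      · subst hl4; exact hei14 rfl
      · rw [hsw] at e14
        exact hnc l 1 4 (Ne.symm hkl) (by decide) hl4 e14
    by_cases hl1 : l = 1
    · subst hl1
      by_cases hk4 : k = 4
      · subst hk4; exact hei14 (hsw _ _)
      · exact hnc k 1 4 hkl (by decide) hk4 e14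
    by_cases hk4 : k = 4
    · subst hk4
      rw [hsw 1 4, hsw 4 l] at e14
      exact hnc l 4 1 (Ne.symm hkl) (by decide) hl1 e14
    by_cases hl4 : l = 4
    · subst hl4
      rw [hsw 1 4] at e14
      exact hnc k 4 1 hkl (by decide) hk1 e14
    by_cases h2 : k = 2 ∨ l = 2
    · by_cases h3' : k = 3 ∨ l = 3
      · rcases h2 with rfl | rfl <;> rcases h3' with h | h
        · exact absurd h (by decide)
        · subst h; exact hei23 rfl
        · subst h; exact hei23 (hsw _ _)
        · exact absurd h (by decide)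
      · push Not at h3'
        exact e13 (hcm k l 1 3 hk1 h3'.1 hl1 h3'.2)
    · push Not at h2
      exact e12 (hcm k l 1 2 hk1 h2.1 hl1 h2.2)
  · push Not at him
    obtain ⟨i, j, hij, hi4, hj4, hc⟩ := b3 hT h3 hψS hl he (fun i j hij => him i j hij) 4
    have hd := cdisj hψS hl he (fun i j hij => him i j hij) (i := 1) (j := 4) (by decide) hij
      (by rw [p14]; exact e14) hc
    have hm : ∃ m : Fin 5, m ≠ 1 ∧ m ≠ 4 ∧ Commute e (ψ (swap 1 m)) := by
      rcases hd with h | h | h | h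
      · subst h; exact ⟨j, Ne.symm hij, hj4, hc⟩
      · exact absurd h hi4
      · subst h; rw [swap_comm] at hc; exact ⟨i, hij, hi4, hc⟩
      · exact absurd h hj4
    obtain ⟨m, hm1, hm4, hm⟩ := hm
    have hm' : m = 0 ∨ m = 2 ∨ m = 3 := by
      revert hm1 hm4
      fin_cases m <;> decide
    rcases hm' with rfl | rfl | rfl
    · rw [swap_comm, p01] at hm
      exact hne hm
    · rw [p12] at hm; exact e12 hm
    · rw [p13] at hm; exact e13 hm

end

end Cfsg.Agent.H3
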