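import Mathlib
import Cfsg.Agent.H3.ThreeB

/-!
3-transposition groups of width two: every transposition lies in the `S₅`.
-/

set_option autoImplicit false
open Equiv Equiv.Perm

namespace Cfsg.Agent.H3

variable {G : Type*} [Group G] {D : Set G} {φ : Perm (Fin 5) →* G}

theorem b_triple (hT : TTS D) (h3 : Cfsg.IsThreeTranspositionSet D) (hφ : SH (n := 2) D φ)
    (hl : NoTriple D) {b : G} (hb : b ∈ D) (hbi : ∀ i j, i ≠ j → b ≠ φ (swap i j)) :
    ∃ i j l : Fin 5, i ≠ j ∧ j ≠ l ∧ i ≠ l ∧ Commute b (φ (swap i j)) ∧ Commute b (φ (swap j l)) ∧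
      Commute b (φ (swap i l)) ∧ ∀ p q, p ≠ q → Commute b (φ (swap p q)) →
        (p = i ∨ p = j ∨ p = l) ∧ (q = i ∨ q = j ∨ q = l) := by
  obtain ⟨i, j, hij, -, -, hc⟩ := b3 hT h3 hφ hl hb hbi 0
  obtain ⟨p, q, hpq, hpi, hqi, hc'⟩ := b3 hT h3 hφ hl hb hbi i
  have hd := cdisj hφ hl hb hbi hij hpq hc hc'
  have hm : ∃ l : Fin 5, l ≠ j ∧ l ≠ i ∧ Commute b (φ (swap j l)) := by
    rcases hd with h | h | h | h
    · exact absurd h hpi
    · subst h; exact ⟨q, Ne.symm hpq, hqi, hc'⟩
    · exact absurd h hqi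
    · subst h; rw [swap_comm] at hc'; exact ⟨p, hpq, hpi, hc'⟩
  obtain ⟨l, hlj, hli, hc2⟩ := hm
  have hcji : Commute b (φ (swap j i)) := by rw [swap_comm]; exact hc
  have hc3 : Commute b (φ (swap i l)) := cline (Ne.symm hij) (Ne.symm hli) (Ne.symm hlj) hcji hc2
  refine ⟨i, j, l, hij, Ne.symm hlj, Ne.symm hli, hc, hc2, hc3, ?_⟩
  intro p q hpq hcpq
  have d1 := cdisj hφ hl hb hbi hij hpq hc hcpq
  have d2 := cdisj hφ hl hb hbi (Ne.symm hlj) hpq hc2 hcpq
  have d3 := cdisj hφ hl hb hbi (Ne.symm hli) hpq hc3 hcpq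
  constructor
  · by_contra hcon
    push Not at hcon
    obtain ⟨n1, n2, n3⟩ := hcon
    have e1 : q = i ∨ q = j := by
      rcases d1 with h | h | h | h
      · exact absurd h n1
      · exact absurd h n2
      · exact Or.inl h
      · exact Or.inr h
    have e2 : q = j ∨ q = l := by
      rcases d2 with h | h | h | h
      · exact absurd h n2
      · exact absurd h n3
      · exact Or.inl h
      · exact Or.inr h
    have e3 : q = i ∨ q = l := by
      rcases d3 with h | h | h | h
      · exact absurd h n1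
      · exact absurd h n3
      · exact Or.inl h
      · exact Or.inr h
    rcases e1 with rfl | rfl
    · rcases e2 with h | h
      · exact hij h
      · exact hli h.symm
    · rcases e3 with h | h
      · exact hij h.symm
      · exact hlj h.symm
  · by_contra hcon
    push Not at hcon
    obtain ⟨n1, n2, n3⟩ := hcon
    have e1 : p = i ∨ p = j := by
      rcases d1 with h | h | h | h
      · exact Or.inl h
      · exact Or.inr h
      · exact absurd h n1
      · exact absurd h n2
    have e2 : p = j ∨ p = l := by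
      rcases d2 with h | h | h | h
      · exact Or.inl h
      · exact Or.inr h
      · exact absurd h n2
      · exact absurd h n3
    have e3 : p = i ∨ p = l := by
      rcases d3 with h | h | h | h
      · exact Or.inl h
      · exact Or.inr h
      · exact absurd h n1
      · exact absurd h n3
    rcases e1 with rfl | rfl
    · rcases e2 with h | h
      · exact hij h
      · exact hli h.symm
    · rcases e3 with h | h
      · exact hij h.symm
      · exact hlj h.symm

/-- neighbours of `φ (0 1)` are neighbours of `b` -/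
theorem b7 (hT : TTS D) (h3 : Cfsg.IsThreeTranspositionSet D) (hφ : SH (n := 2) D φ)
    (hl : NoTriple D) {b : G} (hb : b ∈ D)
    (c23 : Commute b (φ (swap 2 3))) (c34 : Commute b (φ (swap 3 4))) (c24 : Commute b (φ (swap 2 4)))
    (hbo : ∀ p q, p ≠ q → Commute b (φ (swap p q)) → p ≠ 0 ∧ p ≠ 1 ∧ q ≠ 0 ∧ q ≠ 1) :
    ∀ e ∈ D, e ≠ φ (swap 0 1) → Commute (φ (swap 0 1)) e → Commute b e ∧ e ≠ b := by
  intro e he he01 hc
  have hall : ∀ p q : Fin 5, p ≠ q → p ≠ 0 → p ≠ 1 → q ≠ 0 → q ≠ 1 → Commute b (φ (swap p q)) := by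
    intro p q hpq hp0 hp1 hq0 hq1
    have hp : p = 2 ∨ p = 3 ∨ p = 4 := by revert hp0 hp1; fin_cases p <;> decide
    have hq : q = 2 ∨ q = 3 ∨ q = 4 := by revert hq0 hq1; fin_cases q <;> decide
    rcases hp with rfl | rfl | rfl <;> rcases hq with rfl | rfl | rfl
    · exact absurd rfl hpq
    · exact c23
    · exact c24
    · rw [swap_comm]; exact c23
    · exact absurd rfl hpq
    · exact c34
    · rw [swap_comm]; exact c24
    · rw [swap_comm]; exact c34
    · exact absurd rfl hpq
  have hsw : ∀ i j : Fin 5, φ (swap i j) = φ (swap j i) := fun i j => by rw [swap_comm]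
  by_cases him : ∃ k l, k ≠ l ∧ e = φ (swap k l)
  · obtain ⟨k, l, hkl, rfl⟩ := him
    have hk : k ≠ 0 ∧ k ≠ 1 ∧ l ≠ 0 ∧ l ≠ 1 := by
      refine ⟨?_, ?_, ?_, ?_⟩
      · rintro rfl
        by_cases hl1 : l = 1
        · subst hl1; exact he01 rfl
        · rw [hsw 0 1] at hc
          exact hφ.nc 1 0 l (by decide) hkl (Ne.symm hl1) hc
      · rintro rfl
        by_cases hl0 : l = 0
        · subst hl0; exact he01 (hsw _ _)
        · exact hφ.nc 0 1 l (by decide) hkl (Ne.symm hl0) hc
      · rintro rfl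
        by_cases hk1 : k = 1
        · subst hk1; exact he01 (hsw _ _)
        · rw [hsw 0 1, hsw k 0] at hc
          exact hφ.nc 1 0 k (by decide) (Ne.symm hkl) (Ne.symm hk1) hc
      · rintro rfl
        by_cases hk0 : k = 0
        · subst hk0; exact he01 rfl
        · rw [hsw k 1] at hc
          exact hφ.nc 0 1 k (by decide) (Ne.symm hkl) (Ne.symm hk0) hc
    refine ⟨hall k l hkl hk.1 hk.2.1 hk.2.2.1 hk.2.2.2, ?_⟩
    rintro rfl
    -- `b = φ (k l)` commutes with `φ (0 1)`
    exact (hbo 0 1 (by decide) hc.symm).1 rfl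
  · push Not at him
    have hei : ∀ i j, i ≠ j → e ≠ φ (swap i j) := fun i j hij => him i j hij
    have heb : e ≠ b := by
      rintro rfl
      exact (hbo 0 1 (by decide) hc.symm).1 rfl
    refine ⟨?_, heb⟩
    obtain ⟨i, j, l, hij, hjl, hil, h1, h2, h3', h4⟩ := b_triple hT h3 hφ hl he hei
    obtain ⟨z0, z1⟩ := h4 0 1 (by decide) hc.symm
    -- the third point
    have hr : ∃ r : Fin 5, r ≠ 0 ∧ r ≠ 1 ∧ Commute e (φ (swap 1 r)) ∧
        ∀ p q, p ≠ q → Commute e (φ (swap p q)) → (p = 0 ∨ p = 1 ∨ p = r) ∧ (q = 0 ∨ q = 1 ∨ q = r) := by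
      have s1 := h1; rw [hsw] at s1
      have s2 := h2; rw [hsw] at s2
      have s3 := h3'; rw [hsw] at s3
      rcases z0 with rfl | rfl | rfl <;> rcases z1 with h | h | h
      · exact absurd h (by decide)
      · subst h
        exact ⟨l, Ne.symm hil, Ne.symm hjl, h2, h4⟩
      · subst h
        refine ⟨j, Ne.symm hij, hjl, s2, fun p q hpq hh => ?_⟩
        obtain ⟨w1, w2⟩ := h4 p q hpq hh
        exact ⟨by tauto, by tauto⟩
      · subst h
        refine ⟨l, Ne.symm hjl, Ne.symm hil, h3', fun p q hpq hh => ?_⟩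
        obtain ⟨w1, w2⟩ := h4 p q hpq hh
        exact ⟨by tauto, by tauto⟩
      · exact absurd h (by decide)
      · subst h
        refine ⟨i, hij, hil, s3, fun p q hpq hh => ?_⟩
        obtain ⟨w1, w2⟩ := h4 p q hpq hh
        exact ⟨by tauto, by tauto⟩
      · subst h
        refine ⟨j, hjl, Ne.symm hij, h1, fun p q hpq hh => ?_⟩
        obtain ⟨w1, w2⟩ := h4 p q hpq hh
        exact ⟨by tauto, by tauto⟩
      · subst h
        refine ⟨i, hil, hij, s1, fun p q hpq hh => ?_⟩
        obtain ⟨w1, w2⟩ := h4 p q hpq hh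
        exact ⟨by tauto, by tauto⟩
      · exact absurd h (by decide)
    obtain ⟨r, hr0, hr1, hr, hro⟩ := hr
    have k0 : swap 4 r 0 = 0 := swap_apply_of_ne_of_ne (by decide) (Ne.symm hr0)
    have k1 : swap 4 r 1 = 1 := swap_apply_of_ne_of_ne (by decide) (Ne.symm hr1)
    have k4 : swap 4 r 4 = r := swap_apply_left _ _
    have k2 : swap 4 r 2 ≠ 0 ∧ swap 4 r 2 ≠ 1 ∧ swap 4 r 2 ≠ r := by
      refine ⟨fun h => ?_, fun h => ?_, fun h => ?_⟩
      · exact absurd ((swap 4 r).injective (h.trans k0.symm)) (by decide)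
      · exact absurd ((swap 4 r).injective (h.trans k1.symm)) (by decide)
      · exact absurd ((swap 4 r).injective (h.trans k4.symm)) (by decide)
    have k3 : swap 4 r 3 ≠ 0 ∧ swap 4 r 3 ≠ 1 ∧ swap 4 r 3 ≠ r := by
      refine ⟨fun h => ?_, fun h => ?_, fun h => ?_⟩
      · exact absurd ((swap 4 r).injective (h.trans k0.symm)) (by decide)
      · exact absurd ((swap 4 r).injective (h.trans k1.symm)) (by decide)
      · exact absurd ((swap 4 r).injective (h.trans k4.symm)) (by decide)
    have h6 := b6 hT h3 (hφ.conj (swap 4 r)) hl hb he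
      (fun i j hij => by rw [comp_swap]; exact hei _ _ ((swap 4 r).injective.ne hij))
      (by
        rw [comp_swap, k1]
        intro h
        exact (hbo _ _ (Ne.symm k2.2.1) h).2.1 rfl)
      (by
        rw [comp_swap]
        exact hall _ _ ((swap 4 r).injective.ne (by decide)) k2.1 k2.2.1 k3.1 k3.2.1)
      (by
        rw [comp_swap, k4]
        exact hall _ _ k3.2.2 k3.1 k3.2.1 hr0 hr1)
      (by rw [comp_swap, k1, k4]; exact hr)
      (by
        rw [comp_swap, k1]
        intro h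
        rcases (hro _ _ (Ne.symm k2.2.1) h).2 with h | h | h
        · exact k2.1 h
        · exact k2.2.1 h
        · exact k2.2.2 h)
      (by
        rw [comp_swap, k1]
        intro h
        rcases (hro _ _ (Ne.symm k3.2.1) h).2 with h | h | h
        · exact k3.1 h
        · exact k3.2.1 h
        · exact k3.2.2 h)
    exact h6.symm

/-- everything is in the image -/
theorem mem_image5 (hT : TTS D) (h3 : Cfsg.IsThreeTranspositionSet D) (hφ : SH (n := 2) D φ)
    (hl : NoTriple D)
    (hW : ∀ a ∈ D, ∀ b ∈ D, (∀ e ∈ D, e ≠ a → Commute a e → Commute b e ∧ e ≠ b) → a = b)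
    {b : G} (hb : b ∈ D) : ∃ i j, i ≠ j ∧ b = φ (swap i j) := by
  by_contra hcon
  push Not at hcon
  have hbi : ∀ i j, i ≠ j → b ≠ φ (swap i j) := fun i j hij => hcon i j hij
  obtain ⟨i, j, l, hij, hjl, hil, h1, h2, h3', h4⟩ := b_triple hT h3 hφ hl hb hbi
  let x : Fin 3 ↪ Fin 5 := ⟨![2, 3, 4], by decide⟩
  let y : Fin 3 ↪ Fin 5 := ⟨![i, j, l], by
    intro a b hab
    fin_cases a <;> fin_cases b <;> simp_all [hij, hjl, hil, hij.symm, hjl.symm, hil.symm]⟩
  obtain ⟨σ, hσ⟩ := exists_perm_emb x y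
  have s2 : σ 2 = i := hσ 0
  have s3 : σ 3 = j := hσ 1
  have s4 : σ 4 = l := hσ 2
  have hS := hφ.conj σ
  have key : ∀ p : Fin 5, (σ p = i ∨ σ p = j ∨ σ p = l) → p ≠ 0 ∧ p ≠ 1 := by
    intro p hp
    rw [← s2, ← s3, ← s4] at hp
    rcases hp with h | h | h
    · have := σ.injective h; subst this; decide
    · have := σ.injective h; subst this; decide
    · have := σ.injective h; subst this; decide
  have h7 := b7 hT h3 hS hl hb (by rw [comp_swap, s2, s3]; exact h1) (by rw [comp_swap, s3, s4]; exact h2)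
    (by rw [comp_swap, s2, s4]; exact h3') (by
      intro p q hpq hc
      rw [comp_swap] at hc
      obtain ⟨w1, w2⟩ := h4 _ _ (σ.injective.ne hpq) hc
      exact ⟨(key p w1).1, (key p w1).2, (key q w2).1, (key q w2).2⟩)
  have h8 := hW _ (hS.mem 0 1 (by decide)) b hb h7
  rw [comp_swap] at h8
  exact hbi _ _ (σ.injective.ne (by decide)) h8.symm

theorem SH.injective (hφ : SH (n := 2) D φ) : Function.Injective φ := by
  rw [← MonoidHom.ker_eq_bot_iff, Subgroup.eq_bot_iff_forall]
  intro σ hσ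
  by_contra hne
  obtain ⟨i, hi⟩ : ∃ i, σ i ≠ i := by
    by_contra h
    push Not at h
    exact hne (Perm.ext h)
  obtain ⟨j, hj⟩ := ex_not_mem ({i, σ i} : Finset (Fin 5)) (by
    have := Finset.card_le_two (a := i) (b := σ i)
    rw [Fintype.card_fin]; omega)
  simp only [Finset.mem_insert, Finset.mem_singleton, not_or] at hj
  have h1 := map_conj_swap φ σ i j
  rw [MonoidHom.mem_ker.1 hσ, one_mul, inv_one, mul_one] at h1
  have hsw : ∀ i j : Fin 5, φ (swap i j) = φ (swap j i) := fun i j => by rw [swap_comm]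
  have hij : i ≠ j := Ne.symm hj.1
  have hσij : σ i ≠ σ j := σ.injective.ne hij
  by_cases h2 : σ j = j
  · -- `T_{ij} = T_{σi, j}`
    rw [h2] at h1
    obtain h3 := hφ.nc i j (σ i) hij hj.2 (Ne.symm hi)
    rw [h1, hsw (σ i) j] at h3
    exact h3 (Commute.refl _)
  · by_cases h3 : σ j = i
    · rw [h3] at h1
      have h4 := hφ.nc j i (σ i) (Ne.symm hij) (Ne.symm hi) (hj.2)
      rw [hsw j i, h1, hsw (σ i) i] at h4
      exact h4 (Commute.refl _)
    · exact hφ.ne_disj hij hσij (Ne.symm hi) (Ne.symm h3) hj.2 (Ne.symm h2) h1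

end Cfsg.Agent.H3
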