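import Mathlib
import Cfsg.Agent.H3.ThreeC

/-!
3-transposition groups: no commuting triples when `D_{d,a} = D_{d,x}`.
-/

set_option autoImplicit false
open Equiv Equiv.Perm

namespace Cfsg.Agent.H3

variable {G : Type*} [Group G] {D : Set G}

/-- transitivity of the centralizers -/
def F1 (D : Set G) : Prop := ∀ a ∈ D, ∀ y ∈ D, ∀ y' ∈ D, y ≠ a → Commute a y → y' ≠ a → Commute a y' →
  ∃ g, Commute g a ∧ g * y * g⁻¹ = y'

/-- no proper inclusions -/
def Wk (D : Set G) : Prop :=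
  ∀ a ∈ D, ∀ b ∈ D, (∀ e ∈ D, e ≠ a → Commute a e → Commute b e ∧ e ≠ b) → a = b

theorem exists_path5 (hT : TTS D) {d c x a : G} (hd : d ∈ D) (hc : c ∈ D) (hx : x ∈ D) (ha : a ∈ D)
    (n1 : ¬ Commute d c) (n2 : ¬ Commute c x) (n3 : ¬ Commute x a) (c1 : Commute d x)
    (c2 : Commute d a) (c3 : Commute c a) :
    ∃ φ : Perm (Fin 5) →* G, SH (n := 2) D φ ∧ φ (swap 0 1) = d ∧ φ (swap 1 2) = c ∧
      φ (swap 2 3) = x ∧ φ (swap 3 4) = a := by
  obtain ⟨φ, hφ⟩ := exists_path_hom 4 ![d, c, x, a]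
    (by
      intro i
      fin_cases i
      · exact hT.sq _ hd
      · exact hT.sq _ hc
      · exact hT.sq _ hx
      · exact hT.sq _ ha)
    (by
      intro i j hij
      fin_cases i <;> fin_cases j <;> first
        | exact absurd hij (by decide)
        | exact hT.br _ hd _ hc n1
        | exact hT.br _ hc _ hx n2
        | exact hT.br _ hx _ ha n3)
    (by
      intro i j hij
      fin_cases i <;> fin_cases j <;> first
        | exact absurd hij (by decide)
        | exact c1.eq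
        | exact c2.eq
        | exact c3.eq)
  have h0 : φ (swap 0 1) = d := hφ 0
  have h1 : φ (swap 1 2) = c := hφ 1
  have h2 : φ (swap 2 3) = x := hφ 2
  have h3 : φ (swap 3 4) = a := hφ 3
  refine ⟨φ, SH.of_path (n := 2) hT ?_ ?_, h0, h1, h2, h3⟩
  · rw [h0]; exact hd
  · rw [h0, h1]; exact n1

theorem exists_path7 (hT : TTS D) {d c x y b a : G} (hd : d ∈ D) (hc : c ∈ D) (hx : x ∈ D) (hy : y ∈ D)
    (hb : b ∈ D) (ha : a ∈ D)
    (n1 : ¬ Commute d c) (n2 : ¬ Commute c x) (n3 : ¬ Commute x y) (n4 : ¬ Commute y b)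
    (n5 : ¬ Commute b a) (c1 : Commute d x) (c2 : Commute d y) (c3 : Commute d b) (c4 : Commute d a)
    (c5 : Commute c y) (c6 : Commute c b) (c7 : Commute c a) (c8 : Commute x b) (c9 : Commute x a)
    (c10 : Commute y a) :
    ∃ φ : Perm (Fin 7) →* G, SH (n := 4) D φ ∧ φ (swap 0 1) = d ∧ φ (swap 1 2) = c ∧
      φ (swap 2 3) = x ∧ φ (swap 3 4) = y ∧ φ (swap 4 5) = b ∧ φ (swap 5 6) = a := by
  obtain ⟨φ, hφ⟩ := exists_path_hom 6 ![d, c, x, y, b, a]
    (by
      intro i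
      fin_cases i
      · exact hT.sq _ hd
      · exact hT.sq _ hc
      · exact hT.sq _ hx
      · exact hT.sq _ hy
      · exact hT.sq _ hb
      · exact hT.sq _ ha)
    (by
      intro i j hij
      fin_cases i <;> fin_cases j <;> first
        | exact absurd hij (by decide)
        | exact hT.br _ hd _ hc n1
        | exact hT.br _ hc _ hx n2
        | exact hT.br _ hx _ hy n3
        | exact hT.br _ hy _ hb n4
        | exact hT.br _ hb _ ha n5)
    (by
      intro i j hij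
      fin_cases i <;> fin_cases j <;> first
        | exact absurd hij (by decide)
        | exact c1.eq
        | exact c2.eq
        | exact c3.eq
        | exact c4.eq
        | exact c5.eq
        | exact c6.eq
        | exact c7.eq
        | exact c8.eq
        | exact c9.eq
        | exact c10.eq)
  have h0 : φ (swap 0 1) = d := hφ 0
  have h1 : φ (swap 1 2) = c := hφ 1
  refine ⟨φ, SH.of_path (n := 4) hT ?_ ?_, h0, h1, hφ 2, hφ 3, hφ 4, hφ 5⟩
  · rw [h0]; exact hd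
  · rw [h0, h1]; exact n1

/-- the setting: `D_{d,a} = D_{d,x}` -/
structure DX (D : Set G) (d a x : G) : Prop where
  hd : d ∈ D
  ha : a ∈ D
  hx : x ∈ D
  hda : d ≠ a
  cda : Commute d a
  nxa : ¬ Commute x a
  cxd : Commute x d
  hxe : ∀ e ∈ D, e ≠ d → Commute e d → (e ≠ a ∧ Commute e a ↔ e ≠ x ∧ Commute e x)

theorem DX.exists_c {d a x : G} (h : DX D d a x) (hW : Wk D) :
    ∃ c ∈ D, c ≠ a ∧ Commute c a ∧ ¬ Commute c x ∧ ¬ Commute c d := by
  have h1 : ∃ c ∈ D, c ≠ a ∧ Commute c a ∧ ¬ (Commute x c ∧ c ≠ x) := by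
    by_contra hcon
    push Not at hcon
    have := hW a h.ha x h.hx (fun e he hea hc => hcon e he hea hc.symm)
    exact h.nxa (this ▸ Commute.refl _)
  obtain ⟨c, hc, hca, cca, hn⟩ := h1
  have hcx : c ≠ x := by
    rintro rfl
    exact h.nxa cca
  have hncx : ¬ Commute c x := fun hh => hn ⟨hh.symm, hcx⟩
  refine ⟨c, hc, hca, cca, hncx, fun hcd => ?_⟩
  have hcd' : c ≠ d := by
    rintro rfl
    exact hncx h.cxd.symm
  exact hncx ((h.hxe c hc hcd' hcd).1 ⟨hca, cca⟩).2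

/-- `D_{d,a}` commutes with the whole path -/
theorem DX.path {d a x c : G} (h : DX D d a x) (hT : TTS D) (hc : c ∈ D) (cca : Commute c a)
    (ncx : ¬ Commute c x) (ncd : ¬ Commute c d) :
    ∀ e ∈ D, e ≠ d → e ≠ a → Commute e d → Commute e a → Commute e x ∧ Commute e c := by
  intro e he hed hea ced cea
  obtain ⟨φ, hφ, h0, h1, h2, h3⟩ := exists_path5 hT h.hd hc h.hx h.ha (fun hh => ncd hh.symm) ncx
    h.nxa h.cxd.symm h.cda cca
  refine ⟨((h.hxe e he hed ced).1 ⟨hea, cea⟩).2, ?_⟩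
  let σ : Perm (Fin 5) := swap 0 3 * swap 1 4
  have m1 : φ σ * a * (φ σ)⁻¹ = d := by
    rw [← h3, map_conj_swap, ← h0]; rfl
  have m2 : φ σ * d * (φ σ)⁻¹ = a := by
    rw [← h0, map_conj_swap, ← h3]; rfl
  have m3 : φ σ * φ (swap 0 2) * (φ σ)⁻¹ = x := by
    rw [map_conj_swap, ← h2, swap_comm]; rfl
  have k1 : φ σ * e * (φ σ)⁻¹ ≠ d := by
    rw [← m1]
    intro hh
    exact hea (mul_left_cancel (mul_right_cancel hh))
  have k2 : Commute (φ σ * e * (φ σ)⁻¹) d := by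
    rw [← m1]; exact cm_conj cea
  have k3 : φ σ * e * (φ σ)⁻¹ ≠ a := by
    rw [← m2]
    intro hh
    exact hed (mul_left_cancel (mul_right_cancel hh))
  have k4 : Commute (φ σ * e * (φ σ)⁻¹) a := by
    rw [← m2]; exact cm_conj ced
  have k5 := ((h.hxe _ (hT.cj _ _ he) k1 k2).1 ⟨k3, k4⟩).2
  rw [← m3, cm_conj_iff] at k5
  rw [← h0] at ced
  rw [← h1]
  exact cline (by decide) (by decide) (by decide) ced k5

theorem DX.conj {d a x : G} (h : DX D d a x) (hT : TTS D) (g : G) :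
    DX D (g * d * g⁻¹) (g * a * g⁻¹) (g * x * g⁻¹) := by
  have inj : ∀ u v : G, g * u * g⁻¹ = g * v * g⁻¹ ↔ u = v := by
    intro u v
    constructor
    · intro hh; exact mul_left_cancel (mul_right_cancel hh)
    · rintro rfl; rfl
  refine ⟨hT.cj _ _ h.hd, hT.cj _ _ h.ha, hT.cj _ _ h.hx, fun hh => h.hda ((inj _ _).1 hh),
    cm_conj h.cda, fun hh => h.nxa (cm_conj_iff.1 hh), cm_conj h.cxd, ?_⟩
  intro e he hed ced
  have he' : e = g * (g⁻¹ * e * g) * g⁻¹ := by group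
  have hm : g⁻¹ * e * g ∈ D := by
    have := hT.cj g⁻¹ e he
    rwa [inv_inv] at this
  rw [he'] at hed ced ⊢
  rw [cm_conj_iff] at ced
  rw [cm_conj_iff, cm_conj_iff, Ne, inj, Ne, inj]
  exact h.hxe _ hm (fun hh => hed (by rw [hh])) ced

theorem DX.noD (hT : TTS D) (hF : F1 D) (hW : Wk D) {d a x : G} (h : DX D d a x) {d₁ : G}
    (hd1 : d₁ ∈ D) (n1 : d₁ ≠ d) (n2 : d₁ ≠ a) (c1 : Commute d₁ d) (c2 : Commute d₁ a) : False := by
  obtain ⟨c, hc, hca, cca, ncx, ncd⟩ := h.exists_c hW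
  obtain ⟨g, hga, hg⟩ := hF a h.ha d h.hd d₁ hd1 h.hda h.cda.symm n2 c2.symm
  have hgaa : g * a * g⁻¹ = a := by rw [hga.eq]; group
  have h' := h.conj hT g
  rw [hg, hgaa] at h'
  set x' := g * x * g⁻¹ with hx'
  set c' := g * c * g⁻¹ with hc'
  have hc'D : c' ∈ D := hT.cj _ _ hc
  have cca' : Commute c' a := by rw [← hgaa]; exact cm_conj cca
  have hca' : c' ≠ a := by
    rw [← hgaa]
    intro hh
    exact hca (mul_left_cancel (mul_right_cancel hh))
  have ncx' : ¬ Commute c' x' := fun hh => ncx (cm_conj_iff.1 hh)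
  have ncd' : ¬ Commute c' d₁ := by rw [← hg]; exact fun hh => ncd (cm_conj_iff.1 hh)
  have P := h.path hT hc cca ncx ncd
  have P' := h'.path hT hc'D cca' ncx' ncd'
  obtain ⟨dx', dc'⟩ := P' d h.hd (Ne.symm n1) h.hda c1.symm h.cda
  obtain ⟨d1x, d1c⟩ := P d₁ hd1 n1 n2 c1 c2
  have hcd1 : c ≠ d₁ := by
    rintro rfl
    exact ncd c1
  have hc'd : c' ≠ d := by
    rintro hh
    rw [hh] at ncd'
    exact ncd' c1.symm
  obtain ⟨cx', cc'⟩ := P' c hc hcd1 hca d1c.symm cca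
  obtain ⟨c'x, c'c⟩ := P c' hc'D hc'd hca' dc'.symm cca'
  have hxx' : x' ≠ x := by
    intro hh
    rw [hh] at cx'
    exact ncx cx'
  have hx'd : x' ≠ d := by
    intro hh
    rw [hh] at ncx'
    exact ncx' dc'.symm
  have nxx' : ¬ Commute x x' := by
    intro hh
    exact h'.nxa ((h.hxe x' h'.hx hx'd dx'.symm).2 ⟨hxx', hh.symm⟩).2
  obtain ⟨φ, hφ, l0, l1, l2, l3, l4, l5⟩ := exists_path7 hT h.hd hc h.hx h'.hx hc'D hd1
    (fun hh => ncd hh.symm) ncx nxx' (fun hh => ncx' hh.symm) ncd' h.cxd.symm dx' dc' c1.symm cx' cc'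
    d1c.symm c'x.symm d1x.symm h'.cxd
  -- the relation
  have R : ∀ e ∈ D, e ≠ φ (swap 0 1) → e ≠ φ (swap 2 3) → Commute e (φ (swap 0 1)) →
      Commute e (φ (swap 2 3)) → Commute e (φ (swap 1 2)) := by
    intro e he e1 e2 e3 e4
    rw [l0] at e1 e3
    rw [l2] at e2 e4
    rw [l1]
    obtain ⟨e5, e6⟩ := (h.hxe e he e1 e3).2 ⟨e2, e4⟩
    exact (P e he e1 e5 e3 e6).2
  let σ : Perm (Fin 7) := swap 0 1 * swap 1 2 * swap 2 4 * swap 3 5
  have m0 : φ σ * φ (swap 0 1) * (φ σ)⁻¹ = c := by rw [map_conj_swap, ← l1]; rfl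
  have m2 : φ σ * φ (swap 2 3) * (φ σ)⁻¹ = c' := by rw [map_conj_swap, ← l4]; rfl
  have m1 : φ σ * φ (swap 1 2) * (φ σ)⁻¹ = φ (swap 2 4) := by rw [map_conj_swap]; rfl
  have he' : a = φ σ * ((φ σ)⁻¹ * a * φ σ) * (φ σ)⁻¹ := by group
  have hm : (φ σ)⁻¹ * a * φ σ ∈ D := by
    have := hT.cj (φ σ)⁻¹ a h.ha
    rwa [inv_inv] at this
  have q := R _ hm
    (by
      intro hh
      apply hca
      rw [← m0, ← hh]
      group)
    (by
      intro hh
      apply hca'
      rw [← m2, ← hh]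
      group)
    (by
      rw [← cm_conj_iff (g := φ σ), ← he', m0]; exact cca.symm)
    (by
      rw [← cm_conj_iff (g := φ σ), ← he', m2]; exact cca'.symm)
  rw [← cm_conj_iff (g := φ σ), ← he', m1] at q
  have tD : φ (swap 2 4) ∈ D := hφ.mem 2 4 (by decide)
  have ntx : ¬ Commute (φ (swap 2 4)) x := by
    rw [← l2, swap_comm 2 4]
    exact hφ.nc 4 2 3 (by decide) (by decide) (by decide)
  have ntc : ¬ Commute (φ (swap 2 4)) c := by
    rw [← l1, swap_comm 2 4, swap_comm 1 2]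
    exact hφ.nc 4 2 1 (by decide) (by decide) (by decide)
  have ctd : Commute (φ (swap 2 4)) d := by
    rw [← l0]
    exact SH.cm (n := 4) (by decide) (by decide) (by decide) (by decide)
  have htd : φ (swap 2 4) ≠ d := by
    intro hh
    rw [hh] at ntx
    exact ntx h.cxd.symm
  have hta : φ (swap 2 4) ≠ a := by
    intro hh
    rw [hh] at ntc
    exact ntc cca.symm
  exact ntx ((h.hxe _ tD htd ctd).1 ⟨hta, q.symm⟩).2

theorem DX.noTriple (hT : TTS D) (hF : F1 D) (hW : Wk D) {d a x : G} (h : DX D d a x) :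
    NoTriple D := by
  intro p hp q hq e he hpq hep heq cpq cep ceq
  obtain ⟨g, hg⟩ := hT.cls q hq a h.ha
  obtain ⟨k, hk, hk2⟩ := hF a h.ha (g * p * g⁻¹) (hT.cj _ _ hp) d h.hd
    (by
      rw [← hg]
      intro hh
      exact hpq (mul_left_cancel (mul_right_cancel hh)))
    (by
      rw [← hg]
      exact cm_conj cpq.symm) h.hda h.cda.symm
  have e1 : (k * g) * q * (k * g)⁻¹ = a := by
    calc (k * g) * q * (k * g)⁻¹ = k * (g * q * g⁻¹) * k⁻¹ := by group
      _ = a := by rw [hg, hk.eq]; group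
  have e2 : (k * g) * p * (k * g)⁻¹ = d := by
    rw [← hk2]; group
  refine h.noD hT hF hW (d₁ := (k * g) * e * (k * g)⁻¹) (hT.cj _ _ he) ?_ ?_ ?_ ?_
  · rw [← e2]
    intro hh
    exact hep (mul_left_cancel (mul_right_cancel hh))
  · rw [← e1]
    intro hh
    exact heq (mul_left_cancel (mul_right_cancel hh))
  · rw [← e2]; exact cm_conj cep
  · rw [← e1]; exact cm_conj ceq

end Cfsg.Agent.H3
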