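import Mathlib
import Cfsg.Agent.H3.ThreeD
import Cfsg.Agent.S1613
import Cfsg.Agent.S5350
import Cfsg.Agent.H4.ZStarA
import Cfsg.Agent.H1.Cores

/-!
3-transposition groups: the assembly.
-/

set_option autoImplicit false
open Equiv Equiv.Perm

namespace Cfsg.Agent.H3

variable {G : Type*} [Group G] {D : Set G}

/-- elements of odd order that are involutions or trivial -/
theorem eq_one_of_odd_of_sq {N : Subgroup G} [Finite G] (hN : Odd (Nat.card N)) {u : G} (hu : u ∈ N)
    (h2 : u * u = 1) : u = 1 := by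
  have h1 : orderOf u ∣ Nat.card N := by
    have := orderOf_dvd_natCard (⟨u, hu⟩ : N)
    rwa [Subgroup.orderOf_mk] at this
  have h3 : orderOf u ∣ 2 := orderOf_dvd_of_pow_eq_one (by rw [pow_two, h2])
  have h4 : Nat.Coprime 2 (Nat.card N) := Nat.coprime_two_left.2 hN
  exact orderOf_eq_one_iff.1 (Nat.eq_one_of_dvd_coprimes h4 h3 h1)

/-- transpositions congruent modulo an odd subgroup commute with the same transpositions -/
theorem comm_of_mod_odd [Finite G] (hT : TTS D) {N K : Subgroup G} (hNK : N ≤ K)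
    (hn : ∀ k ∈ K, ∀ n ∈ N, k * n * k⁻¹ ∈ N) (hN : Odd (Nat.card N)) {a x f : G}
    (ha : a ∈ D) (hx : x ∈ D) (hf : f ∈ D) (haK : a ∈ K) (hfK : f ∈ K) (hax : a * x ∈ N)
    (hfa : f ≠ a) (hc : Commute f a) : Commute f x := by
  have hai : a⁻¹ = a := inv_eq_of_mul_eq_one_left (hT.sq a ha)
  have hxi : x⁻¹ = x := inv_eq_of_mul_eq_one_left (hT.sq x hx)
  have hfi : f⁻¹ = f := inv_eq_of_mul_eq_one_left (hT.sq f hf)
  by_contra hne
  -- `x f x = f x f`
  have hbr := hT.br x hx f hf (fun h => hne h.symm)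
  -- `x = a n`
  set n := a * x with hn'
  have hxn : x = a * n := by rw [hn', ← mul_assoc, hT.sq a ha, one_mul]
  have hfaN : f * a ∈ N := by
    -- modulo N : x = a, so a f a = f a f i.e. f = a (as f, a commute)
    have h1 : x * f * x = f * x * f := hbr
    have hxK : x ∈ K := by rw [hxn]; exact K.mul_mem haK (hNK hax)
    -- `a⁻¹ f⁻¹ ...`
    have e1 : x * f * x * (a * f * a)⁻¹ ∈ N := by
      have e2 : x * f * x * (a * f * a)⁻¹ = (x * a⁻¹) * (a * f * (x * a⁻¹) * (a * f)⁻¹) := by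
        group
      have e3 : x * a⁻¹ ∈ N := by
        have := N.inv_mem hax
        rw [hn', mul_inv_rev, hxi] at this
        exact this
      rw [e2]
      exact N.mul_mem e3 (hn _ (K.mul_mem haK hfK) _ e3)
    have e4 : f * x * f * (f * a * f)⁻¹ ∈ N := by
      have e5 : f * x * f * (f * a * f)⁻¹ = f * (x * a⁻¹) * f⁻¹ := by
        group
      have e3 : x * a⁻¹ ∈ N := by
        have := N.inv_mem hax
        rw [hn', mul_inv_rev, hxi] at this
        exact this
      rw [e5]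
      exact hn _ hfK _ e3
    have e6 : a * f * a = f := by rw [mul_assoc, hc.eq, ← mul_assoc, hT.sq a ha, one_mul]
    have e7 : f * a * f = a := by rw [mul_assoc, ← hc.eq, ← mul_assoc, hT.sq f hf, one_mul]
    rw [e6] at e1
    rw [e7, ← h1] at e4
    have e8 : f * a = (x * f * x * f⁻¹)⁻¹ * (x * f * x * a⁻¹) := by
      rw [mul_inv_rev, inv_inv, hai]; group
    rw [e8]
    exact N.mul_mem (N.inv_mem e1) e4
  have h2 : (f * a) * (f * a) = 1 := by
    calc (f * a) * (f * a) = f * (a * f) * a := by simp only [mul_assoc]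
      _ = f * (f * a) * a := by rw [hc.eq]
      _ = (f * f) * (a * a) := by simp only [mul_assoc]
      _ = 1 := by rw [hT.sq f hf, hT.sq a ha, one_mul]
  have h3 := eq_one_of_odd_of_sq hN hfaN h2
  apply hfa
  rw [mul_eq_one_iff_eq_inv, hai] at h3
  exact h3

theorem exists_DX [Finite G] (hT : TTS D) (x₀ : G) (hx : x₀ ∈ D)
    (h : ¬ Cfsg.oddCore ↥(Subgroup.closure {y : G | y ∈ D ∧ y ≠ x₀ ∧ Commute x₀ y}) ≤
      Subgroup.center ↥(Subgroup.closure {y : G | y ∈ D ∧ y ≠ x₀ ∧ Commute x₀ y})) :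
    ∃ a x, DX D x₀ a x := by
  set S := {y : G | y ∈ D ∧ y ≠ x₀ ∧ Commute x₀ y} with hS
  set K := Subgroup.closure S with hK
  have hKc : ∀ k ∈ K, Commute x₀ k := by
    intro k hk
    induction hk using Subgroup.closure_induction with
    | mem y hy => exact hy.2.2
    | one => exact Commute.one_right _
    | mul a b _ _ ha hb => exact ha.mul_right hb
    | inv a _ ha => exact ha.inv_right
  have h1 : ∃ ν ∈ Cfsg.oddCore K, ∃ y : G, ∃ hy : y ∈ S, (ν : G) * y * (ν : G)⁻¹ ≠ y := by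
    by_contra hcon
    push Not at hcon
    apply h
    intro ν hν
    rw [Subgroup.mem_center_iff]
    intro k
    have key : ∀ k ∈ K, Commute (ν : G) k := by
      intro k hk
      induction hk using Subgroup.closure_induction with
      | mem y hy =>
        have := hcon ν hν y hy
        show (ν : G) * y = y * ν
        rw [mul_inv_eq_iff_eq_mul] at this
        exact this
      | one => exact Commute.one_right _
      | mul a b _ _ ha hb => exact ha.mul_right hb
      | inv a _ ha => exact ha.inv_right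
    apply Subtype.ext
    exact (key k k.2).symm.eq
  obtain ⟨ν, hν, y, hy, hne⟩ := h1
  set x := (ν : G) * y * (ν : G)⁻¹ with hxdef
  have hyK : y ∈ K := Subgroup.subset_closure hy
  have hxD : x ∈ D := hT.cj _ _ hy.1
  have hxK : x ∈ K := K.mul_mem (K.mul_mem ν.2 hyK) (K.inv_mem ν.2)
  let N : Subgroup G := (Cfsg.oddCore K).map K.subtype
  have hNodd : Odd (Nat.card N) := by
    rw [Nat.card_congr (Subgroup.equivMapOfInjective _ _ K.subtype_injective).symm.toEquiv]
    exact Cfsg.Agent.H4.oddCore_odd K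
  haveI : (Cfsg.oddCore K).Normal := Cfsg.Agent.H1.pPrimeCore_normal 2 K
  have hNn : ∀ k ∈ K, ∀ n ∈ N, k * n * k⁻¹ ∈ N := by
    rintro k hk n ⟨m, hm, rfl⟩
    exact ⟨⟨k, hk⟩ * m * (⟨k, hk⟩ : K)⁻¹, Subgroup.Normal.conj_mem inferInstance m hm _, rfl⟩
  have hNK : N ≤ K := by
    rintro _ ⟨m, -, rfl⟩
    exact m.2
  have hνN : (ν : G) ∈ N := ⟨ν, hν, rfl⟩
  have hyi : y⁻¹ = y := inv_eq_of_mul_eq_one_left (hT.sq y hy.1)
  have hxi : x⁻¹ = x := inv_eq_of_mul_eq_one_left (hT.sq x hxD)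
  have hyx : y * x ∈ N := by
    have e : y * x = (y * ν * y⁻¹) * (ν : G)⁻¹ := by rw [hxdef, hyi]; group
    rw [e]
    exact N.mul_mem (hNn y hyK _ hνN) (N.inv_mem hνN)
  have hxy : x * y ∈ N := by
    have := N.inv_mem hyx
    rwa [mul_inv_rev, hyi, hxi] at this
  have ncxy : ¬ Commute x y := by
    intro hc
    apply hne
    have h2 : (x * y) * (x * y) = 1 := by
      calc (x * y) * (x * y) = x * (y * x) * y := by simp only [mul_assoc]
        _ = x * (x * y) * y := by rw [hc.eq]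
        _ = (x * x) * (y * y) := by simp only [mul_assoc]
        _ = 1 := by rw [hT.sq x hxD, hT.sq y hy.1, one_mul]
    have h3 := eq_one_of_odd_of_sq hNodd hxy h2
    rw [mul_eq_one_iff_eq_inv, hyi] at h3
    exact h3
  refine ⟨y, x, hx, hy.1, hxD, Ne.symm hy.2.1, hy.2.2, ncxy, (hKc x hxK).symm, ?_⟩
  intro e he hed ced
  have heK : e ∈ K := Subgroup.subset_closure ⟨he, hed, ced.symm⟩
  constructor
  · rintro ⟨hey, cey⟩
    refine ⟨?_, comm_of_mod_odd hT hNK hNn hNodd hy.1 hxD he hyK heK hyx hey cey⟩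
    rintro rfl
    exact ncxy cey
  · rintro ⟨hex, cex⟩
    refine ⟨?_, comm_of_mod_odd hT hNK hNn hNodd hxD hy.1 he hxK heK hxy hex cex⟩
    rintro rfl
    exact ncxy cex.symm

theorem wk_of_class [Finite G] (hsol : ∀ N : Subgroup G, N.Normal → Group.IsSolvable ↥N → N = ⊥)
    (hD : Cfsg.IsThreeTranspositionClass D) : Wk D := by
  have hT := TTS.of_class hD
  haveI : Fact (Nat.Prime 3) := ⟨Nat.prime_three⟩
  have hO : Cfsg.pCore 3 G = ⊥ := by
    apply hsol _ (Cfsg.Agent.H1.pCore_normal 3 G)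
    haveI : Group.IsNilpotent (Cfsg.pCore 3 G) :=
      (Cfsg.Agent.H1.pCore_isPGroup 3 G).isNilpotent
    infer_instance
  intro a ha b hb h
  by_contra hab
  obtain ⟨g, hg⟩ := hT.cls a ha b hb
  have hsub : {y : G | y ∈ D ∧ y ≠ a ∧ Commute a y} ⊆ {y : G | y ∈ D ∧ y ≠ b ∧ Commute b y} := by
    rintro y ⟨hy, hya, hc⟩
    exact ⟨hy, (h y hy hya hc).2, (h y hy hya hc).1⟩
  have himg : {y : G | y ∈ D ∧ y ≠ b ∧ Commute b y} ⊆
      (fun y => g * y * g⁻¹) '' {y : G | y ∈ D ∧ y ≠ a ∧ Commute a y} := by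
    rintro y ⟨hy, hyb, hc⟩
    have e : g * (g⁻¹ * y * g) * g⁻¹ = y := by group
    refine ⟨g⁻¹ * y * g, ⟨?_, ?_, ?_⟩, e⟩
    · have := hT.cj g⁻¹ y hy
      rwa [inv_inv] at this
    · intro hh
      apply hyb
      rw [← e, hh, hg]
    · rw [← cm_conj_iff (g := g), e, hg]
      exact hc
  have heq : {y : G | y ∈ D ∧ y ≠ a ∧ Commute a y} = {y : G | y ∈ D ∧ y ≠ b ∧ Commute b y} := by
    apply Set.eq_of_subset_of_ncard_le hsub _ (Set.toFinite _)
    exact (Set.ncard_le_ncard himg (Set.toFinite _)).trans (Set.ncard_image_le (Set.toFinite _))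
  have h2 := (Cfsg.Agent.S5350.result hD ⟨a, ha, b, hb, hab⟩ ha).2
  have h3 : b ∈ {w : G | w ∈ D ∧ {y : G | y ∈ D ∧ y ≠ a ∧ Commute a y} =
      {y : G | y ∈ D ∧ y ≠ w ∧ Commute w y}} := ⟨hb, heq⟩
  rw [h2] at h3
  obtain ⟨k, hk, hbk⟩ := h3
  rw [hO, Subgroup.mem_bot] at hk
  rw [hk, one_mul, inv_one, mul_one] at hbk
  exact hab hbk.symm

theorem f1_of_class [Finite G] (hsol : ∀ N : Subgroup G, N.Normal → Group.IsSolvable ↥N → N = ⊥)
    (hperf : ⁅commutator G, commutator G⁆ = commutator G)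
    (hD : Cfsg.IsThreeTranspositionClass D) : F1 D := by
  intro a ha y hy y' hy' hya hc hya' hc'
  obtain ⟨g, hg, hgy⟩ := Cfsg.Agent.S1613.result hsol hperf hD a ha y ⟨hy, hya, hc⟩ y' ⟨hy', hya', hc'⟩
  refine ⟨g, ?_, hgy⟩
  clear hgy
  induction hg using Subgroup.closure_induction with
  | mem y hy => exact hy.2.2.symm
  | one => exact Commute.one_left _
  | mul a b _ _ ha hb => exact Commute.mul_left ha hb
  | inv a _ ha => exact Commute.inv_left ha

theorem main_three [Finite G] (hsol : ∀ N : Subgroup G, N.Normal → Group.IsSolvable ↥N → N = ⊥)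
    (hperf : ⁅commutator G, commutator G⁆ = commutator G)
    (hD : Cfsg.IsThreeTranspositionClass D) {d a x : G} (h : DX D d a x) :
    Nonempty (G ≃* Perm (Fin 5)) := by
  have hT := TTS.of_class hD
  have hW := wk_of_class hsol hD
  have hF := f1_of_class hsol hperf hD
  have hl := h.noTriple hT hF hW
  obtain ⟨c, hc, hca, cca, ncx, ncd⟩ := h.exists_c hW
  obtain ⟨φ, hφ, h0, h1, h2, h3⟩ := exists_path5 hT h.hd hc h.hx h.ha (fun hh => ncd hh.symm) ncx
    h.nxa h.cxd.symm h.cda cca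
  have hsurj : Function.Surjective φ := by
    rw [← MonoidHom.range_eq_top, eq_top_iff, ← hD.2.2, Subgroup.closure_le]
    intro b hb
    obtain ⟨i, j, -, rfl⟩ := mem_image5 hT hD.1 hφ hl hW hb
    exact ⟨_, rfl⟩
  exact ⟨(MulEquiv.ofBijective φ ⟨hφ.injective, hsurj⟩).symm⟩

end Cfsg.Agent.H3
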