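import Cfsg.Agent.H3.Quasi
import Cfsg.Agent.H3.ExtCyc

/-!
# Character triples via finite central extensions (helper3)
-/

set_option autoImplicit false
set_option linter.style.haveILetI false
set_option linter.unusedSimpArgs false
set_option linter.unusedSectionVars false
set_option linter.unusedVariables false
open Cfsg
open scoped ComplexConjugate commutatorElement TensorProduct

namespace Cfsg.Agent.H3

universe u v w

section

variable {G : Type u} [Group G] {N : Subgroup G} (hN : N.Normal)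
variable {U : Type v} [AddCommGroup U] [Module ℂ U] [FiniteDimensional ℂ U]
  (ρ : Representation ℂ N U)
variable {V : Type w} [AddCommGroup V] [Module ℂ V] [FiniteDimensional ℂ V]
  (σ : Representation ℂ G V)

/-- action of the finite central extension on `U` -/
noncomputable def hatU : Representation ℂ (hatOne hN ρ σ) U :=
  (Units.coeHom (Module.End ℂ U)).comp ((hatSnd hN ρ).comp (hatOne hN ρ σ).subtype)

theorem hatU_apply (x : hatOne hN ρ σ) :
    hatU hN ρ σ x = ((hatSnd hN ρ x.1 : (Module.End ℂ U)ˣ) : Module.End ℂ U) := rfl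

/-- section over `N` -/
noncomputable def hatOneSec : N →* hatOne hN ρ σ where
  toFun n := ⟨hatSec hN ρ n, by
    rw [mem_hatOne, hatHomRep_sec, map_one]⟩
  map_one' := by apply Subtype.ext; exact map_one _
  map_mul' a b := by apply Subtype.ext; exact map_mul _ _ _

/-- the character of `W` -/
noncomputable def hatBeta : hatOne hN ρ σ → ℂ := fun x => (hatOneRep hN ρ σ).character x

theorem hat_character [Finite G] [ρ.IsIrreducible] [σ.IsIrreducible]
    (hinv : ∀ g : G, cj hN g ρ.character = ρ.character)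
    (hW : 0 < Module.finrank ℂ (homW ρ σ))
    (hdim : Module.finrank ℂ V = Module.finrank ℂ (homW ρ σ) * Module.finrank ℂ U)
    (hU : 0 < Module.finrank ℂ U) (x : hatOne hN ρ σ) :
    σ.character (hatOneProj hN ρ σ x) =
      (hatOneRep hN ρ σ).character x * (hatU hN ρ σ).character x := by
  haveI : Nontrivial (homW ρ σ) := Module.finrank_pos_iff.mp hW
  let L : homW ρ σ ⊗[ℂ] U →ₗ[ℂ] V := TensorProduct.lift (homW ρ σ).subtype
  have hL : ∀ (f : homW ρ σ) (u : U), L (f ⊗ₜ u) = f.1 u := fun f u => by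
    simp [L]
  have hcomm : ∀ (y : hatOne hN ρ σ) (t : homW ρ σ ⊗[ℂ] U),
      L (((hatOneRep hN ρ σ).tprod (hatU hN ρ σ)) y t) = σ (hatOneProj hN ρ σ y) (L t) := by
    intro y t
    induction t using TensorProduct.induction_on with
    | zero => simp
    | add a b ha hb => rw [map_add, map_add, ha, hb, map_add, map_add]
    | tmul f u =>
      rw [Representation.tprod_apply, TensorProduct.map_tmul, hL, hL]
      show (hatHomRep hN ρ σ y.1 (f : homW ρ σ) : U →ₗ[ℂ] V)
        (((hatSnd hN ρ y.1 : (Module.End ℂ U)ˣ) : Module.End ℂ U) u) = _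
      rw [hatHomRep_apply, LinearMap.comp_apply, LinearMap.comp_apply]
      have h1 : (((hatSnd hN ρ y.1)⁻¹ : (Module.End ℂ U)ˣ) : Module.End ℂ U)
          (((hatSnd hN ρ y.1 : (Module.End ℂ U)ˣ) : Module.End ℂ U) u) = u := by
        exact congrArg (fun T : Module.End ℂ U => T u) (hatSnd hN ρ y.1).inv_mul
      rw [h1]
      rfl
  have hstab : ∀ g : G, ∀ v ∈ LinearMap.range L, σ g v ∈ LinearMap.range L := by
    rintro g _ ⟨t, rfl⟩
    obtain ⟨y, hy⟩ := hatOneProj_surjective hN ρ σ hinv hW g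
    exact ⟨_, by rw [hcomm y t, hy]⟩
  let V₀ : Subrepresentation σ := ⟨LinearMap.range L, fun g v hv => hstab g v hv⟩
  have hV₀ : V₀ = ⊤ := by
    rcases IsSimpleOrder.eq_bot_or_eq_top V₀ with h | h
    · exfalso
      have h1 : LinearMap.range L = ⊥ := congrArg Subrepresentation.toSubmodule h
      have h2 : L = 0 := LinearMap.range_eq_bot.mp h1
      obtain ⟨f, hf⟩ := exists_ne (0 : homW ρ σ)
      apply hf
      apply Subtype.ext
      apply LinearMap.ext
      intro u
      have h3 := hL f u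
      rw [h2] at h3
      exact h3.symm
    · exact h
  have hrange : LinearMap.range L = ⊤ := congrArg Subrepresentation.toSubmodule hV₀
  have hsurj := LinearMap.range_eq_top.mp hrange
  have hfr : Module.finrank ℂ (homW ρ σ ⊗[ℂ] U) = Module.finrank ℂ V := by
    haveI : Module.Free ℂ (homW ρ σ) := @Module.Free.of_divisionRing ℂ (homW ρ σ) _
      (homW ρ σ).addCommGroup (homW ρ σ).module
    rw [Module.finrank_tensorProduct, hdim]
  have hinj : Function.Injective L := by
    letI i1 : AddCommGroup (homW ρ σ) := (homW ρ σ).addCommGroup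
    haveI i2 : Module.Free ℂ (homW ρ σ) := @Module.Free.of_divisionRing ℂ (homW ρ σ) _
      (homW ρ σ).addCommGroup (homW ρ σ).module
    haveI : FiniteDimensional ℂ (homW ρ σ ⊗[ℂ] U) := inferInstance
    have h5 := LinearMap.finrank_range_add_finrank_ker L
    rw [hrange, finrank_top, hfr] at h5
    have h6 : Module.finrank ℂ (LinearMap.ker L) = 0 := by omega
    exact LinearMap.ker_eq_bot.1 (Submodule.finrank_eq_zero.1 h6)
  let E : homW ρ σ ⊗[ℂ] U ≃ₗ[ℂ] V := LinearEquiv.ofBijective L ⟨hinj, hsurj⟩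
  have h1 : σ (hatOneProj hN ρ σ x) =
      E.toLinearMap ∘ₗ ((hatOneRep hN ρ σ).tprod (hatU hN ρ σ)) x ∘ₗ E.symm.toLinearMap := by
    apply LinearMap.ext
    intro v
    have h2 := hcomm x (E.symm v)
    have h3 : L (E.symm v) = v := E.apply_symm_apply v
    rw [h3] at h2
    exact h2.symm
  rw [← Pi.mul_apply, ← Representation.char_tensor]
  show LinearMap.trace ℂ V (σ (hatOneProj hN ρ σ x)) = LinearMap.trace ℂ _ _
  rw [h1]
  have h4 := LinearMap.trace_conj' (M := homW ρ σ ⊗[ℂ] U)
    (((hatOneRep hN ρ σ).tprod (hatU hN ρ σ)) x) E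
  rw [LinearEquiv.conj_apply, LinearMap.comp_assoc] at h4
  exact h4

end

/-- **character triples**: a finite central extension over which an invariant character extends -/
theorem exists_triple {G : Type u} [Group G] [Fintype G] {N : Subgroup G} (hN : N.Normal)
    [Fintype N] {m : ℕ} (ρ : Representation ℂ N (Fin m → ℂ)) [ρ.IsIrreducible]
    (hinv : ∀ g : G, cj hN g ρ.character = ρ.character) {χ : G → ℂ} (hχ : IsIrrCharacter G χ)
    (hcon : classInner (fun n : N => χ n) ρ.character ≠ 0) :
    ∃ (Γ : Type u) (_ : Group Γ) (_ : Fintype Γ) (π : Γ →* G) (s : N →* Γ)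
      (τ : Representation ℂ Γ (Fin m → ℂ)) (β : Γ → ℂ), Function.Surjective π ∧
      (∀ n, π (s n) = n) ∧ (∀ x n, x * s n * x⁻¹ = s (cjN hN (π x) n)) ∧
      (∀ n, τ (s n) = ρ n) ∧ IsIrrCharacter Γ β ∧ (∀ n, β (s n) = β 1) ∧
      (∀ x, χ (π x) = τ.character x * β x) ∧
      (∀ x, π x = 1 → ∃ c : ℂ, τ x = c • LinearMap.id) ∧
      (Group.IsSolvable G → Group.IsSolvable Γ) := by
  obtain ⟨k, σ, hσ, rfl⟩ := hχ
  have h1 := finrank_homW ρ σ
  have hW : 0 < Module.finrank ℂ (homW ρ σ) := by
    rw [Nat.pos_iff_ne_zero]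
    intro h
    rw [h] at h1
    apply hcon
    rw [← h1]
    simp
  have hU : 0 < Module.finrank ℂ (Fin m → ℂ) := by
    obtain ⟨d, hd0, hd⟩ := irr_one_eq_nat (isIrrCharacter_of_rep ρ)
    rw [Representation.char_one] at hd
    have : Module.finrank ℂ (Fin m → ℂ) = d := by exact_mod_cast hd
    omega
  have h2 := clifford_invariant hN (isIrrCharacter_of_rep σ) (isIrrCharacter_of_rep ρ) hinv hcon
  have h3 := congrFun h2 1
  rw [← h1] at h3
  simp only [Subgroup.coe_one, Pi.smul_apply, smul_eq_mul, Representation.char_one] at h3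
  have hdim : Module.finrank ℂ (Fin k → ℂ) =
      Module.finrank ℂ (homW ρ σ) * Module.finrank ℂ (Fin m → ℂ) := by exact_mod_cast h3
  haveI := hatOne_finite hN ρ σ hW
  haveI := hatOneRep_irreducible hN ρ σ hinv hW hdim hU
  haveI : Nontrivial (homW ρ σ) := Module.finrank_pos_iff.mp hW
  refine ⟨hatOne hN ρ σ, inferInstance, Fintype.ofFinite _, hatOneProj hN ρ σ, hatOneSec hN ρ σ,
    hatU hN ρ σ, hatBeta hN ρ σ, hatOneProj_surjective hN ρ σ hinv hW, fun n => rfl,
    ?_, fun n => rfl, ?_, ?_, ?_, ?_, ?_⟩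
  · intro x n
    apply Subtype.ext
    exact hatSec_conj hN ρ x.1 n
  · exact isIrrCharacter_of_rep (V := homW ρ σ) (hatOneRep hN ρ σ)
  · intro n
    have h4 : hatHomRep hN ρ σ (hatSec hN ρ n) = hatHomRep hN ρ σ 1 := by
      rw [hatHomRep_sec]; exact (map_one (hatHomRep hN ρ σ)).symm
    exact congrArg (LinearMap.trace ℂ (homW ρ σ)) h4
  · intro x
    rw [hat_character hN ρ σ hinv hW hdim hU x, mul_comm]
    rfl
  · intro x hx
    obtain ⟨c, hc⟩ := hat_eq_scal hN ρ (x := x.1) hx
    refine ⟨c, ?_⟩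
    rw [hatU_apply, hc, hatSnd_scal]
    rfl
  · intro hs
    haveI := hs
    haveI hker : Group.IsSolvable (hatOneProj hN ρ σ).ker := by
      have hcomm : ∀ a b : (hatOneProj hN ρ σ).ker, a * b = b * a := by
        intro a b
        obtain ⟨c, hc⟩ := hat_eq_scal hN ρ (x := (a : hatOne hN ρ σ).1) a.2
        apply Subtype.ext
        apply Subtype.ext
        show (a : hatOne hN ρ σ).1 * (b : hatOne hN ρ σ).1 =
          (b : hatOne hN ρ σ).1 * (a : hatOne hN ρ σ).1
        rw [hc, hatScal_central]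
      exact Group.isSolvable_of_comm hcomm
    exact Group.isSolvable_of_ker_le_range (hatOneProj hN ρ σ).ker.subtype (hatOneProj hN ρ σ)
      (by rw [Subgroup.range_subtype])

end Cfsg.Agent.H3
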